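import Mathlib.FieldTheory.Finite.Basic
import Mathlib.LinearAlgebra.BilinearMap
import Mathlib.Algebra.BigOperators.Ring.Finset

/-!
Polynomial functions on a power of a finite field, their leading parts, and sums over orbits.
-/

set_option autoImplicit false
set_option linter.unusedSectionVars false

namespace Cfsg.Agent.Lib.TensorPowerOrth.Poly

open Finset

variable {F : Type*} [Field F] {d : ℕ}

/-- A monomial. -/
def mono (e : Fin d → ℕ) (γ : Fin d → F) : F := ∏ i, γ i ^ e i

section

variable (F d) (V : Type*) [AddCommGroup V] [Module F V]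

/-- The polynomial functions of degree less than `n`. -/
def Deg (n : ℕ) : Submodule F ((Fin d → F) → V) :=
  Submodule.span F {X | ∃ (e : Fin d → ℕ) (a : V), ∑ i, e i < n ∧ X = fun γ => mono e γ • a}

end

variable {V W U : Type*} [AddCommGroup V] [Module F V] [AddCommGroup W] [Module F W] [AddCommGroup U] [Module F U]

theorem deg_mono {m n : ℕ} (h : m ≤ n) : Deg F d V m ≤ Deg F d V n :=
  Submodule.span_mono fun _ ⟨e, a, he, hX⟩ => ⟨e, a, by omega, hX⟩

theorem deg_const (a : V) {n : ℕ} (hn : 0 < n) : (fun _ => a) ∈ Deg F d V n :=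
  Submodule.subset_span ⟨0, a, by simpa using hn, by simp [mono]⟩

theorem deg_coord (i : Fin d) (a : V) {n : ℕ} (hn : 1 < n) : (fun γ => γ i • a) ∈ Deg F d V n :=
  Submodule.subset_span ⟨Pi.single i 1, a, by simpa using hn, funext fun γ => by
    simp [mono, Pi.single_apply, pow_ite]⟩

theorem deg_comp (L : V →ₗ[F] W) {n : ℕ} {X : (Fin d → F) → V} (h : X ∈ Deg F d V n) :
    (fun γ => L (X γ)) ∈ Deg F d W n := by
  induction h using Submodule.span_induction with
  | mem X hX =>
    obtain ⟨e, a, he, rfl⟩ := hX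
    exact Submodule.subset_span ⟨e, L a, he, funext fun γ => map_smul L _ _⟩
  | zero => simp only [Pi.zero_apply, map_zero]; exact Submodule.zero_mem _
  | add X Y _ _ hX hY => simp only [Pi.add_apply, map_add]; exact Submodule.add_mem _ hX hY
  | smul c X _ hX => simp only [Pi.smul_apply, map_smul]; exact Submodule.smul_mem _ c hX

theorem deg_bil (B : V →ₗ[F] W →ₗ[F] U) {m n N : ℕ} (hN : m + n ≤ N + 1) {X : (Fin d → F) → V}
    (hX : X ∈ Deg F d V m) {Y : (Fin d → F) → W} (hY : Y ∈ Deg F d W n) :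
    (fun γ => B (X γ) (Y γ)) ∈ Deg F d U N := by
  induction hX using Submodule.span_induction with
  | mem X hX =>
    obtain ⟨e, a, he, rfl⟩ := hX
    induction hY using Submodule.span_induction with
    | mem Y hY =>
      obtain ⟨e', b, he', rfl⟩ := hY
      refine Submodule.subset_span ⟨e + e', B a b, ?_, funext fun γ => ?_⟩
      · simp only [Pi.add_apply, Finset.sum_add_distrib]; omega
      · simp only [map_smul, LinearMap.smul_apply, smul_smul, mono, Pi.add_apply, pow_add, Finset.prod_mul_distrib]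
        rw [mul_comm]
    | zero => simp only [Pi.zero_apply, map_zero]; exact Submodule.zero_mem _
    | add Y Z _ _ hY hZ => simp only [Pi.add_apply, map_add]; exact Submodule.add_mem _ hY hZ
    | smul c Y _ hY =>
      simp only [Pi.smul_apply, (B _).map_smul]
      exact Submodule.smul_mem _ c hY
  | zero => simp only [Pi.zero_apply, map_zero, LinearMap.zero_apply]; exact Submodule.zero_mem _
  | add X Z _ _ hX hZ => simp only [Pi.add_apply, map_add, LinearMap.add_apply]; exact Submodule.add_mem _ hX hZ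
  | smul c X _ hX => simp only [Pi.smul_apply, map_smul, LinearMap.smul_apply]; exact Submodule.smul_mem _ c hX

theorem deg_mul {m n N : ℕ} (hN : m + n ≤ N + 1) {X Y : (Fin d → F) → F} (hX : X ∈ Deg F d F m)
    (hY : Y ∈ Deg F d F n) : (fun γ => X γ * Y γ) ∈ Deg F d F N :=
  deg_bil (LinearMap.mul F F) hN hX hY

theorem deg_smul_const {n : ℕ} {φ : (Fin d → F) → F} (h : φ ∈ Deg F d F n) (a : V) :
    (fun γ => φ γ • a) ∈ Deg F d V n :=
  deg_comp (LinearMap.toSpanSingleton F V a) h

/-- A function of degree at most `n` with leading part `φ • a`. -/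
structure Approx (n : ℕ) (φ : (Fin d → F) → F) (a : V) (X : (Fin d → F) → V) : Prop where
  top : φ ∈ Deg F d F (n + 1)
  low : (fun γ => X γ - φ γ • a) ∈ Deg F d V n

theorem Approx.mem {n : ℕ} {φ : (Fin d → F) → F} {a : V} {X : (Fin d → F) → V} (h : Approx n φ a X) :
    X ∈ Deg F d V (n + 1) := by
  have := Submodule.add_mem _ (deg_mono (Nat.le_succ n) h.low) (deg_smul_const h.top a)
  convert this using 1
  funext γ
  exact (sub_add_cancel _ _).symm

theorem Approx.comp {n : ℕ} {φ : (Fin d → F) → F} {a : V} {X : (Fin d → F) → V} (L : V →ₗ[F] W)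
    (h : Approx n φ a X) : Approx n φ (L a) (fun γ => L (X γ)) :=
  ⟨h.top, by simpa [map_sub] using deg_comp L h.low⟩

theorem Approx.bil (B : V →ₗ[F] W →ₗ[F] U) {m n N : ℕ} (hN : m + n = N) {φ ψ : (Fin d → F) → F} {a : V} {b : W}
    {X : (Fin d → F) → V} {Y : (Fin d → F) → W} (hX : Approx m φ a X) (hY : Approx n ψ b Y) :
    Approx N (fun γ => φ γ * ψ γ) (B a b) (fun γ => B (X γ) (Y γ)) := by
  refine ⟨deg_mul (by omega) hX.top hY.top, ?_⟩
  have h1 := deg_bil B (N := N) (by omega) hX.low hY.mem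
  have h2 := deg_bil B (N := N) (by omega) (deg_smul_const hX.top a) hY.low
  convert Submodule.add_mem _ h1 h2 using 1
  funext γ
  simp only [Pi.add_apply, map_sub, map_smul, LinearMap.sub_apply, LinearMap.smul_apply, smul_smul,
    mul_comm (ψ γ)]
  module

section sums

variable [Fintype F]

theorem sum_deg {n : ℕ} (hn : n ≤ (Fintype.card F - 1) * d) {X : (Fin d → F) → F} (h : X ∈ Deg F d F n) :
    ∑ γ, X γ = 0 := by
  classical
  induction h using Submodule.span_induction with
  | mem X hX =>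
    obtain ⟨e, a, he, rfl⟩ := hX
    obtain ⟨i, hi⟩ : ∃ i, e i < Fintype.card F - 1 := by
      by_contra hc
      push Not at hc
      have := Finset.card_nsmul_le_sum Finset.univ e _ fun i _ => hc i
      rw [Finset.card_univ, Fintype.card_fin, smul_eq_mul, mul_comm] at this
      change _ ≤ ∑ i, e i at this
      omega
    rw [← Finset.sum_smul, show (∑ γ : Fin d → F, mono e γ) = ∏ l, ∑ x : F, x ^ e l from
      (Fintype.prod_sum fun l (x : F) => x ^ e l).symm,
      Finset.prod_eq_zero (Finset.mem_univ i) (FiniteField.sum_pow_lt_card_sub_one _ _ hi), zero_smul]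
  | zero => simp
  | add X Y _ _ hX hY => simp [Finset.sum_add_distrib, hX, hY]
  | smul c X _ hX => simp [← Finset.mul_sum, hX]

end sums

/-- A polynomial function of one variable of degree less than four. -/
theorem deg_four {X : (Fin 1 → F) → F} (h : X ∈ Deg F 1 F 4) :
    ∃ c : Fin 4 → F, ∀ γ, X γ = c 0 + c 1 * γ 0 + c 2 * γ 0 ^ 2 + c 3 * γ 0 ^ 3 := by
  induction h using Submodule.span_induction with
  | mem X hX =>
    obtain ⟨e, a, he, rfl⟩ := hX
    rw [Fin.sum_univ_one] at he
    refine ⟨Pi.single ⟨e 0, he⟩ a, fun γ => ?_⟩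
    simp only [mono, Fin.prod_univ_one, smul_eq_mul]
    interval_cases (e 0) <;> simp [Pi.single_apply, mul_comm]
  | zero => exact ⟨0, by simp⟩
  | add X Y _ _ hX hY =>
    obtain ⟨c, hc⟩ := hX
    obtain ⟨c', hc'⟩ := hY
    exact ⟨c + c', fun γ => by simp only [Pi.add_apply, hc, hc']; ring⟩
  | smul s X _ hX =>
    obtain ⟨c, hc⟩ := hX
    exact ⟨s • c, fun γ => by simp only [Pi.smul_apply, smul_eq_mul, hc]; ring⟩

/-- In characteristic three a periodic function of degree less than four is additive up to a constant. -/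
theorem periodic_three (h3 : (3 : F) = 0) (h2 : (2 : F) ≠ 0) {X : (Fin 1 → F) → F} (h : X ∈ Deg F 1 F 4)
    {e : Fin 1 → F} (he : e ≠ 0) (hper : ∀ γ, X (γ + e) = X γ) (γ : Fin 1 → F) : X γ + X (-γ) = 2 * X 0 := by
  obtain ⟨c, hc⟩ := deg_four h
  have he0 : e 0 ≠ 0 := fun h0 => he (funext fun i => by rw [Subsingleton.elim i 0]; exact h0)
  have e0 := hper 0
  have e1 := hper (fun _ => 1)
  rw [hc, hc] at e0 e1
  simp only [Pi.add_apply, Pi.zero_apply, zero_add, one_pow, mul_one, ne_eq, OfNat.ofNat_ne_zero,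
    not_false_eq_true, zero_pow, mul_zero, add_zero] at e0 e1
  have hc2 : c 2 = 0 := by
    have : (2 : F) * e 0 * c 2 = 0 := by
      linear_combination e1 - e0 - c 3 * (e 0 + e 0 ^ 2) * h3
    exact (mul_eq_zero.1 this).resolve_left (mul_ne_zero h2 he0)
  rw [hc, hc, hc, hc2]
  simp only [Pi.neg_apply, Pi.zero_apply]
  ring

section orbits

variable {Γ X : Type*} [AddCommGroup Γ] [Fintype Γ] [DecidableEq X]

/-- A sum over a set closed under an action vanishes when it does on every orbit. -/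
theorem sum_orbits {R : Type*} [AddCommMonoid R] (act : Γ → X → X) (h0 : ∀ x, act 0 x = x)
    (hadd : ∀ a b x, act (a + b) x = act a (act b x)) (Φ : X → R) :
    ∀ S : Finset X, (∀ a, ∀ x ∈ S, act a x ∈ S) →
      (∀ x ∈ S, ∑ y ∈ Finset.univ.image (fun a => act a x), Φ y = 0) → ∑ x ∈ S, Φ x = 0 := by
  intro S
  induction S using Finset.strongInduction with
  | _ S ih =>
    intro hS hsum
    rcases S.eq_empty_or_nonempty with rfl | ⟨x, hx⟩
    · simp
    set O := Finset.univ.image fun a => act a x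
    have hOS : O ⊆ S := fun y hy => by
      obtain ⟨a, -, rfl⟩ := Finset.mem_image.1 hy
      exact hS a x hx
    have hxO : x ∈ O := Finset.mem_image.2 ⟨0, Finset.mem_univ _, h0 x⟩
    rw [← Finset.sum_sdiff hOS, hsum x hx, add_zero]
    refine ih _ (Finset.sdiff_ssubset hOS ⟨x, hxO⟩) (fun a y hy => ?_) fun y hy => hsum y (Finset.mem_sdiff.1 hy).1
    obtain ⟨hyS, hyO⟩ := Finset.mem_sdiff.1 hy
    refine Finset.mem_sdiff.2 ⟨hS a y hyS, fun h => hyO ?_⟩
    obtain ⟨b, -, hb⟩ := Finset.mem_image.1 h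
    refine Finset.mem_image.2 ⟨-a + b, Finset.mem_univ _, ?_⟩
    rw [hadd, hb, ← hadd, neg_add_cancel, h0]

/-- The sum over an orbit of a periodic function additive up to a constant. -/
theorem sum_orbit_odd [DecidableEq Γ] {R : Type*} [Field R] (h2 : (2 : R) ≠ 0) {p n : ℕ} (hp : p.Prime)
    (hpR : (p : R) = 0) (hΓ : Fintype.card Γ = p ^ n) (act : Γ → X → X) (h0 : ∀ x, act 0 x = x)
    (hadd : ∀ a b x, act (a + b) x = act a (act b x)) {x : X} (hmove : ∃ a, act a x ≠ x) (Φ : X → R)
    (hodd : ∀ a, Φ (act a x) + Φ (act (-a) x) = 2 * Φ x) :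
    ∑ y ∈ Finset.univ.image (fun a => act a x), Φ y = 0 := by
  classical
  set O := Finset.univ.image fun a => act a x
  have hO : ∀ y ∈ O, ∃ a, act a x = y := fun y hy => by
    obtain ⟨a, -, ha⟩ := Finset.mem_image.1 hy
    exact ⟨a, ha⟩
  choose γ hγ using hO
  have hneg : ∀ a b, act a x = act b x → act (-a) x = act (-b) x := fun a b h => by
    have h1 := congrArg (act (-a + -b)) h
    rwa [← hadd, ← hadd, add_right_comm, neg_add_cancel, zero_add, add_assoc, neg_add_cancel, add_zero,
      eq_comm] at h1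
  have hmem : ∀ a, act a x ∈ O := fun a => Finset.mem_image.2 ⟨a, Finset.mem_univ _, rfl⟩
  have hS : ∑ y ∈ O, Φ y = ∑ y ∈ O.attach, Φ (act (-γ y.1 y.2) x) := by
    rw [← Finset.sum_attach O]
    refine Finset.sum_nbij' (fun y => ⟨act (-γ y.1 y.2) x, hmem _⟩) (fun y => ⟨act (-γ y.1 y.2) x, hmem _⟩)
      (fun _ _ => Finset.mem_attach _ _) (fun _ _ => Finset.mem_attach _ _) (fun y _ => ?_) (fun y _ => ?_) fun y _ => ?_
    · refine Subtype.ext ?_
      show act (-γ _ _) x = y.1
      rw [hneg _ _ (hγ _ (hmem _)), neg_neg, hγ]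
    · refine Subtype.ext ?_
      show act (-γ _ _) x = y.1
      rw [hneg _ _ (hγ _ (hmem _)), neg_neg, hγ]
    · show Φ y.1 = Φ (act (-γ _ _) x)
      rw [hneg _ _ (hγ _ (hmem _)), neg_neg, hγ]
  have hfib : ∀ y ∈ O, (Finset.univ.filter fun a => act a x = y).card =
      (Finset.univ.filter fun a => act a x = x).card := fun y hy => by
    obtain ⟨b, rfl⟩ : ∃ b, act b x = y := ⟨_, hγ y hy⟩
    refine Finset.card_bij' (fun a _ => a - b) (fun a _ => a + b) (fun a ha => ?_) (fun a ha => ?_)
      (fun a _ => sub_add_cancel a b) fun a _ => add_sub_cancel_right a b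
    · simp only [Finset.mem_filter, Finset.mem_univ, true_and] at ha ⊢
      rw [sub_eq_neg_add, hadd, ha, ← hadd, neg_add_cancel, h0]
    · simp only [Finset.mem_filter, Finset.mem_univ, true_and] at ha ⊢
      rw [add_comm, hadd, ha]
  have hcard : p ^ n = O.card * (Finset.univ.filter fun a => act a x = x).card := by
    rw [← hΓ, ← Finset.card_univ, Finset.card_eq_sum_card_image (fun a => act a x), Finset.sum_congr rfl hfib,
      Finset.sum_const, smul_eq_mul]
  obtain ⟨i, -, hi⟩ := (Nat.dvd_prime_pow hp).1 ⟨_, hcard⟩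
  have hi0 : i ≠ 0 := fun e => by
    obtain ⟨a, ha⟩ := hmove
    rw [e, pow_zero, Finset.card_eq_one] at hi
    obtain ⟨y, hy⟩ := hi
    have h1 := hmem a
    have h2 := hmem 0
    rw [hy, Finset.mem_singleton] at h1 h2
    exact ha (h1.trans (h2.symm.trans (h0 x)))
  have hcast : (O.card : R) = 0 := by rw [hi, Nat.cast_pow, hpR, zero_pow hi0]
  have h : (2 : R) * ∑ y ∈ O, Φ y = 0 := by
    calc (2 : R) * ∑ y ∈ O, Φ y = ∑ y ∈ O.attach, (Φ y.1 + Φ (act (-γ y.1 y.2) x)) := by
          rw [Finset.sum_add_distrib, ← hS, Finset.sum_attach O, two_mul]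
      _ = ∑ _y ∈ O.attach, 2 * Φ x := Finset.sum_congr rfl fun y _ => by
          conv_lhs => arg 1; rw [← hγ y.1 y.2]
          exact hodd _
      _ = 0 := by rw [Finset.sum_const, Finset.card_attach, nsmul_eq_mul, hcast, zero_mul]
  exact (mul_eq_zero.1 h).resolve_left h2

end orbits

end Cfsg.Agent.Lib.TensorPowerOrth.Poly
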