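import Cfsg.Agent.Lib.TensorPowerOrth.Frame

/-!
Skew matrices of one factor: the algebra they form does not split into two commuting parts.
-/

set_option autoImplicit false
set_option linter.unusedSectionVars false

namespace Cfsg.Agent.Lib.TensorPowerOrth.Skew

open Matrix
open Cfsg.Agent.Lib.Subspaces.Transvection Cfsg.Agent.Lib.Subspaces.FormVec
  Cfsg.Agent.Lib.TensorOrthMax.Side Cfsg.Agent.Lib.TensorOrthMax.Setup
  Cfsg.Agent.Lib.TensorPowerOrth.Form Cfsg.Agent.Lib.TensorPowerOrth.Frame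

variable {k : ℕ} {F : Type*} [Field F]

local notation "A1" => Matrix (Fin k) (Fin k) F
local notation "W1" => Fin k → F

/-- The skew transformation of two vectors. -/
def wd (f : (Fin k → F) → (Fin k → F) → F) (a b : Fin k → F) : Matrix (Fin k) (Fin k) F :=
  vecMulVec b (formVec f a) - vecMulVec a (formVec f b)

/-- The commutator of two matrices. -/
def brk {n : Type} [Fintype n] (X Y : Matrix n n F) : Matrix n n F := X * Y - Y * X

variable {f : (Fin k → F) → (Fin k → F) → F} (hf : Sym f)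

/-- The skew matrices. -/
def skew : Submodule F (Matrix (Fin k) (Fin k) F) where
  carrier := {X | ∀ x y, f (X *ᵥ x) y + f x (X *ᵥ y) = 0}
  zero_mem' := fun x y => by rw [zero_mulVec, zero_mulVec, hf.zeroL, hf.zeroR, add_zero]
  add_mem' := fun {X Y} hX hY x y => by
    rw [add_mulVec, add_mulVec, hf.addL, hf.addR]
    linear_combination hX x y + hY x y
  smul_mem' := fun c X hX x y => by
    rw [smul_mulVec, smul_mulVec, hf.smulL, hf.smulR, ← mul_add, hX, mul_zero]

include hf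

theorem wd_mulVec (a b w : W1) : wd f a b *ᵥ w = f w a • b - f w b • a := by
  rw [wd, sub_mulVec, vecMulVec_mulVec, vecMulVec_mulVec, hf.dot, hf.dot]
  simp only [op_smul_eq_smul]

theorem wd_mem (a b : W1) : wd f a b ∈ skew hf := fun x y => by
  rw [wd_mulVec hf, wd_mulVec hf, hf.subL, hf.subR, hf.smulL, hf.smulL, hf.smulR, hf.smulR, hf.comm y a, hf.comm y b]
  ring

theorem wd_self (a : W1) : wd f a a = 0 := sub_self _

theorem wd_anti (a b : W1) : wd f b a = -wd f a b := (neg_sub _ _).symm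

theorem wd_zero (a : W1) : wd f a 0 = 0 :=
  Matrix.mulVec_injective (funext fun w => by simp [wd_mulVec hf, hf.zeroR])

theorem brk_wd {X : A1} (hX : X ∈ skew hf) (a b : W1) :
    brk X (wd f a b) = wd f (X *ᵥ a) b + wd f a (X *ᵥ b) := by
  refine Matrix.mulVec_injective (funext fun w => ?_)
  simp only [brk, sub_mulVec, add_mulVec, ← mulVec_mulVec, wd_mulVec hf, mulVec_sub, mulVec_smul]
  have h1 := hX w a
  have h2 := hX w b
  rw [show f w (X *ᵥ a) = -f (X *ᵥ w) a by linear_combination h1,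
    show f w (X *ᵥ b) = -f (X *ᵥ w) b by linear_combination h2]
  module

/-- An Eichler displacement is a polynomial in the skew transformation. -/
theorem eN_eq {v z : W1} (hv : f v v = 0) (hz : f z v = 0) :
    eN f v z = -wd f v z + (2 : F)⁻¹ • (wd f v z * wd f v z) := by
  refine Matrix.mulVec_injective (funext fun w => ?_)
  rw [eN_mulVec hf, add_mulVec, neg_mulVec, smul_mulVec, ← mulVec_mulVec]
  simp only [wd_mulVec hf, hf.subL, hf.smulL, hv, hf.comm z v, hz]
  match_scalars <;> ring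

variable {v v' : Fin k → F}

/-- Matrices are compared on a frame and its orthogonal. -/
theorem mat_ext (Fm : Fr f v v') {X Y : A1} (h1 : X *ᵥ v = Y *ᵥ v) (h2 : X *ᵥ v' = Y *ᵥ v')
    (h3 : ∀ z, Per f v v' z → X *ᵥ z = Y *ᵥ z) : X = Y := by
  refine Matrix.mulVec_injective (funext fun w => ?_)
  have e : w = f w v' • v + f w v • v' + (w - f w v' • v - f w v • v') := by abel
  rw [e]
  simp only [mulVec_add, mulVec_smul, h1, h2, h3 _ (per_proj hf Fm w)]

theorem hyp_mulVec (Fm : Fr f v v') : wd f v' v *ᵥ v = v ∧ wd f v' v *ᵥ v' = -v' ∧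
    ∀ z, Per f v v' z → wd f v' v *ᵥ z = 0 := by
  refine ⟨?_, ?_, fun z hz => ?_⟩ <;> rw [wd_mulVec hf]
  · rw [Fm.pair, Fm.vv]; module
  · rw [Fm.v'v', Fm.pair' hf]; module
  · rw [hz.1, hz.2]; module

/-- The eigenvectors of the hyperbolic element with eigenvalue one. -/
theorem eigen_one (Fm : Fr f v v') {X : A1} (hX : X ∈ skew hf) (h : brk (wd f v' v) X = X) :
    Per f v v' (X *ᵥ v') ∧ X = wd f v (X *ᵥ v') := by
  obtain ⟨e1, e2, e3⟩ := hyp_mulVec hf Fm
  set H := wd f v' v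
  have key : ∀ w p, -f (X *ᵥ w) (H *ᵥ p) - f (X *ᵥ (H *ᵥ w)) p = f (X *ᵥ w) p := fun w p => by
    have h0 := congrArg (fun Y : A1 => f (Y *ᵥ w) p) h
    simp only [brk, sub_mulVec, ← mulVec_mulVec, hf.subL] at h0
    have h1 : f (H *ᵥ (X *ᵥ w)) p + f (X *ᵥ w) (H *ᵥ p) = 0 := wd_mem hf v' v _ _
    linear_combination h0 - h1
  have h2 := hf.two
  have hzero : ∀ {r : F}, (2 : F) * r = 0 → r = 0 := fun h0 => (mul_eq_zero.1 h0).resolve_left h2
  have hself : ∀ w, f (X *ᵥ w) w = 0 := fun w => hzero (by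
    have := hX w w; rw [hf.comm (X *ᵥ w) w] at this; linear_combination this)
  have a12 : f (X *ᵥ v) v' = 0 := by
    have := key v v'; rw [e1, e2, hf.negR] at this; linear_combination -this
  have a21 : f (X *ᵥ v') v = 0 := by
    have := hX v v'; rw [a12, zero_add, hf.comm] at this; exact this
  have a13 : ∀ y, Per f v v' y → f (X *ᵥ v) y = 0 := fun y hy => hzero (by
    have := key v y; rw [e1, e3 y hy, hf.zeroR, neg_zero, zero_sub] at this; linear_combination -this)
  have a33 : ∀ y y', Per f v v' y → Per f v v' y' → f (X *ᵥ y) y' = 0 := fun y y' hy hy' => by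
    have := key y y'
    rw [e3 y hy, e3 y' hy', mulVec_zero, hf.zeroR, hf.zeroL, neg_zero, sub_zero] at this
    exact this.symm
  have hv : X *ᵥ v = 0 := ext_frame hf Fm (by rw [hf.zeroL, hself]) (by rw [hf.zeroL, a12])
    fun y hy => by rw [hf.zeroL, a13 y hy]
  have hz : Per f v v' (X *ᵥ v') := ⟨a21, hself v'⟩
  refine ⟨hz, mat_ext hf Fm ?_ ?_ fun y hy => ?_⟩
  · rw [hv, wd_mulVec hf, Fm.vv, hf.comm, hz.1]; module
  · rw [wd_mulVec hf, Fm.pair' hf, hf.comm (X *ᵥ v') v', hz.2]; module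
  · refine ext_frame hf Fm ?_ ?_ fun y' hy' => ?_
    · have := hX y v
      rw [hv, hf.zeroR, add_zero] at this
      rw [this, wd_mulVec hf, hy.1, hf.subL, hf.smulL, hf.smulL, Fm.vv]
      ring
    · have := hX y v'
      rw [wd_mulVec hf, hy.1, hf.subL, hf.smulL, hf.smulL, Fm.pair]
      linear_combination this
    · rw [a33 y y' hy hy', wd_mulVec hf, hy.1, hf.subL, hf.smulL, hf.smulL, hf.comm y' v, hy'.1]
      ring

/-- A skew matrix commuting with the root transformations and the hyperbolic element vanishes. -/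
theorem centre_zero (P : Par f) (Fm : Fr f v v') {X : A1} (hX : X ∈ skew hf) (hH : brk X (wd f v' v) = 0)
    (h1 : ∀ z, Per f v v' z → brk X (wd f v z) = 0) (h2 : ∀ z, Per f v v' z → brk X (wd f v' z) = 0) : X = 0 := by
  obtain ⟨e1, e2, e3⟩ := hyp_mulVec hf Fm
  obtain ⟨p, hp, hpp⟩ := exists_aniso P Fm
  have two := hf.two
  have hzero : ∀ {r : F}, (2 : F) * r = 0 → r = 0 := fun h0 => (mul_eq_zero.1 h0).resolve_left two
  have hself : ∀ w, f (X *ᵥ w) w = 0 := fun w => hzero (by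
    have := hX w w; rw [hf.comm (X *ᵥ w) w] at this; linear_combination this)
  have key : ∀ w q, f (X *ᵥ (wd f v' v *ᵥ w)) q + f (X *ᵥ w) (wd f v' v *ᵥ q) = 0 := fun w q => by
    have h0 := congrArg (fun Y : A1 => f (Y *ᵥ w) q) hH
    simp only [brk, sub_mulVec, ← mulVec_mulVec, hf.subL, zero_mulVec, hf.zeroL] at h0
    have h1 : f (wd f v' v *ᵥ (X *ᵥ w)) q + f (X *ᵥ w) (wd f v' v *ᵥ q) = 0 := wd_mem hf v' v _ _
    linear_combination h0 + h1
  set α := f (X *ᵥ v) v'
  have hv : X *ᵥ v = α • v := by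
    refine ext_frame hf Fm ?_ ?_ fun y hy => ?_
    · rw [hself, hf.smulL, Fm.vv, mul_zero]
    · rw [hf.smulL, Fm.pair, mul_one]
    · have := key v y; rw [e1, e3 y hy, hf.zeroR, add_zero] at this
      rw [this, hf.smulL, hf.comm y v, hy.1, mul_zero]
  have hv' : X *ᵥ v' = (-α) • v' := by
    refine ext_frame hf Fm ?_ ?_ fun y hy => ?_
    · have := hX v v'; rw [hf.comm _ v] at this
      rw [hf.smulL, Fm.pair' hf, mul_one]; linear_combination this
    · rw [hself, hf.smulL, Fm.v'v', mul_zero]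
    · have := key v' y; rw [e2, e3 y hy, hf.zeroR, add_zero, mulVec_neg, hf.negL, neg_eq_zero] at this
      rw [this, hf.smulL, hf.comm y v', hy.2, mul_zero]
  have hy1 : ∀ z, Per f v v' z → X *ᵥ z = (-α) • z := fun z hz => by
    have h0 := congrArg (fun Y : A1 => Y *ᵥ v') (h1 z hz)
    rw [brk_wd hf hX, hv] at h0
    simp only [add_mulVec, wd_mulVec hf, zero_mulVec, hf.smulR, Fm.pair' hf] at h0
    have hXz : f v' (X *ᵥ z) = 0 := by
      have := hX z v'
      rw [hv', hf.smulR, hz.2, mul_zero, add_zero, hf.comm] at this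
      exact this
    rw [hf.comm z v', hz.2, hXz] at h0
    linear_combination (norm := module) h0
  have hy2 : ∀ z, Per f v v' z → X *ᵥ z = α • z := fun z hz => by
    have h0 := congrArg (fun Y : A1 => Y *ᵥ v) (h2 z hz)
    rw [brk_wd hf hX, hv'] at h0
    simp only [add_mulVec, wd_mulVec hf, zero_mulVec, hf.smulR, Fm.pair] at h0
    have hXz : f v (X *ᵥ z) = 0 := by
      have := hX z v
      rw [hv, hf.smulR, hz.1, mul_zero, add_zero, hf.comm] at this
      exact this
    rw [hf.comm z v, hz.1, hXz] at h0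
    linear_combination (norm := module) h0
  have hα : α = 0 := by
    have := congrArg (fun w => f w p) ((hy1 p hp).symm.trans (hy2 p hp))
    simp only [hf.smulL] at this
    exact hzero (mul_right_cancel₀ hpp (by linear_combination -this))
  refine mat_ext hf Fm ?_ ?_ fun z hz => ?_ <;> rw [zero_mulVec]
  · rw [hv, hα, zero_smul]
  · rw [hv', hα, neg_zero, zero_smul]
  · rw [hy2 z hz, hα, zero_smul]

/-- Commuting root transformations at opposite vectors. -/
theorem brk_opposite (Fm : Fr f v v') {a c : W1} (ha : Per f v v' a) (hc : Per f v v' c)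
    (h : brk (wd f v a) (wd f v' c) = 0) : f a c = 0 ∧ (a ≠ 0 → c ∈ Submodule.span F {a}) := by
  rw [brk_wd hf (wd_mem hf v a)] at h
  have e1 : wd f v a *ᵥ v' = a := by
    rw [wd_mulVec hf, Fm.pair' hf, hf.comm a v', ha.2]; module
  have e2 : wd f v a *ᵥ c = (-f a c) • v := by
    rw [wd_mulVec hf, hc.1, hf.comm a c]; module
  rw [e1, e2] at h
  have hac : f a c = 0 := by
    have h0 := congrArg (fun Y : A1 => f (Y *ᵥ v) v') h
    simp only [add_mulVec, wd_mulVec hf, zero_mulVec, hf.zeroL, hf.addL, hf.subL, hf.smulL, hf.smulR, Fm.vv,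
      Fm.pair, hf.comm a v, ha.1, hf.comm c v, hc.1] at h0
    linear_combination -h0
  refine ⟨hac, fun hne => ?_⟩
  obtain ⟨w, hw⟩ := hf.sf.exists_one hne
  rw [hac, neg_zero, zero_smul] at h
  have h0 := congrArg (fun Y : A1 => Y *ᵥ w) h
  simp only [add_mulVec, wd_mulVec hf, zero_mulVec, hf.zeroR, hw] at h0
  refine Submodule.mem_span_singleton.2 ⟨f w c, ?_⟩
  linear_combination (norm := module) -h0

omit hf in
/-- The closure of a set of skew matrices under commutators. -/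
def Closed (A : Submodule F (Matrix (Fin k) (Fin k) F)) : Prop := ∀ a ∈ A, ∀ b ∈ A, brk a b ∈ A

/-- The skew matrices do not split into two commuting parts. -/
theorem indecomposable (P : Par f) (Fm : Fr f v v') {A C : Submodule F A1} (hA : A ≤ skew hf) (hC : C ≤ skew hf)
    (hAA : Closed A) (hCC : Closed C) (hcomm : ∀ a ∈ A, ∀ c ∈ C, a * c = c * a) (hsup : skew hf ≤ A ⊔ C) :
    A = ⊥ ∨ C = ⊥ := by
  classical
  have hbr : ∀ {a c : A1}, a ∈ A → c ∈ C → brk a c = 0 := fun ha hc => sub_eq_zero.2 (hcomm _ ha _ hc)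
  have hbr' : ∀ {a c : A1}, a ∈ A → c ∈ C → brk c a = 0 := fun ha hc => sub_eq_zero.2 (hcomm _ ha _ hc).symm
  have hlin : ∀ {X Y Z : A1}, brk X (Y + Z) = brk X Y + brk X Z := fun {X Y Z} => by
    simp only [brk, Matrix.mul_add, Matrix.add_mul]; abel
  have hlin' : ∀ {X Y Z : A1}, brk (Y + Z) X = brk Y X + brk Z X := fun {X Y Z} => by
    simp only [brk, Matrix.mul_add, Matrix.add_mul]; abel
  have hdis : ∀ {X : A1}, X ∈ A → X ∈ C → X = 0 := fun {X} hXA hXC => by
    have hall : ∀ Y ∈ skew hf, brk X Y = 0 := fun Y hY => by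
      obtain ⟨a, ha, c, hc, rfl⟩ := Submodule.mem_sup.1 (hsup hY)
      rw [hlin, hbr' ha hXC, hbr hXA hc, add_zero]
    exact centre_zero hf P Fm (hA hXA) (hall _ (wd_mem hf _ _)) (fun z _ => hall _ (wd_mem hf _ _))
      fun z _ => hall _ (wd_mem hf _ _)
  have hcomp : ∀ {u u' : W1}, Fr f u u' → ∀ z, Per f u u' z → ∃ a c, Per f u u' a ∧ Per f u u' c ∧ a + c = z ∧
      wd f u a ∈ A ∧ wd f u c ∈ C := by
    intro u u' Fu z hz
    obtain ⟨a, ha, c, hc, hac⟩ := Submodule.mem_sup.1 (hsup (wd_mem hf u z))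
    obtain ⟨hA', hhA, hC', hhC, hh⟩ := Submodule.mem_sup.1 (hsup (wd_mem hf u' u))
    have h1 : brk (wd f u' u) a ∈ A := by
      rw [← hh, hlin', hbr' ha hhC, add_zero]; exact hAA _ hhA _ ha
    have h2 : brk (wd f u' u) c ∈ C := by
      rw [← hh, hlin', hbr hhA hc, zero_add]; exact hCC _ hhC _ hc
    have hz0 : brk (wd f u' u) (wd f u z) = wd f u z := by
      obtain ⟨e1, e2, e3⟩ := hyp_mulVec hf Fu
      rw [brk_wd hf (wd_mem hf _ _), e1, e3 z hz]
      simp [wd_zero hf]
    have hsum : brk (wd f u' u) a + brk (wd f u' u) c = a + c := by rw [← hlin, hac, hz0]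
    have heq : brk (wd f u' u) a - a = c - brk (wd f u' u) c := by
      rw [sub_eq_sub_iff_add_eq_add, hsum, add_comm]
    have hzero := hdis (A.sub_mem h1 ha) (heq ▸ C.sub_mem hc h2)
    obtain ⟨pa, qa⟩ := eigen_one hf Fu (hA ha) (sub_eq_zero.1 hzero)
    rw [hzero, eq_comm, sub_eq_zero] at heq
    obtain ⟨pc, qc⟩ := eigen_one hf Fu (hC hc) heq.symm
    refine ⟨_, _, pa, pc, ?_, qa ▸ ha, qc ▸ hc⟩
    rw [← add_mulVec, hac, wd_mulVec hf, Fu.pair' hf, hf.comm z u', hz.2]
    module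
  have hswap : ∀ {z}, Per f v v' z → Per f v' v z := fun h => ⟨h.2, h.1⟩
  have hfin : ∀ {A C : Submodule F A1}, C ≤ skew hf → (∀ a ∈ A, ∀ c ∈ C, brk a c = 0) → Closed A →
      (∀ z, Per f v v' z → wd f v z ∈ A) → (∀ z, Per f v v' z → wd f v' z ∈ A) → C = ⊥ := by
    intro A C hC hbr hAA h1 h2
    obtain ⟨p, hp, hpp⟩ := exists_aniso P Fm
    have hH : wd f v' v ∈ A := by
      have := A.smul_mem (-(f p p)⁻¹) (hAA _ (h1 p hp) _ (h2 p hp))
      rw [brk_wd hf (wd_mem hf v p)] at this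
      rw [show wd f v p *ᵥ v' = p by rw [wd_mulVec hf, Fm.pair' hf, hf.comm p v', hp.2]; module,
        show wd f v p *ᵥ p = (-f p p) • v by rw [wd_mulVec hf, hp.1]; module, wd_self hf, zero_add] at this
      rw [show wd f v' ((-f p p) • v) = (-f p p) • wd f v' v from Matrix.mulVec_injective (funext fun w => by
        simp only [wd_mulVec hf, smul_mulVec, hf.smulR]; module), smul_smul, neg_mul_neg, inv_mul_cancel₀ hpp,
        one_smul] at this
      exact this
    have hneg : ∀ {a c : A1}, brk a c = 0 → brk c a = 0 := fun h => by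
      rw [brk, sub_eq_zero] at h ⊢; exact h.symm
    exact (Submodule.eq_bot_iff C).2 fun X hX => centre_zero hf P Fm (hC hX) (hneg (hbr _ hH _ hX))
      (fun z hz => hneg (hbr _ (h1 z hz) _ hX)) fun z hz => hneg (hbr _ (h2 z hz) _ hX)
  have hone : ∀ {A C : Submodule F A1}, C ≤ skew hf → (∀ a ∈ A, ∀ c ∈ C, brk a c = 0) → Closed A →
      (∀ z, Per f v v' z → ∃ a c, Per f v v' a ∧ Per f v v' c ∧ a + c = z ∧ wd f v a ∈ A ∧ wd f v c ∈ C) →
      (∀ z, Per f v' v z → ∃ a c, Per f v' v a ∧ Per f v' v c ∧ a + c = z ∧ wd f v' a ∈ A ∧ wd f v' c ∈ C) →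
      (∀ c, Per f v v' c → wd f v c ∈ C → c = 0) → C = ⊥ := by
    intro A C hC hbr hAA hd hd' h0
    have h1 : ∀ z, Per f v v' z → wd f v z ∈ A := fun z hz => by
      obtain ⟨a, c, -, hc, rfl, haA, hcC⟩ := hd z hz
      rwa [h0 c hc hcC, add_zero]
    refine hfin hC hbr hAA h1 fun z hz => ?_
    obtain ⟨a, c, -, hc, rfl, haA, hcC⟩ := hd' z (hswap hz)
    have hc0 : c = 0 := per_eq_zero hf Fm ⟨hc.2, hc.1⟩ fun y hy _ =>
      (brk_opposite hf Fm hy ⟨hc.2, hc.1⟩ (hbr _ (h1 y hy) _ hcC)).1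
    rwa [hc0, add_zero]
  by_cases hc0 : ∀ c, Per f v v' c → wd f v c ∈ C → c = 0
  · exact Or.inr (hone hC (fun a ha c hc => hbr ha hc) hAA (hcomp Fm) (hcomp (Fm.symm hf)) hc0)
  by_cases ha0 : ∀ a, Per f v v' a → wd f v a ∈ A → a = 0
  · refine Or.inl (hone hA (fun c hc a ha => hbr' ha hc) hCC ?_ ?_ ha0)
    · intro z hz
      obtain ⟨a, c, h1, h2, h3, h4, h5⟩ := hcomp Fm z hz
      exact ⟨c, a, h2, h1, (add_comm _ _).trans h3, h5, h4⟩
    · intro z hz
      obtain ⟨a, c, h1, h2, h3, h4, h5⟩ := hcomp (Fm.symm hf) z hz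
      exact ⟨c, a, h2, h1, (add_comm _ _).trans h3, h5, h4⟩
  exfalso
  push Not at hc0 ha0
  obtain ⟨c, hcP, hcC, hc⟩ := hc0
  obtain ⟨a, haP, haA, ha⟩ := ha0
  -- the opposite parts lie on the two lines
  have hA' : ∀ x, Per f v v' x → wd f v' x ∈ A → f c x = 0 ∧ x ∈ Submodule.span F {c} := fun x hx hxA =>
    ⟨(brk_opposite hf Fm hcP hx (hbr' hxA hcC)).1, (brk_opposite hf Fm hcP hx (hbr' hxA hcC)).2 hc⟩
  have hC' : ∀ x, Per f v v' x → wd f v' x ∈ C → f a x = 0 ∧ x ∈ Submodule.span F {a} := fun x hx hxC =>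
    ⟨(brk_opposite hf Fm haP hx (hbr haA hxC)).1, (brk_opposite hf Fm haP hx (hbr haA hxC)).2 ha⟩
  have hsmul : ∀ (u x : W1) (s : F), wd f u (s • x) = s • wd f u x := fun u x s =>
    Matrix.mulVec_injective (funext fun w => by simp only [wd_mulVec hf, smul_mulVec, hf.smulR]; module)
  have hind : a ∉ Submodule.span F {c} := fun e => ha (by
    obtain ⟨s, rfl⟩ := Submodule.mem_span_singleton.1 e
    have h0 : wd f v (s • c) = 0 := hdis haA (hsmul v c s ▸ C.smul_mem s hcC)
    have h1 := congrArg (fun Y : A1 => Y *ᵥ v') h0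
    simpa [wd_mulVec hf, Fm.pair' hf, hf.smulR, hf.comm c v', hcP.2] using h1)
  have hspan : ∀ z, Per f v v' z → ∃ x y : F, z = x • c + y • a ∧ (x ≠ 0 → f c c = 0) ∧ (y ≠ 0 → f a a = 0) := by
    intro z hz
    obtain ⟨p, q, hp, hq, rfl, hpA, hqC⟩ := hcomp (Fm.symm hf) z (hswap hz)
    obtain ⟨e1, h1⟩ := hA' p ⟨hp.2, hp.1⟩ hpA
    obtain ⟨e2, h2⟩ := hC' q ⟨hq.2, hq.1⟩ hqC
    obtain ⟨x, rfl⟩ := Submodule.mem_span_singleton.1 h1
    obtain ⟨y, rfl⟩ := Submodule.mem_span_singleton.1 h2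
    refine ⟨x, y, rfl, fun hx => ?_, fun hy => ?_⟩
    · rw [hf.smulR, mul_eq_zero] at e1; exact e1.resolve_left hx
    · rw [hf.smulR, mul_eq_zero] at e2; exact e2.resolve_left hy
  have hcc : f c c = 0 := by
    obtain ⟨x, y, e, hx, -⟩ := hspan c hcP
    refine hx fun x0 => hind ?_
    rw [x0, zero_smul, zero_add] at e
    have hy0 : y ≠ 0 := fun y0 => hc (by rw [e, y0, zero_smul])
    exact Submodule.mem_span_singleton.2 ⟨y⁻¹, by rw [e, inv_smul_smul₀ hy0]⟩
  have haa : f a a = 0 := by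
    obtain ⟨x, y, e, -, hy⟩ := hspan a haP
    refine hy fun y0 => hind ?_
    rw [y0, zero_smul, add_zero] at e
    exact Submodule.mem_span_singleton.2 ⟨x, e.symm⟩
  have hac : f c a ≠ 0 := by
    obtain ⟨p, hp, hpp⟩ := exists_aniso P Fm
    obtain ⟨x, y, rfl, -⟩ := hspan p hp
    intro e
    exact hpp (by simp [hf.addL, hf.addR, hf.smulL, hf.smulR, hcc, haa, e, hf.comm c a])
  set T : Fin 4 → W1 := ![v, v', c, a]
  have htop : ⊤ ≤ Submodule.span F (Set.range T) := fun w _ => by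
    obtain ⟨x, y, e, -⟩ := hspan _ (per_proj hf Fm w)
    rw [show w = f w v' • v + f w v • v' + (w - f w v' • v - f w v • v') by abel, e]
    have hm : ∀ i, T i ∈ Submodule.span F (Set.range T) := fun i => Submodule.subset_span ⟨i, rfl⟩
    exact Submodule.add_mem _ (Submodule.add_mem _ (Submodule.smul_mem _ _ (hm 0)) (Submodule.smul_mem _ _ (hm 1)))
      (Submodule.add_mem _ (Submodule.smul_mem _ _ (hm 2)) (Submodule.smul_mem _ _ (hm 3)))
  have hli : LinearIndependent F T := Fintype.linearIndependent_iff.2 fun g hg => by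
    simp only [T, Fin.sum_univ_four, Matrix.cons_val_zero, Matrix.cons_val_one, Matrix.cons_val_two,
      Matrix.cons_val_three, Matrix.tail_cons, Matrix.head_cons] at hg
    have p1 := congrArg (fun w => f w v') hg
    have p2 := congrArg (fun w => f w v) hg
    have p3 := congrArg (fun w => f w a) hg
    have p4 := congrArg (fun w => f w c) hg
    simp only [hf.addL, hf.smulL, hf.zeroL, Fm.vv, Fm.v'v', Fm.pair, Fm.pair' hf, hcP.1, hcP.2, haP.1, haP.2,
      hf.comm a v, hf.comm a v', hf.comm c v, hf.comm c v', hcc, haa, hf.comm c a, mul_zero, mul_one, add_zero,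
      zero_add, mul_eq_zero, hac, or_false] at p1 p2 p3 p4
    intro i
    fin_cases i <;> assumption
  have hle : (4 : ℕ) ≤ k := by simpa using hli.fintype_card_le_finrank
  have hge : k ≤ 4 := by
    have h1 := Submodule.finrank_mono htop
    rw [finrank_top, Module.finrank_fin_fun] at h1
    exact h1.trans ((finrank_range_le_card T).trans (by simp))
  obtain ⟨s, hs⟩ := Submodule.mem_span_singleton.1 (P.four (le_antisymm hge hle) v c (Fm.ne hf) Fm.vv hcc hcP.1)
  have := hcP.2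
  rw [← hs, hf.smulL, Fm.pair, mul_one] at this
  exact hc (by rw [← hs, this, zero_smul])

end Cfsg.Agent.Lib.TensorPowerOrth.Skew
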