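import Cfsg.Agent.Lib.TensorPowerOrth.Roots
import Cfsg.Agent.Lib.TensorPowerOrth.Skew

/-!
The bilinear map of two vectors into the sums of skew transformations of the factors, equivariant under the
isometries in the stabiliser.
-/

set_option autoImplicit false
set_option linter.unusedSectionVars false

namespace Cfsg.Agent.Lib.TensorPowerOrth.Tensor

open Matrix
open Cfsg.Agent.Lib.Subspaces.Transvection Cfsg.Agent.Lib.Subspaces.FormVec
  Cfsg.Agent.Lib.TensorPowerMax.Basic Cfsg.Agent.Lib.TensorOrthMax.Side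
  Cfsg.Agent.Lib.TensorPowerOrth.Form Cfsg.Agent.Lib.TensorPowerOrth.Frame Cfsg.Agent.Lib.TensorPowerOrth.Roots
  Cfsg.Agent.Lib.TensorPowerOrth.Skew
open Cfsg.Agent.Lib.TensorSympMax.Basic (ins_add_vec ctr_add_vec ctr_smul_vec)

variable {ι : Type} [Fintype ι] [DecidableEq ι] {k : ℕ} {F : Type*} [Field F]

local notation "A1" => Matrix (Fin k) (Fin k) F
local notation "Big" => Matrix (ι → Fin k) (ι → Fin k) F
local notation "GG" => GL (ι → Fin k) F
local notation "W1" => Fin k → F
local notation "Vec" => (ι → Fin k) → F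

/-- The part of two vectors at one factor. -/
def Tm (f : (Fin k → F) → (Fin k → F) → F) (j : ι) (x y : (ι → Fin k) → F) : Matrix (Fin k) (Fin k) F :=
  Matrix.of fun a b =>
    Bt f (ctr j (formVec f (Pi.single b 1)) x) (ctr j (Pi.single a 1) y) -
      Bt f (ctr j (formVec f (Pi.single b 1)) y) (ctr j (Pi.single a 1) x)

/-- The part of two vectors at one factor, as a bilinear map. -/
def TmL (f : (Fin k → F) → (Fin k → F) → F) (j : ι) :
    ((ι → Fin k) → F) →ₗ[F] ((ι → Fin k) → F) →ₗ[F] Matrix (Fin k) (Fin k) F :=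
  LinearMap.mk₂ F (Tm f j)
    (fun x x' y => by ext a b; simp [Tm, map_add, Bt_addL, Bt_addR]; ring)
    (fun c x y => by ext a b; simp [Tm, map_smul, Bt_smulL, Bt_smulR, mul_sub])
    (fun x y y' => by ext a b; simp [Tm, map_add, Bt_addL, Bt_addR]; ring)
    (fun c x y => by ext a b; simp [Tm, map_smul, Bt_smulL, Bt_smulR, mul_sub])

/-- A matrix of one factor on the whole space, as a linear map. -/
def oneL (j : ι) : Matrix (Fin k) (Fin k) F →ₗ[F] Matrix (ι → Fin k) (ι → Fin k) F where
  toFun := oneM j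
  map_add' := oneM_add j
  map_smul' := oneM_smul j

/-- The bilinear map into the sums of skew transformations. -/
def Zm (f : (Fin k → F) → (Fin k → F) → F) :
    ((ι → Fin k) → F) →ₗ[F] ((ι → Fin k) → F) →ₗ[F] Matrix (ι → Fin k) (ι → Fin k) F :=
  ∑ j, (TmL f j).compr₂ (oneL j)

/-- The four-linear form. -/
def u4 (f : (Fin k → F) → (Fin k → F) → F) :
    ((ι → Fin k) → F) →ₗ[F] ((ι → Fin k) → F) →ₗ[F] ((ι → Fin k) → F) →ₗ[F] ((ι → Fin k) → F) →ₗ[F] F :=
  (Zm f).compr₂
    (LinearMap.mk₂ F (fun (X : Matrix (ι → Fin k) (ι → Fin k) F) (z : (ι → Fin k) → F) => BR f (X *ᵥ z))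
      (fun X Y z => LinearMap.ext fun w => by
        show Bt f ((X + Y) *ᵥ z) w = Bt f (X *ᵥ z) w + Bt f (Y *ᵥ z) w
        rw [add_mulVec, Bt_addL])
      (fun c X z => LinearMap.ext fun w => by
        show Bt f ((c • X) *ᵥ z) w = c * Bt f (X *ᵥ z) w
        rw [smul_mulVec, Bt_smulL])
      (fun X z z' => LinearMap.ext fun w => by
        show Bt f (X *ᵥ (z + z')) w = Bt f (X *ᵥ z) w + Bt f (X *ᵥ z') w
        rw [mulVec_add, Bt_addL])
      (fun c X z => LinearMap.ext fun w => by
        show Bt f (X *ᵥ (c • z)) w = c * Bt f (X *ᵥ z) w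
        rw [mulVec_smul, Bt_smulL]))

variable {f : (Fin k → F) → (Fin k → F) → F}

theorem Zm_apply (x y : Vec) : Zm f x y = ∑ j, oneM j (Tm f j x y) := by
  simp [Zm, LinearMap.sum_apply, oneL, TmL]

theorem u4_apply (x y z w : Vec) : u4 f x y z w = Bt f (Zm f x y *ᵥ z) w := rfl

theorem Tm_anti (j : ι) (x y : Vec) : Tm f j y x = -Tm f j x y := by
  ext a b; simp [Tm]

theorem Zm_anti (x y : Vec) : Zm f y x = -Zm f x y := by
  rw [Zm_apply, Zm_apply, ← Finset.sum_neg_distrib]
  exact Finset.sum_congr rfl fun j _ => by rw [Tm_anti, ← neg_one_smul F (Tm f j x y), oneM_smul, neg_one_smul]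

theorem u4_anti (x y z w : Vec) : u4 f y x z w = -u4 f x y z w := by
  rw [u4_apply, u4_apply, Zm_anti, neg_mulVec, Bt_negL]

/-- Bilinear maps agreeing on the pure tensors are equal. -/
theorem lin_ext2 {U : Type*} [AddCommGroup U] [Module F U] {L L' : Vec →ₗ[F] Vec →ₗ[F] U}
    (h : ∀ r s : ι → W1, L (pv r) (pv s) = L' (pv r) (pv s)) : L = L' :=
  lin_ext fun r => lin_ext fun s => h r s

theorem prod_rest {M : Type*} [CommMonoid M] (j : ι) (g : ι → M) :
    ∏ i : {i // i ≠ j}, g i.1 = ∏ i ∈ Finset.univ.erase j, g i :=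
  (Finset.prod_subtype _ (by simp) g).symm

variable (hf : Sym f)
include hf

theorem Tm_pv (j : ι) (r s : ι → W1) :
    Tm f j (pv r) (pv s) = (∏ i ∈ Finset.univ.erase j, f (r i) (s i)) • wd f (r j) (s j) := by
  rw [← prod_rest j fun i => f (r i) (s i)]
  ext a b
  have hc : (∏ i : {i // i ≠ j}, f (s i.1) (r i.1)) = ∏ i : {i // i ≠ j}, f (r i.1) (s i.1) :=
    Finset.prod_congr rfl fun i _ => hf.comm _ _
  simp only [Tm, Matrix.of_apply, ctr_pv, Bt_smulL, Bt_smulR, Bt_pv hf, hc, single_dotProduct, one_mul, hf.dot,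
    wd, Matrix.smul_apply, Matrix.sub_apply, vecMulVec_apply, smul_eq_mul]
  rw [show formVec f (r j) b = f (r j) (Pi.single b 1) by rw [hf.comm]; rfl,
    show formVec f (s j) b = f (s j) (Pi.single b 1) by rw [hf.comm]; rfl]
  ring

theorem Tm_mem (j : ι) (x y : Vec) : Tm f j x y ∈ skew hf := by
  have h : ((skew hf).mkQ).comp ((TmL f j) x) = 0 := lin_ext fun s => by
    have h2 : ((skew hf).mkQ).comp ((TmL f j).flip (pv s)) = 0 := lin_ext fun r => by
      simp only [LinearMap.comp_apply, LinearMap.flip_apply, Submodule.mkQ_apply, LinearMap.zero_apply,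
        Submodule.Quotient.mk_eq_zero]
      show Tm f j (pv r) (pv s) ∈ _
      rw [Tm_pv hf]
      exact Submodule.smul_mem _ _ (wd_mem hf _ _)
    exact LinearMap.congr_fun h2 x
  have := LinearMap.congr_fun h y
  simpa [LinearMap.comp_apply, Submodule.Quotient.mk_eq_zero, TmL] using this

/-- A sum of skew transformations of the factors determines them. -/
theorem sum_unique [Finite F] (P : Par f) {K : ι → A1} (hK : ∀ l, K l ∈ skew hf) (h : ∑ l, oneM l (K l) = 0)
    (j : ι) : K j = 0 := by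
  classical
  obtain ⟨v, v', Fm⟩ := exists_frame P
  obtain ⟨e, -, hee⟩ := exists_aniso P Fm
  set e' : W1 := (f e e)⁻¹ • e
  have hee' : f e e' = 1 := by rw [hf.smulR, inv_mul_cancel₀ hee]
  have hzero : ∀ l, f (K l *ᵥ e) e = 0 := fun l => by
    have h0 : f (K l *ᵥ e) e + f e (K l *ᵥ e) = 0 := hK l e e
    rw [hf.comm (K l *ᵥ e) e] at h0
    exact (mul_eq_zero.1 (show (2 : F) * f (K l *ᵥ e) e = 0 by linear_combination h0)).resolve_left hf.two
  refine Matrix.mulVec_injective (funext fun x => ?_)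
  rw [zero_mulVec]
  refine hf.sf.eq_of_left fun y => ?_
  rw [hf.zeroL]
  set r : ι → W1 := Function.update (fun _ => e) j x
  set s : ι → W1 := Function.update (fun _ => e') j y
  have h0 := congrArg (fun X : Big => Bt f (X *ᵥ pv r) (pv s)) h
  simp only [Matrix.sum_mulVec, Bt_sumL, zero_mulVec, Bt_zeroL, oneM, pt_mulVec, Bt_pv hf] at h0
  rw [Finset.sum_eq_single j ?_ (fun hj => absurd (Finset.mem_univ j) hj)] at h0
  · rw [← Finset.mul_prod_erase Finset.univ _ (Finset.mem_univ j), Finset.prod_eq_one fun i hi => ?_, mul_one] at h0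
    · simpa only [Function.update_self, r, s] using h0
    · simp only [r, s, Function.update_of_ne (Finset.ne_of_mem_erase hi), Pi.one_apply, one_mulVec, hee']
  · intro l _ hl
    refine Finset.prod_eq_zero (Finset.mem_univ l) ?_
    simp only [r, s, Function.update_self, Function.update_of_ne hl, e', hf.smulR, hzero, mul_zero]

/-- Equivariance of the parts under the isometries in the stabiliser. -/
theorem Zm_conj (hk : 0 < k) {g : GG} (hg : g ∈ SI ι f) (x y : Vec) :
    Zm f ((g : Big) *ᵥ x) ((g : Big) *ᵥ y) = (g : Big) * Zm f x y * ((g⁻¹ : GG) : Big) := by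
  obtain ⟨⟨a, π, rfl⟩, hiso⟩ := hg
  obtain ⟨c, hc1, hc⟩ := similitudes hf hiso hk
  set g : GG := ptGL a * pmGL π
  let cj : Big →ₗ[F] Big :=
    (LinearMap.mulLeft F (g : Big)).comp (LinearMap.mulRight F ((g⁻¹ : GG) : Big))
  have h : ((Zm f).compl₂ (g : Big).mulVecLin).comp (g : Big).mulVecLin = (Zm f).compr₂ cj := by
    refine lin_ext2 fun r s => ?_
    show Zm f ((g : Big) *ᵥ pv r) ((g : Big) *ᵥ pv s) = (g : Big) * (Zm f (pv r) (pv s) * ((g⁻¹ : GG) : Big))
    rw [tw_mulVec, tw_mulVec, Zm_apply, Zm_apply, Matrix.sum_mul, Matrix.mul_sum]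
    refine (Fintype.sum_equiv π _ _ fun i => ?_).symm
    rw [← Matrix.mul_assoc, TensorPowerMax.Split.tw_conj_oneM, Tm_pv hf, Tm_pv hf]
    congr 1
    have hw : wd f ((a (π i) : A1) *ᵥ r i) ((a (π i) : A1) *ᵥ s i) =
        c (π i) • ((a (π i) : A1) * wd f (r i) (s i) * (((a (π i))⁻¹ : GL (Fin k) F) : A1)) := by
      refine Matrix.mulVec_injective (funext fun w => ?_)
      rw [← gl_mulVec_inv (a (π i)) w]
      set w' := (((a (π i))⁻¹ : GL (Fin k) F) : A1) *ᵥ w
      rw [smul_mulVec, wd_mulVec hf, hc, hc, ← mulVec_mulVec, ← mulVec_mulVec, gl_inv_mulVec, wd_mulVec hf,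
        mulVec_sub, mulVec_smul, mulVec_smul]
      module
    have hprod : ∏ l ∈ Finset.univ.erase (π i), f ((a l : A1) *ᵥ r (π.symm l)) ((a l : A1) *ᵥ s (π.symm l)) =
        (∏ l ∈ Finset.univ.erase (π i), c l) * ∏ l ∈ Finset.univ.erase i, f (r l) (s l) := by
      simp only [hc, Finset.prod_mul_distrib]
      congr 1
      exact Finset.prod_equiv π.symm (fun l => by simp [Equiv.eq_symm_apply, eq_comm, π.symm_apply_eq]) fun l _ => rfl
    rw [hprod, Equiv.symm_apply_apply, hw, smul_smul, mul_right_comm,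
      Finset.prod_erase_mul Finset.univ c (Finset.mem_univ (π i)), hc1, one_mul, Matrix.mul_smul, Matrix.smul_mul]
  have := LinearMap.congr_fun₂ h x y
  rw [Matrix.mul_assoc]
  exact this

theorem u4_inv (hk : 0 < k) {g : GG} (hg : g ∈ SI ι f) (x y z w : Vec) :
    u4 f ((g : Big) *ᵥ x) ((g : Big) *ᵥ y) ((g : Big) *ᵥ z) ((g : Big) *ᵥ w) = u4 f x y z w := by
  rw [u4_apply, u4_apply, Zm_conj hf hk hg, mulVec_mulVec, Matrix.mul_assoc, ← Units.val_mul, inv_mul_cancel,
    Units.val_one, mul_one, ← mulVec_mulVec]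
  exact hg.2 _ _

/-- Two vectors whose image is one skew transformation of one factor. -/
theorem Zm_single [Finite F] (P : Par f) (j : ι) (a b : W1) :
    ∃ x y : Vec, Zm f x y = oneM j (wd f a b) := by
  classical
  obtain ⟨v, v', Fm⟩ := exists_frame P
  obtain ⟨e, -, hee⟩ := exists_aniso P Fm
  refine ⟨pv (Function.update (fun _ => e) j a), pv (Function.update (fun _ => (f e e)⁻¹ • e) j b), ?_⟩
  rw [Zm_apply, Finset.sum_eq_single j ?_ (fun hj => absurd (Finset.mem_univ j) hj)]
  · rw [Tm_pv hf, Function.update_self, Function.update_self, Finset.prod_eq_one fun i hi => ?_, one_smul]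
    rw [Function.update_of_ne (Finset.ne_of_mem_erase hi), Function.update_of_ne (Finset.ne_of_mem_erase hi),
      hf.smulR, inv_mul_cancel₀ hee]
  · intro l _ hl
    rw [Tm_pv hf, Function.update_of_ne hl, Function.update_of_ne hl]
    rw [show wd f e ((f e e)⁻¹ • e) = 0 from Matrix.mulVec_injective (funext fun w => by
      simp only [wd_mulVec hf, hf.smulR, zero_mulVec]; module), smul_zero, oneM_zero]

/-- The skew transformations of pairs span the skew matrices. -/
theorem skew_le_span [Finite F] : skew hf ≤ Submodule.span F (Set.range fun p : W1 × W1 => wd f p.1 p.2) := by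
  classical
  intro X hX
  have hdual : ∀ a : Fin k, ∃ u : W1, ∀ b, f u (Pi.single b 1) = if b = a then 1 else 0 := fun a => by
    have hna : (Pi.single a (1 : F) : W1) ∉
        Submodule.span F (Set.range fun b : {b // b ≠ a} => (Pi.single b.1 (1 : F) : W1)) := fun e => by
      have h0 : Submodule.span F (Set.range fun b : {b // b ≠ a} => (Pi.single b.1 (1 : F) : W1)) ≤
          LinearMap.ker (LinearMap.proj a : W1 →ₗ[F] F) := Submodule.span_le.2 (by
        rintro _ ⟨b, rfl⟩
        simp [b.2.symm])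
      simpa using h0 e
    obtain ⟨u, hu, hua⟩ := hf.dual hna
    refine ⟨u, fun b => ?_⟩
    split_ifs with hb
    · rw [hb, hua]
    · exact hu _ (Submodule.subset_span ⟨⟨b, hb⟩, rfl⟩)
  choose u hu using hdual
  have e1 : ∀ y : W1, ∑ a, f y (Pi.single a 1) • u a = y := fun y => by
    refine hf.sf.eq_of_left fun w => ?_
    have hL : ∀ z, f z w = ∑ b, w b * f z (Pi.single b 1) := fun z => by
      rw [hf.comm, ← gram_form hf, dotProduct]
      refine Finset.sum_congr rfl fun b _ => ?_
      rw [gram_mulVec hf]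
      exact congrArg (w b * ·) (hf.comm _ _)
    rw [hL, hL y]
    refine Finset.sum_congr rfl fun b _ => congrArg (w b * ·) ?_
    let L : W1 →ₗ[F] F :=
      { toFun := fun z => f z (Pi.single b 1)
        map_add' := fun x z => hf.addL x z _
        map_smul' := fun c x => hf.smulL c x _ }
    show L (∑ a, f y (Pi.single a 1) • u a) = _
    rw [map_sum]
    simp [L, hf.smulL, hu]
  have e2 : X = (2 : F)⁻¹ • ∑ a, wd f (u a) (X *ᵥ Pi.single a 1) := by
    refine Matrix.mulVec_injective (funext fun w => ?_)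
    rw [smul_mulVec, Matrix.sum_mulVec]
    simp only [wd_mulVec hf]
    rw [Finset.sum_sub_distrib]
    have q1 : ∑ a, f w (u a) • (X *ᵥ Pi.single a 1) = X *ᵥ w := by
      have hw : ∀ a, f w (u a) = w a := fun a => by
        rw [← gram_form hf, gram_mulVec hf, dotProduct]
        rw [Finset.sum_eq_single a]
        · rw [show formVec f (u a) a = f (u a) (Pi.single a 1) by rw [hf.comm]; rfl, hu, if_pos rfl, mul_one]
        · intro b _ hb
          rw [show formVec f (u a) b = f (u a) (Pi.single b 1) by rw [hf.comm]; rfl, hu, if_neg hb, mul_zero]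
        · simp
      simp only [hw, ← mulVec_smul, ← Matrix.mulVec_sum]
      rw [show ∑ a, w a • (Pi.single a (1 : F) : W1) = w by simp [← Pi.single_smul, Finset.univ_sum_single]]
    have q2 : ∑ a, f w (X *ᵥ Pi.single a 1) • u a = -(X *ᵥ w) := by
      rw [eq_neg_iff_add_eq_zero]
      conv_lhs => arg 2; rw [← e1 (X *ᵥ w)]
      rw [← Finset.sum_add_distrib]
      exact Finset.sum_eq_zero fun a _ => by rw [← add_smul, add_comm, hX, zero_smul]
    rw [q1, q2, sub_neg_eq_add, ← two_smul F, inv_smul_smul₀ hf.two]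
  rw [e2]
  exact Submodule.smul_mem _ _ (Submodule.sum_mem _ fun a _ => Submodule.subset_span ⟨(_, _), rfl⟩)

end Cfsg.Agent.Lib.TensorPowerOrth.Tensor
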