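import Cfsg.Agent.Lib.TensorPowerOrth.Fusion
import Cfsg.Agent.Lib.TensorPowerOrth.Poly
import Cfsg.Agent.Lib.TensorPowerOrth.Tensor
import Cfsg.Agent.Lib.TensorSympMax.Quad

/-!
An overgroup none of whose outside elements carries a block to a block lies in the stabiliser: it preserves
the four-linear form, hence the sum of the algebras of the factors, whose parts it must permute.
-/

set_option autoImplicit false
set_option linter.unusedSectionVars false
set_option linter.style.haveILetI false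
set_option maxSynthPendingDepth 5

namespace Cfsg.Agent.Lib.TensorPowerOrth.Core

open Matrix
open Cfsg.Agent.Lib.Subspaces.Transvection Cfsg.Agent.Lib.Subspaces.FormVec
  Cfsg.Agent.Lib.TensorPowerMax.Basic Cfsg.Agent.Lib.TensorOrthMax.Side Cfsg.Agent.Lib.TensorOrthMax.Setup
  Cfsg.Agent.Lib.TensorPowerOrth.Form Cfsg.Agent.Lib.TensorPowerOrth.Frame Cfsg.Agent.Lib.TensorPowerOrth.Roots
  Cfsg.Agent.Lib.TensorPowerOrth.Skew Cfsg.Agent.Lib.TensorPowerOrth.Poly Cfsg.Agent.Lib.TensorPowerOrth.Tensor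
open Cfsg.Agent.Lib.TensorSympMax.Quad (Maps maps_of_le)
open Cfsg.Agent.Lib.TensorSympMax.Basic (ins_add_vec ins_zero_vec ctr_add_vec ctr_smul_vec)

variable {ι : Type} [Fintype ι] [DecidableEq ι] {k : ℕ} {F : Type*} [Field F]

local notation "A1" => Matrix (Fin k) (Fin k) F
local notation "Big" => Matrix (ι → Fin k) (ι → Fin k) F
local notation "GG" => GL (ι → Fin k) F
local notation "W1" => Fin k → F
local notation "Vec" => (ι → Fin k) → F

/-! ### one factor to one factor -/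

/-- An element carrying a rank one matrix of a factor to a matrix of a factor carries a block to a block. -/
theorem maps_of_oneM (hk : 0 < k) (x : GG) (j l : ι) {v : W1} (hv : v ≠ 0) {N K : A1}
    (hN : ∀ w, N *ᵥ w ∈ Submodule.span F {v}) (hN0 : N ≠ 0) (h : (x : Big) * oneM j N = oneM l K * (x : Big)) :
    ∃ w : W1, w ≠ 0 ∧ Maps x j v l w := by
  obtain ⟨y0, hy0⟩ : ∃ y, N *ᵥ y ≠ 0 := by
    by_contra hc
    push Not at hc
    exact hN0 (Matrix.mulVec_injective (funext fun y => by rw [hc, zero_mulVec]))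
  have hrange : LinearMap.range N.mulVecLin = Submodule.span F {v} := by
    refine le_antisymm (by rintro _ ⟨w, rfl⟩; exact hN w) (Submodule.span_le.2 (Set.singleton_subset_iff.2 ?_))
    obtain ⟨c, hc⟩ := Submodule.mem_span_singleton.1 (hN y0)
    have hc0 : c ≠ 0 := fun e => hy0 (by rw [← hc, e, zero_smul])
    exact ⟨c⁻¹ • y0, by rw [map_smul, Matrix.mulVecLin_apply, ← hc, inv_smul_smul₀ hc0]⟩
  have hr : (oneM j N).rank = (oneM l K).rank := by
    have e1 : ((x : Big) * oneM j N).rank = (oneM j N).rank :=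
      Matrix.rank_mul_eq_right_of_det_ne_zero _ _ (GeneralLinearGroup.det_ne_zero x)
    have e2 : (oneM l K * (x : Big)).rank = (oneM l K).rank :=
      Matrix.rank_mul_eq_left_of_det_ne_zero _ _ (GeneralLinearGroup.det_ne_zero x)
    rw [← e1, h, e2]
  rw [Perm.rank_oneM, Perm.rank_oneM] at hr
  have hK : Module.finrank F (LinearMap.range K.mulVecLin) = 1 := by
    have h1 : N.rank = 1 := by rw [Matrix.rank, hrange, finrank_span_singleton hv]
    rw [h1] at hr
    exact (Nat.eq_of_mul_eq_mul_left (pow_pos hk _) hr).symm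
  obtain ⟨⟨w, hw⟩, hw0, hall⟩ := finrank_eq_one_iff'.1 hK
  have hw' : w ≠ 0 := fun e => hw0 (Subtype.ext e)
  choose φ hφ using fun b : Fin k => hall ⟨K *ᵥ Pi.single b 1, LinearMap.mem_range_self K.mulVecLin _⟩
  have hKeq : K = vecMulVec w φ := Matrix.ext fun a b => by
    have := congrFun (congrArg Subtype.val (hφ b)) a
    simp only [Submodule.coe_smul, Pi.smul_apply, smul_eq_mul, mulVec_single_one, Matrix.col_apply] at this
    rw [vecMulVec_apply, mul_comm]
    exact this.symm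
  obtain ⟨y, hy⟩ : v ∈ LinearMap.range N.mulVecLin := by rw [hrange]; exact Submodule.mem_span_singleton_self v
  refine ⟨w, hw', maps_of_le hv hw' fun u => ?_⟩
  have hy' : N *ᵥ y = v := hy
  rw [← hy', ← TensorPowerMax.Roots.oneM_mulVec_ins, mulVec_mulVec, h, ← mulVec_mulVec, hKeq, oneM_mulVec]
  exact LinearMap.mem_range_self _ _

variable {f : (Fin k → F) → (Fin k → F) → F}

/-- No element outside the stabiliser carries an isotropic block to a block. -/
def NoBlock (f : (Fin k → F) → (Fin k → F) → F) (M : Subgroup (GL (ι → Fin k) F)) : Prop :=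
  ∀ x ∈ M, ∀ (j l : ι) (v w : Fin k → F), v ≠ 0 → f v v = 0 → w ≠ 0 → Maps x j v l w → x ∈ stab ι k F

variable {M : Subgroup (GL (ι → Fin k) F)}

/-- An element carrying the square of an Eichler displacement to a matrix of one factor lies in the
stabiliser. -/
theorem stab_of_sq [Fintype F] (S : Setting f M) (NB : NoBlock f M) {x : GG} (hx : x ∈ M) (j l : ι) {v z : W1}
    (hv0 : v ≠ 0) (hv : f v v = 0) (hz : f z v = 0) (hzz : f z z ≠ 0) {K : A1}
    (h : (x : Big) * oneM j (eN f v z * eN f v z) = oneM l K * (x : Big)) : x ∈ stab ι k F := by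
  have hf := S.sym
  obtain ⟨w, hw, hm⟩ := maps_of_oneM (by have := S.hk; omega) x j l hv0 (N := eN f v z * eN f v z) (fun w => by
      rw [← mulVec_mulVec, eN_comp hf hv hz hz]
      exact Submodule.smul_mem _ _ (Submodule.mem_span_singleton_self v))
    (fun e => by
      have := (Fusion.eN_ranks hf (Fusion.seed_of hf hv0 hv hz hzz) hzz).2
      rw [e, Matrix.rank_zero] at this
      exact zero_ne_one this) h
  exact NB x hx j l v w hv0 hv hw hm

theorem stab_of_one [Fintype F] (S : Setting f M) (NB : NoBlock f M) {x : GG} (hx : x ∈ M) (j : ι) {v z : W1}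
    (hv0 : v ≠ 0) (hv : f v v = 0) (hz : f z v = 0) (hzz : f z z ≠ 0)
    (h : ∃ (l : ι) (b : A1), ((x * rt f j v z * x⁻¹ : GG) : Big) = oneM l b) : x ∈ stab ι k F := by
  obtain ⟨l, b, hb⟩ := h
  have h1 : (x : Big) * oneM j (eN f v z) = oneM l (b - 1) * (x : Big) := by
    have h2 : ((x * rt f j v z * x⁻¹ : GG) : Big) * (x : Big) = (x : Big) * (rt f j v z : Big) := by
      rw [← Units.val_mul, inv_mul_cancel_right, Units.val_mul]
    rw [hb, coe_rt S.sym j hv hz, mul_add, mul_one] at h2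
    have e : oneM l (b - 1) = oneM l b - (1 : Big) := by
      rw [eq_sub_iff_add_eq]
      conv_lhs => arg 2; rw [← oneM_one (F := F) (m := k) l]
      rw [← oneM_add, sub_add_cancel]
    rw [e, sub_mul, one_mul, h2, add_sub_cancel_left]
  refine stab_of_sq S NB hx j l hv0 hv hz hzz (K := (b - 1) * (b - 1)) ?_
  rw [← oneM_mul, ← oneM_mul, ← mul_assoc, h1, mul_assoc, h1, mul_assoc]

/-! ### pulling back four-linear forms -/

/-- The pull-back of a four-linear form. -/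
def pull (A : Vec →ₗ[F] Vec) (L : Vec →ₗ[F] Vec →ₗ[F] Vec →ₗ[F] Vec →ₗ[F] F) :
    Vec →ₗ[F] Vec →ₗ[F] Vec →ₗ[F] Vec →ₗ[F] F :=
  (((LinearMap.llcomp F Vec (Vec →ₗ[F] Vec →ₗ[F] F) (Vec →ₗ[F] Vec →ₗ[F] F)
      ((LinearMap.llcomp F Vec (Vec →ₗ[F] F) (Vec →ₗ[F] F) (LinearMap.lcomp F F A)).comp
        (LinearMap.lcomp F (Vec →ₗ[F] F) A))).comp
    (LinearMap.lcomp F (Vec →ₗ[F] Vec →ₗ[F] F) A)).comp L).comp A

theorem pull_apply (A : Vec →ₗ[F] Vec) (L : Vec →ₗ[F] Vec →ₗ[F] Vec →ₗ[F] Vec →ₗ[F] F) (a b c d : Vec) :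
    pull A L a b c d = L (A a) (A b) (A c) (A d) := rfl

/-! ### the four-linear form is invariant -/

/-- The leading part of a four-linear form in polynomial arguments. -/
theorem approx_four {V : Type*} [AddCommGroup V] [Module F V]
    (L : V →ₗ[F] V →ₗ[F] V →ₗ[F] V →ₗ[F] F) {d n1 n2 n3 n4 N : ℕ} (hN : n1 + n2 + n3 + n4 = N)
    {φ1 φ2 φ3 φ4 : (Fin d → F) → F} {a1 a2 a3 a4 : V} {X1 X2 X3 X4 : (Fin d → F) → V}
    (H1 : Approx n1 φ1 a1 X1) (H2 : Approx n2 φ2 a2 X2) (H3 : Approx n3 φ3 a3 X3) (H4 : Approx n4 φ4 a4 X4) :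
    Approx N (fun γ => φ1 γ * φ2 γ * φ3 γ * φ4 γ) (L a1 a2 a3 a4) (fun γ => L (X1 γ) (X2 γ) (X3 γ) (X4 γ)) := by
  have h12 := Approx.bil (LinearMap.id (R := F) (M := V →ₗ[F] V →ₗ[F] V →ₗ[F] F)) rfl (Approx.comp (W := V →ₗ[F] V →ₗ[F] V →ₗ[F] F) L H1) H2
  have h123 := Approx.bil (LinearMap.id (R := F) (M := V →ₗ[F] V →ₗ[F] F)) rfl h12 H3
  exact Approx.bil (LinearMap.id (R := F) (M := V →ₗ[F] F)) hN h123 H4

/-- The weight of a vector for a frame. -/
def Wt (f : (Fin k → F) → (Fin k → F) → F) (v v' : Fin k → F) (n : ℕ) (w : Fin k → F) : Prop :=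
  (n = 0 ∧ ∃ c : F, w = c • v) ∨ (n = 1 ∧ Per f v v' w) ∨ (n = 2 ∧ ∃ c : F, w = c • v')

theorem wt_swap {v v' w : W1} {n : ℕ} (h : Wt f v v' n w) : n ≤ 2 ∧ Wt f v' v (2 - n) w := by
  rcases h with ⟨rfl, h⟩ | ⟨rfl, h⟩ | ⟨rfl, h⟩
  · exact ⟨by omega, Or.inr (Or.inr ⟨rfl, h⟩)⟩
  · exact ⟨by omega, Or.inr (Or.inl ⟨rfl, h.2, h.1⟩)⟩
  · exact ⟨le_rfl, Or.inl ⟨rfl, h⟩⟩

/-- The image of a vector of given weight under a root family is polynomial, with a top in the block. -/
theorem approx_root (hf : Sym f) {v v' : W1} (Fm : Fr f v v') {d : ℕ} (z : Fin d → W1)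
    (hz : ∀ i, Per f v v' (z i)) (j : ι) {n : ℕ} {w : W1} (hw : Wt f v v' n w) :
    ∃ φ : (Fin d → F) → F, ∀ r : ({i // i ≠ j} → Fin k) → F, Approx n φ (ins j v r)
      (fun γ => (rt f j v (∑ i, γ i • z i) : Big) *ᵥ ins j w r) := by
  have hzγ : ∀ γ : Fin d → F, Per f v v' (∑ i, γ i • z i) := fun γ => per_sum hf _ fun i _ => per_smul hf _ (hz i)
  have hlin : ∀ (u : W1) (γ : Fin d → F), f u (∑ i, γ i • z i) = ∑ i, γ i * f u (z i) := fun u γ => by
    let L : W1 →ₗ[F] F :=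
      { toFun := f u, map_add' := fun a b => hf.addR u a b, map_smul' := fun c a => hf.smulR c u a }
    show L (∑ i, γ i • z i) = _
    simp [L, map_sum]
  have hφ1 : ∀ u : W1, (fun γ : Fin d → F => f u (∑ i, γ i • z i)) ∈ Deg F d F 2 := fun u => by
    rw [show (fun γ : Fin d → F => f u (∑ i, γ i • z i)) = ∑ i, fun γ => γ i • f u (z i) from
      funext fun γ => by rw [hlin, Finset.sum_apply]; rfl]
    exact Submodule.sum_mem _ fun i _ => deg_coord i _ (by omega)
  have hexp : ∀ (γ : Fin d → F) (r : ({i // i ≠ j} → Fin k) → F), (rt f j v (∑ i, γ i • z i) : Big) *ᵥ ins j w r =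
      ins j w r + f w (∑ i, γ i • z i) • ins j v r - f w v • ins j (∑ i, γ i • z i) r -
        (f (∑ i, γ i • z i) (∑ i, γ i • z i) / 2 * f w v) • ins j v r := fun γ r => by
    rw [rt_ins hf j Fm.vv (hzγ γ).1]
    ext p
    simp [ins]
    ring
  rcases hw with ⟨rfl, c, rfl⟩ | ⟨rfl, hw⟩ | ⟨rfl, c, rfl⟩
  · refine ⟨fun _ => c, fun r => ⟨deg_const c (by omega), ?_⟩⟩
    convert Submodule.zero_mem _ using 1
    funext γ
    rw [hexp, hf.smulL, hf.smulL, Fm.vv, hf.comm (∑ i, γ i • z i) v, (hzγ γ).1, ins_smul]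
    simp
  · refine ⟨fun γ => f w (∑ i, γ i • z i), fun r => ⟨hφ1 w, ?_⟩⟩
    convert deg_const (d := d) (ins j w r) (show 0 < 1 by omega) using 1
    funext γ
    rw [hexp, hw.1]
    simp
  · refine ⟨fun γ => -(f (∑ i, γ i • z i) (∑ i, γ i • z i) / 2 * c), fun r => ⟨?_, ?_⟩⟩
    · rw [show (fun γ : Fin d → F => -(f (∑ i, γ i • z i) (∑ i, γ i • z i) / 2 * c)) =
        ∑ i, fun γ => γ i * ((-c / 2) * f (z i) (∑ l, γ l • z l)) from funext fun γ => by
          rw [Finset.sum_apply]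
          have : f (∑ i, γ i • z i) (∑ i, γ i • z i) = ∑ i, γ i * f (z i) (∑ l, γ l • z l) := by
            rw [hlin]
            exact Finset.sum_congr rfl fun i _ => by rw [hf.comm]
          rw [this, Finset.sum_div, Finset.sum_mul, ← Finset.sum_neg_distrib]
          exact Finset.sum_congr rfl fun i _ => by ring]
      refine Submodule.sum_mem _ fun i _ => ?_
      refine deg_mul (m := 2) (n := 2) le_rfl ?_ ?_
      · have := deg_coord (F := F) (d := d) (V := F) i (1 : F) (show 1 < 2 by omega)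
        simpa using this
      · exact Submodule.smul_mem _ (-c / 2) (hφ1 (z i))
    · have hlow : ((fun _ => ins j (c • v') r) - ∑ i, fun γ : Fin d → F => γ i • (c • ins j (z i) r)) ∈
          Deg F d Vec 2 :=
        Submodule.sub_mem _ (deg_const _ (by omega)) (Submodule.sum_mem _ fun i _ => deg_coord i _ (by omega))
      convert hlow using 1
      funext γ
      have hins : ins j (∑ i, γ i • z i) r = ∑ i, γ i • ins j (z i) r := by
        let L : W1 →ₗ[F] Vec :=
          { toFun := fun u => ins j u r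
            map_add' := fun a b => ins_add_vec j a b r
            map_smul' := fun e a => ins_smul j e a r }
        show L (∑ i, γ i • z i) = _
        simp [L, map_sum, map_smul, ins_smul]
      rw [hexp]
      simp only [hf.smulL, Fm.pair' hf, hf.comm (∑ i, γ i • z i) v', (hzγ γ).2, hins]
      simp only [Pi.sub_apply, Finset.sum_apply]
      rw [show ∑ x, γ x • c • ins j (z x) r = c • ∑ x, γ x • ins j (z x) r by
        rw [Finset.smul_sum]; exact Finset.sum_congr rfl fun x _ => smul_comm _ _ _]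
      module

/-- A vector is the sum of its parts at one factor. -/
theorem ins_expand (j : ι) (x : Vec) : x = ∑ a, ins j (Pi.single a 1) (ctr j (Pi.single a 1) x) := by
  refine ctr_ext (j := j) fun φ => ?_
  rw [map_sum]
  simp only [ctr_ins, dotProduct_single, mul_one]
  conv_lhs => rw [show φ = ∑ a, φ a • (Pi.single a 1 : W1) by simp [← Pi.single_smul, Finset.univ_sum_single]]
  ext r
  simp [ctr, Finset.sum_apply, Finset.mul_sum, Finset.sum_mul, mul_assoc, Pi.single_apply]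

section

variable [Fintype F] (S : Setting f M) (NB : NoBlock f M)

/-- The elements of the group in the stabiliser. -/
abbrev Hs (M : Subgroup (GL (ι → Fin k) F)) : Subgroup M := (stab ι k F).subgroupOf M

/-- The four-linear form moved by a coset. -/
noncomputable def Gq (q : M ⧸ Hs M) : Vec →ₗ[F] Vec →ₗ[F] Vec →ₗ[F] Vec →ₗ[F] F :=
  Quotient.liftOn' q (fun r : M => pull (((r : GG)⁻¹ : GG) : Big).mulVecLin (u4 f)) (by
    intro r s hrs
    rw [QuotientGroup.leftRel_apply, Subgroup.mem_subgroupOf] at hrs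
    have hg : ((r⁻¹ * s : M) : GG) ∈ SI ι f := ⟨hrs, S.iso (r⁻¹ * s).2⟩
    refine LinearMap.ext fun a => LinearMap.ext fun b => LinearMap.ext fun c => LinearMap.ext fun d => ?_
    rw [pull_apply, pull_apply]
    have := u4_inv S.sym (by have := S.hk; omega) hg (((s : GG)⁻¹ : GG).val *ᵥ a) (((s : GG)⁻¹ : GG).val *ᵥ b)
      (((s : GG)⁻¹ : GG).val *ᵥ c) (((s : GG)⁻¹ : GG).val *ᵥ d)
    simp only [Subgroup.coe_mul, Subgroup.coe_inv, gl_mul_mulVec, gl_mulVec_inv] at this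
    exact this)

theorem Gq_mk (r : M) (a b c d : Vec) : Gq S (↑r : M ⧸ Hs M) a b c d =
    u4 f (((r : GG)⁻¹ : GG).val *ᵥ a) (((r : GG)⁻¹ : GG).val *ᵥ b) (((r : GG)⁻¹ : GG).val *ᵥ c)
      (((r : GG)⁻¹ : GG).val *ᵥ d) := rfl

theorem Gq_smul (g : M) (q : M ⧸ Hs M) (a b c d : Vec) : Gq S (g • q) a b c d =
    Gq S q (((g : GG)⁻¹ : GG).val *ᵥ a) (((g : GG)⁻¹ : GG).val *ᵥ b) (((g : GG)⁻¹ : GG).val *ᵥ c)
      (((g : GG)⁻¹ : GG).val *ᵥ d) := by
  induction q using QuotientGroup.induction_on with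
  | H r =>
    show Gq S (↑(g * r) : M ⧸ Hs M) a b c d = _
    simp only [Gq_mk, Subgroup.coe_mul, _root_.mul_inv_rev, gl_mul_mulVec]

attribute [local instance] Classical.propDecidable

/-- The cosets form a finite type. -/
noncomputable local instance cosetFintype : Fintype (M ⧸ Hs M) := Fintype.ofFinite _

/-- The cosets outside the stabiliser. -/
noncomputable def outer (M : Subgroup (GL (ι → Fin k) F)) : Finset (M ⧸ Hs M) :=
  Finset.univ.erase ((1 : M) : M ⧸ Hs M)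

/-- The sum of the moved forms outside the stabiliser. -/
noncomputable def Dq : Vec →ₗ[F] Vec →ₗ[F] Vec →ₗ[F] Vec →ₗ[F] F := ∑ q ∈ outer M, Gq S q

theorem Dq_apply (a b c d : Vec) : Dq S a b c d = ∑ q ∈ outer M, Gq S q a b c d := by
  simp [Dq, LinearMap.sum_apply]

/-- The action of a root family on the cosets. -/
noncomputable def act (j : ι) {d : ℕ} {v : W1} (hv : f v v = 0) (z : Fin d → W1) (hz : ∀ i, f (z i) v = 0)
    (γ : Fin d → F) (q : M ⧸ Hs M) : M ⧸ Hs M :=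
  (⟨rt f j v (∑ i, γ i • z i), S.rt_mem j hv (by
    let L : W1 →ₗ[F] F :=
      { toFun := fun x => f x v, map_add' := fun a b => S.sym.addL a b v
        map_smul' := fun c a => S.sym.smulL c a v }
    show L (∑ i, γ i • z i) = 0
    rw [map_sum]
    exact Finset.sum_eq_zero fun i _ => by rw [map_smul]; simp [L, hz i])⟩ : M) • q

include S NB

/-- A root family no member of which, other than one, fixes a coset has vanishing orbit sums. -/
theorem orbit_sum (j : ι) {v v' : W1} (Fm : Fr f v v') :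
    ∃ (d : ℕ) (z : Fin d → W1) (hz : ∀ i, Per f v v' (z i)), ∀ q ∈ outer M, ∀ Φ : M ⧸ Hs M → F,
      (fun γ => Φ (act S j Fm.vv z (fun i => (hz i).1) γ q)) ∈ Deg F d F 4 →
      ∑ y ∈ Finset.univ.image (fun γ => act S j Fm.vv z (fun i => (hz i).1) γ q), Φ y = 0 := by
  have hf := S.sym
  have hv0 := Fm.ne hf
  have hzγ : ∀ {d : ℕ} {z : Fin d → W1}, (∀ i, Per f v v' (z i)) → ∀ γ : Fin d → F,
      Per f v v' (∑ i, γ i • z i) := fun hz γ => per_sum hf _ fun i _ => per_smul hf _ (hz i)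
  have hadd : ∀ {d : ℕ} (z : Fin d → W1) (hz : ∀ i, Per f v v' (z i)) (a b : Fin d → F) (x : M ⧸ Hs M),
      act S j Fm.vv z (fun i => (hz i).1) (a + b) x =
        act S j Fm.vv z (fun i => (hz i).1) a (act S j Fm.vv z (fun i => (hz i).1) b x) := by
    intro d z hz a b x
    rw [act, act, act, smul_smul]
    congr 1
    refine Subtype.ext ?_
    show rt f j v _ = rt f j v _ * rt f j v _
    rw [rt_mul hf j Fm.vv (hzγ hz a).1 (hzγ hz b).1, ← Finset.sum_add_distrib]
    simp only [Pi.add_apply, add_smul]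
  have hzero : ∀ {d : ℕ} (z : Fin d → W1) (hz : ∀ i, Per f v v' (z i)) (x : M ⧸ Hs M),
      act S j Fm.vv z (fun i => (hz i).1) 0 x = x := by
    intro d z hz x
    rw [act, show (⟨rt f j v (∑ i, (0 : Fin d → F) i • z i), _⟩ : M) = 1 from
      Subtype.ext (by simp [rt_zero hf j Fm.vv]), one_smul]
  have hfix : ∀ {d : ℕ} (z : Fin d → W1) (hz : ∀ i, Per f v v' (z i)) (γ : Fin d → F) (r : M),
      act S j Fm.vv z (fun i => (hz i).1) γ (r : M ⧸ Hs M) = (r : M ⧸ Hs M) →
      ((r : GG)⁻¹ * rt f j v (∑ i, γ i • z i) * ((r : GG)⁻¹)⁻¹) ∈ SI ι f := by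
    intro d z hz γ r h
    have h2 := (QuotientGroup.eq).1 h.symm
    rw [Subgroup.mem_subgroupOf] at h2
    simp only [Subgroup.coe_mul, Subgroup.coe_inv] at h2
    rw [inv_inv, mul_assoc]
    exact ⟨h2, (isoB ι f).mul_mem ((isoB ι f).inv_mem (S.iso r.2))
      ((isoB ι f).mul_mem (rt_iso hf j Fm.vv (hzγ hz γ).1) (S.iso r.2))⟩
  have hout : ∀ r : M, (r : M ⧸ Hs M) ∈ outer M → ((r : GG)⁻¹) ∉ stab ι k F := fun r hr h => by
    refine (Finset.mem_erase.1 hr).1 ?_
    rw [QuotientGroup.eq, Subgroup.mem_subgroupOf]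
    simpa using h
  have free : ∀ {d : ℕ} (z : Fin d → W1) (hz : ∀ i, Per f v v' (z i)) (q : M ⧸ Hs M) (Φ : M ⧸ Hs M → F),
      4 ≤ (Fintype.card F - 1) * d → (fun γ => Φ (act S j Fm.vv z (fun i => (hz i).1) γ q)) ∈ Deg F d F 4 →
      (∀ γ, act S j Fm.vv z (fun i => (hz i).1) γ q = q → γ = 0) →
      ∑ y ∈ Finset.univ.image (fun γ => act S j Fm.vv z (fun i => (hz i).1) γ q), Φ y = 0 := by
    intro d z hz q Φ hd hΦ hfree
    rw [Finset.sum_image fun a _ b _ hab => ?_]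
    · exact sum_deg hd hΦ
    · have := congrArg (act S j Fm.vv z (fun i => (hz i).1) (-b)) hab
      rw [← hadd z hz, ← hadd z hz, neg_add_cancel, hzero z hz] at this
      exact (neg_add_eq_zero.1 (hfree _ this)).symm
  by_cases h4 : 4 ≤ k ∨ (3 : F) ≠ 0
  · obtain ⟨d, z, hz, hd, han⟩ := exists_family S.par Fm
    refine ⟨d, z, hz, fun q hq Φ hΦ => free z hz q Φ hd hΦ fun γ hγ => ?_⟩
    by_contra hne
    induction q using QuotientGroup.induction_on with
    | H r =>
      exact hout r hq (stab_of_one S NB (inv_mem r.2) j hv0 Fm.vv (hzγ hz γ).1 (han γ hne)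
        (Fusion.fusion_one S.par h4 _ j hv0 Fm.vv (hzγ hz γ).1 (han γ hne) (hfix z hz γ r hγ)))
  push Not at h4
  have hk3 : k = 3 := by have := S.hk; omega
  obtain ⟨y, hy, hyy⟩ := exists_aniso S.par Fm
  obtain ⟨c, hc0, hc1⟩ := S.par.big.resolve_right (by omega)
  have h3 : (3 : F) = 0 := h4.2
  obtain ⟨p, hp⟩ := CharP.exists F
  obtain rfl : p = 3 :=
    ((Nat.prime_dvd_prime_iff_eq (CharP.char_is_prime F p) Nat.prime_three).1
      ((CharP.cast_eq_zero_iff F p 3).1 (by exact_mod_cast h3)))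
  obtain ⟨n, -, hn⟩ := FiniteField.card F 3
  have hcard : 4 ≤ (Fintype.card F - 1) * 1 := by
    have h2 : 2 ≤ (n : ℕ) := by
      by_contra hlt
      have hn1 : Fintype.card F = 3 := by
        rw [hn, show (n : ℕ) = 1 from by have := n.pos; omega, pow_one]
      have := FiniteField.pow_card_sub_one_eq_one c hc0
      rw [hn1] at this
      exact hc1 (by rw [← sq]; exact this)
    have : 3 ^ 2 ≤ 3 ^ (n : ℕ) := Nat.pow_le_pow_right (by norm_num) h2
    omega
  refine ⟨1, fun _ => y, fun _ => hy, fun q hq Φ hΦ => ?_⟩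
  by_cases hfree : ∀ γ, act S j Fm.vv (fun _ : Fin 1 => y) (fun _ => hy.1) γ q = q → γ = 0
  · exact free _ (fun _ => hy) q Φ hcard hΦ hfree
  push Not at hfree
  obtain ⟨e, heq, he⟩ := hfree
  have hper : ∀ γ, Φ (act S j Fm.vv (fun _ : Fin 1 => y) (fun _ => hy.1) (γ + e) q) =
      Φ (act S j Fm.vv (fun _ : Fin 1 => y) (fun _ => hy.1) γ q) := fun γ => by
    rw [hadd _ (fun _ => hy), heq]
  refine sum_orbit_odd hf.two (p := 3) (n := (n : ℕ)) Nat.prime_three (by exact_mod_cast h3)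
    (by rw [Fintype.card_fun, Fintype.card_fin, pow_one, hn]) _ (hzero _ fun _ => hy) (hadd _ fun _ => hy) ?_ Φ
    fun γ => ?_
  · by_contra hc
    push Not at hc
    induction q using QuotientGroup.induction_on with
    | H r =>
      have hall : ∀ s : F, (r : GG)⁻¹ * rt f j v (s • y) * ((r : GG)⁻¹)⁻¹ ∈ SI ι f := fun s => by
        have := hfix _ (fun _ => hy) (fun _ : Fin 1 => s) r (hc _)
        rwa [Fin.sum_univ_one] at this
      obtain ⟨s, hs, hb⟩ := Fusion.fusion_all S.par _ j hv0 Fm.vv hy.1 hyy hall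
      exact hout r hq (stab_of_one S NB (inv_mem r.2) j hv0 Fm.vv (by rw [hf.smulL, hy.1, mul_zero])
        (by rw [hf.smulL, hf.smulR]; exact mul_ne_zero hs (mul_ne_zero hs hyy)) hb)
  · have := periodic_three h3 hf.two hΦ he hper γ
    rwa [hzero _ fun _ => hy] at this

/-- The outer sum vanishes in low degree and is symmetric in degree four. -/
theorem Dq_weights (j : ι) {v v' : W1} (Fm : Fr f v v') {n1 n2 n3 n4 : ℕ} {w1 w2 w3 w4 : W1}
    (h1 : Wt f v v' n1 w1) (h2 : Wt f v v' n2 w2) (h3 : Wt f v v' n3 w3) (h4 : Wt f v v' n4 w4)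
    (r1 r2 r3 r4 : ({i // i ≠ j} → Fin k) → F) :
    (n1 + n2 + n3 + n4 < 4 → Dq S (ins j w1 r1) (ins j w2 r2) (ins j w3 r3) (ins j w4 r4) = 0) ∧
    (n1 + n2 + n3 + n4 = 4 → Dq S (ins j w1 r1) (ins j w2 r2) (ins j w3 r3) (ins j w4 r4) =
      Dq S (ins j w2 r1) (ins j w1 r2) (ins j w3 r3) (ins j w4 r4)) := by
  classical
  have hf := S.sym
  obtain ⟨d, z, hz, hsum⟩ := orbit_sum S NB j Fm
  have hzn : ∀ i, Per f v v' ((fun i => -z i) i) := fun i => per_neg hf (hz i)
  obtain ⟨φ1, H1⟩ := approx_root hf Fm (fun i => -z i) hzn j h1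
  obtain ⟨φ2, H2⟩ := approx_root hf Fm (fun i => -z i) hzn j h2
  obtain ⟨φ3, H3⟩ := approx_root hf Fm (fun i => -z i) hzn j h3
  obtain ⟨φ4, H4⟩ := approx_root hf Fm (fun i => -z i) hzn j h4
  have hG : ∀ (q : M ⧸ Hs M) (γ : Fin d → F) (a b c e : Vec),
      Gq S (act S j Fm.vv z (fun i => (hz i).1) γ q) a b c e =
        Gq S q ((rt f j v (∑ i, γ i • (-z i)) : Big) *ᵥ a) ((rt f j v (∑ i, γ i • (-z i)) : Big) *ᵥ b)
          ((rt f j v (∑ i, γ i • (-z i)) : Big) *ᵥ c) ((rt f j v (∑ i, γ i • (-z i)) : Big) *ᵥ e) := by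
    intro q γ a b c e
    rw [act, Gq_smul]
    simp only [rt_inv hf j Fm.vv (per_sum hf _ fun i _ => per_smul hf (γ i) (hz i)).1, smul_neg,
      Finset.sum_neg_distrib]
  have key : ∀ (q : M ⧸ Hs M) (N : ℕ), n1 + n2 + n3 + n4 = N →
      Approx N (fun γ => φ1 γ * φ2 γ * φ3 γ * φ4 γ) (Gq S q (ins j v r1) (ins j v r2) (ins j v r3) (ins j v r4))
        (fun γ => Gq S (act S j Fm.vv z (fun i => (hz i).1) γ q) (ins j w1 r1) (ins j w2 r2) (ins j w3 r3)
          (ins j w4 r4)) ∧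
      Approx N (fun γ => φ2 γ * φ1 γ * φ3 γ * φ4 γ) (Gq S q (ins j v r1) (ins j v r2) (ins j v r3) (ins j v r4))
        (fun γ => Gq S (act S j Fm.vv z (fun i => (hz i).1) γ q) (ins j w2 r1) (ins j w1 r2) (ins j w3 r3)
          (ins j w4 r4)) := by
    intro q N hN
    simp only [hG]
    exact ⟨approx_four (Gq S q) hN (H1 r1) (H2 r2) (H3 r3) (H4 r4),
      approx_four (Gq S q) (by omega) (H2 r1) (H1 r2) (H3 r3) (H4 r4)⟩
  have hstable : ∀ γ, ∀ q ∈ outer M, act S j Fm.vv z (fun i => (hz i).1) γ q ∈ outer M := by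
    intro γ q hq
    refine Finset.mem_erase.2 ⟨fun h => (Finset.mem_erase.1 hq).1 ?_, Finset.mem_univ _⟩
    rw [act] at h
    rw [eq_inv_smul_iff.2 h]
    show ((_ * 1 : M) : M ⧸ Hs M) = _
    rw [mul_one, QuotientGroup.eq, Subgroup.mem_subgroupOf]
    simpa [rt] using oneGL_mem_stab j _
  have hact0 : ∀ q, act S j Fm.vv z (fun i => (hz i).1) 0 q = q := fun q => by
    rw [act, show (⟨rt f j v (∑ i, (0 : Fin d → F) i • z i), _⟩ : M) = 1 from
      Subtype.ext (by simp [rt_zero hf j Fm.vv]), one_smul]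
  have hacta : ∀ a b q, act S j Fm.vv z (fun i => (hz i).1) (a + b) q =
      act S j Fm.vv z (fun i => (hz i).1) a (act S j Fm.vv z (fun i => (hz i).1) b q) := fun a b q => by
    rw [act, act, act, smul_smul]
    congr 1
    refine Subtype.ext ?_
    show rt f j v _ = rt f j v _ * rt f j v _
    rw [rt_mul hf j Fm.vv (per_sum hf _ fun i _ => per_smul hf (a i) (hz i)).1
      (per_sum hf _ fun i _ => per_smul hf (b i) (hz i)).1, ← Finset.sum_add_distrib]
    simp only [Pi.add_apply, add_smul]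
  constructor
  · intro hN
    rw [Dq_apply]
    refine sum_orbits _ hact0 hacta _ _ hstable fun q hq => ?_
    exact hsum q hq _ (deg_mono (show n1 + n2 + n3 + n4 + 1 ≤ 4 by omega) (key q _ rfl).1.mem)
  · intro hN
    rw [← sub_eq_zero, Dq_apply, Dq_apply, ← Finset.sum_sub_distrib]
    refine sum_orbits _ hact0 hacta _ _ hstable fun q hq => hsum q hq _ ?_
    obtain ⟨a, b⟩ := key q 4 hN
    convert Submodule.sub_mem _ a.low b.low using 1
    funext γ
    simp only [Pi.sub_apply, mul_comm (φ2 γ) (φ1 γ)]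
    abel

theorem Dq_swap (j : ι) (w1 w2 : W1) (r1 r2 : ({i // i ≠ j} → Fin k) → F) (c e : Vec) :
    Dq S (ins j w1 r1) (ins j w2 r2) c e = Dq S (ins j w2 r1) (ins j w1 r2) c e := by
  have hf := S.sym
  obtain ⟨v, v', Fm⟩ := exists_frame S.par
  have dec : ∀ w : W1, ∃ a b c, w = a + b + c ∧ Wt f v v' 0 a ∧ Wt f v v' 1 b ∧ Wt f v v' 2 c := fun w =>
    ⟨f w v' • v, w - f w v' • v - f w v • v', f w v • v', by abel, Or.inl ⟨rfl, _, rfl⟩,
      Or.inr (Or.inl ⟨rfl, per_proj hf Fm w⟩), Or.inr (Or.inr ⟨rfl, _, rfl⟩)⟩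
  have base : ∀ {n1 n2 n3 n4 : ℕ} {w1 w2 w3 w4 : W1}, Wt f v v' n1 w1 → Wt f v v' n2 w2 → Wt f v v' n3 w3 →
      Wt f v v' n4 w4 → ∀ (r1 r2 r3 r4 : ({i // i ≠ j} → Fin k) → F),
      Dq S (ins j w1 r1) (ins j w2 r2) (ins j w3 r3) (ins j w4 r4) =
        Dq S (ins j w2 r1) (ins j w1 r2) (ins j w3 r3) (ins j w4 r4) := by
    intro n1 n2 n3 n4 w1 w2 w3 w4 h1 h2 h3 h4 r1 r2 r3 r4
    rcases lt_trichotomy (n1 + n2 + n3 + n4) 4 with h | h | h
    · rw [(Dq_weights S NB j Fm h1 h2 h3 h4 r1 r2 r3 r4).1 h,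
        (Dq_weights S NB j Fm h2 h1 h3 h4 r1 r2 r3 r4).1 (by omega)]
    · exact (Dq_weights S NB j Fm h1 h2 h3 h4 r1 r2 r3 r4).2 h
    · obtain ⟨l1, g1⟩ := wt_swap h1
      obtain ⟨l2, g2⟩ := wt_swap h2
      obtain ⟨l3, g3⟩ := wt_swap h3
      obtain ⟨l4, g4⟩ := wt_swap h4
      rw [(Dq_weights S NB j (Fm.symm hf) g1 g2 g3 g4 r1 r2 r3 r4).1 (by omega),
        (Dq_weights S NB j (Fm.symm hf) g2 g1 g3 g4 r1 r2 r3 r4).1 (by omega)]
  have e1 : ∀ {n2 n3 n4 : ℕ} {w2 w3 w4 : W1}, Wt f v v' n2 w2 → Wt f v v' n3 w3 → Wt f v v' n4 w4 →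
      ∀ (w1 : W1) (r1 r2 r3 r4 : ({i // i ≠ j} → Fin k) → F),
      Dq S (ins j w1 r1) (ins j w2 r2) (ins j w3 r3) (ins j w4 r4) =
        Dq S (ins j w2 r1) (ins j w1 r2) (ins j w3 r3) (ins j w4 r4) := by
    intro n2 n3 n4 w2 w3 w4 h2 h3 h4 w1 r1 r2 r3 r4
    obtain ⟨a, b, c, rfl, ha, hb, hc⟩ := dec w1
    simp only [ins_add_vec, map_add, LinearMap.add_apply, base ha h2 h3 h4, base hb h2 h3 h4, base hc h2 h3 h4]
  have e2 : ∀ {n3 n4 : ℕ} {w3 w4 : W1}, Wt f v v' n3 w3 → Wt f v v' n4 w4 →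
      ∀ (w1 w2 : W1) (r1 r2 r3 r4 : ({i // i ≠ j} → Fin k) → F),
      Dq S (ins j w1 r1) (ins j w2 r2) (ins j w3 r3) (ins j w4 r4) =
        Dq S (ins j w2 r1) (ins j w1 r2) (ins j w3 r3) (ins j w4 r4) := by
    intro n3 n4 w3 w4 h3 h4 w1 w2 r1 r2 r3 r4
    obtain ⟨a, b, c, rfl, ha, hb, hc⟩ := dec w2
    simp only [ins_add_vec, map_add, LinearMap.add_apply, e1 ha h3 h4, e1 hb h3 h4, e1 hc h3 h4]
  have e3 : ∀ (w3 w4 w1 w2 : W1) (r1 r2 r3 r4 : ({i // i ≠ j} → Fin k) → F),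
      Dq S (ins j w1 r1) (ins j w2 r2) (ins j w3 r3) (ins j w4 r4) =
        Dq S (ins j w2 r1) (ins j w1 r2) (ins j w3 r3) (ins j w4 r4) := by
    intro w3 w4 w1 w2 r1 r2 r3 r4
    obtain ⟨a, b, c, rfl, ha, hb, hc⟩ := dec w3
    obtain ⟨a', b', c', rfl, ha', hb', hc'⟩ := dec w4
    simp only [ins_add_vec, map_add, LinearMap.add_apply, e2 ha ha', e2 ha hb', e2 ha hc', e2 hb ha', e2 hb hb',
      e2 hb hc', e2 hc ha', e2 hc hb', e2 hc hc']
  rw [ins_expand j c, ins_expand j e]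
  simp only [map_sum, LinearMap.sum_apply, e3 _ _ w1 w2 r1 r2]

theorem Dq_zero : Dq S = 0 := by
  classical
  have hD : ∀ r s : ι → W1, ∀ (T : Finset ι) (c e : Vec), Dq S (pv (T.piecewise s r)) (pv (T.piecewise r s)) c e =
      Dq S (pv r) (pv s) c e := by
    intro r s T
    induction T using Finset.induction_on with
    | empty => simp
    | insert j T hj ih =>
      intro c e
      rw [← ih c e, ← ins_pv j ((insert j T).piecewise s r), ← ins_pv j ((insert j T).piecewise r s),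
        ← ins_pv j (T.piecewise s r), ← ins_pv j (T.piecewise r s), Finset.piecewise_insert_self,
        Finset.piecewise_insert_self, Finset.piecewise_eq_of_notMem _ _ _ hj, Finset.piecewise_eq_of_notMem _ _ _ hj]
      have hrest : ∀ p q : ι → W1, (fun i : {i // i ≠ j} => (insert j T).piecewise p q i.1) =
          fun i : {i // i ≠ j} => T.piecewise p q i.1 := fun p q => funext fun i => by
        rw [Finset.piecewise_insert, Function.update_of_ne i.2]
      rw [hrest, hrest, Dq_swap S NB j]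
  refine lin_ext2 fun r s => LinearMap.ext fun c => LinearMap.ext fun e => ?_
  have h1 := hD r s Finset.univ c e
  rw [Finset.piecewise_univ, Finset.piecewise_univ] at h1
  have h2 : Dq S (pv s) (pv r) c e = -Dq S (pv r) (pv s) c e := by
    rw [Dq_apply, Dq_apply, ← Finset.sum_neg_distrib]
    refine Finset.sum_congr rfl fun q _ => ?_
    induction q using QuotientGroup.induction_on with
    | H g => rw [Gq_mk, Gq_mk, u4_anti]
  show Dq S (pv r) (pv s) c e = 0
  exact (mul_eq_zero.1 (show (2 : F) * Dq S (pv r) (pv s) c e = 0 by linear_combination h2 - h1)).resolve_left S.sym.two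

/-- The group preserves the four-linear form. -/
theorem u4_invariant {g : GG} (hg : g ∈ M) (a b c d : Vec) :
    u4 f ((g : Big) *ᵥ a) ((g : Big) *ᵥ b) ((g : Big) *ᵥ c) ((g : Big) *ᵥ d) = u4 f a b c d := by
  classical
  have htot : ∀ a b c d, ∑ q : M ⧸ Hs M, Gq S q a b c d = u4 f a b c d := fun a b c d => by
    rw [← Finset.add_sum_erase Finset.univ _ (Finset.mem_univ ((1 : M) : M ⧸ Hs M)), Gq_mk]
    have h0 := Dq_apply S a b c d
    rw [Dq_zero S NB] at h0
    have he : (Finset.univ.erase ((1 : M) : M ⧸ Hs M)) = outer M := by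
      simp only [outer]
    rw [he, ← h0]
    simp [u4_apply]
  rw [← htot, ← htot a b c d]
  refine (Fintype.sum_equiv (MulAction.toPerm (⟨g, hg⟩ : M)) _ _ fun q => ?_).symm
  rw [MulAction.toPerm_apply, Gq_smul]
  simp only [gl_inv_mulVec]

/-- The group commutes with the bilinear map into the sums of skew transformations. -/
theorem Zm_move {g : GG} (hg : g ∈ M) (a b : Vec) :
    (g : Big) * Zm f a b = Zm f ((g : Big) *ᵥ a) ((g : Big) *ᵥ b) * (g : Big) := by
  have hf := S.sym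
  refine Matrix.mulVec_injective (funext fun c => ?_)
  rw [← sub_eq_zero]
  refine Bt_nondeg hf fun y => ?_
  rw [← gl_mulVec_inv g y, Bt_subR, Bt_comm hf, Bt_comm hf (_ *ᵥ c) , sub_eq_zero, ← mulVec_mulVec,
    ← mulVec_mulVec, S.iso hg, ← u4_apply, ← u4_apply]
  exact (u4_invariant S NB hg a b c _).symm

end

/-! ### the parts are permuted -/

/-- A family of matrices, one for each factor, as a matrix. -/
def sumL : (ι → Matrix (Fin k) (Fin k) F) →ₗ[F] Matrix (ι → Fin k) (ι → Fin k) F :=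
  ∑ l, (oneL l).comp (LinearMap.proj l)

theorem sumL_apply (K : ι → A1) : sumL K = ∑ l, oneM l (K l) := by
  simp [sumL, LinearMap.sum_apply, oneL]

theorem sumL_single (j : ι) (s : A1) : sumL (Pi.single j s) = oneM (ι := ι) j s := by
  rw [sumL_apply, Finset.sum_eq_single j (fun l _ hl => by rw [Pi.single_eq_of_ne hl, oneM_zero])
    (fun hj => absurd (Finset.mem_univ j) hj), Pi.single_eq_same]

theorem oneM_comm {i j : ι} (h : i ≠ j) (A B : A1) : oneM i A * oneM j B = oneM j B * oneM i A := by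
  rw [oneM, oneM, pt_mul, pt_mul]
  congr 1
  funext l
  by_cases h1 : l = i
  · subst h1; simp [h]
  · simp [Function.update_of_ne h1]

theorem sumL_brk (K K' : ι → A1) : brk (sumL K) (sumL K') = sumL fun l => brk (K l) (K' l) := by
  simp only [sumL_apply, brk, Matrix.sum_mul, Matrix.mul_sum]
  rw [Finset.sum_comm (f := fun x y => oneM y (K' y) * oneM x (K x))]
  simp only [← Finset.sum_sub_distrib]
  refine Finset.sum_congr rfl fun l _ => ?_
  rw [Finset.sum_eq_single l (fun m _ hm => by rw [oneM_comm hm.symm, sub_self])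
    (fun hl => absurd (Finset.mem_univ l) hl), oneM_mul, oneM_mul, eq_comm, eq_sub_iff_add_eq, ← oneM_add,
    sub_add_cancel]

section

variable (hf : Sym f)

/-- The families of skew matrices. -/
def SkF : Submodule F (ι → Matrix (Fin k) (Fin k) F) := Submodule.pi Set.univ fun _ => skew hf

/-- Conjugation by an element. -/
def cj (x : GL (ι → Fin k) F) : Matrix (ι → Fin k) (ι → Fin k) F →ₗ[F] Matrix (ι → Fin k) (ι → Fin k) F :=
  (LinearMap.mulLeft F (x : Big)).comp (LinearMap.mulRight F ((x⁻¹ : GG) : Big))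

/-- The part at one factor of the images of some families. -/
def img (x : GL (ι → Fin k) F) (Q : Submodule F (ι → Matrix (Fin k) (Fin k) F)) (l : ι) :
    Submodule F (Matrix (Fin k) (Fin k) F) :=
  (SkF hf ⊓ Submodule.comap sumL ((Q.map sumL).map (cj x))).map (LinearMap.proj l)

include hf

theorem mem_SkF {K : ι → A1} : K ∈ SkF hf ↔ ∀ l, K l ∈ skew hf := by simp [SkF]

theorem single_mem_SkF (j : ι) {s : A1} (hs : s ∈ skew hf) : Pi.single j s ∈ SkF (ι := ι) hf :=
  (mem_SkF hf).2 fun l => by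
    by_cases h : l = j
    · subst h; simpa using hs
    · rw [Pi.single_eq_of_ne h]; exact Submodule.zero_mem _

theorem cj_brk (x : GG) (X Y : Big) : brk (cj x X) (cj x Y) = cj x (brk X Y) := by
  simp only [cj, brk, LinearMap.comp_apply, LinearMap.mulLeft_apply, LinearMap.mulRight_apply]
  have e : ((x⁻¹ : GG) : Big) * (x : Big) = 1 := Units.inv_mul x
  simp only [Matrix.sub_mul, Matrix.mul_sub, Matrix.mul_assoc]
  simp only [← Matrix.mul_assoc ((x⁻¹ : GG) : Big) (x : Big), e, Matrix.one_mul]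

theorem brk_mem {a b : A1} (ha : a ∈ skew hf) (hb : b ∈ skew hf) : brk a b ∈ skew hf := fun x y => by
  simp only [brk, sub_mulVec, ← mulVec_mulVec, hf.subL, hf.subR]
  have h1 : f (a *ᵥ (b *ᵥ x)) y + f (b *ᵥ x) (a *ᵥ y) = 0 := ha _ _
  have h2 : f (b *ᵥ (a *ᵥ x)) y + f (a *ᵥ x) (b *ᵥ y) = 0 := hb _ _
  have h3 : f (b *ᵥ x) (a *ᵥ y) + f x (b *ᵥ (a *ᵥ y)) = 0 := hb _ _
  have h4 : f (a *ᵥ x) (b *ᵥ y) + f x (a *ᵥ (b *ᵥ y)) = 0 := ha _ _
  linear_combination h1 - h2 - h3 + h4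

theorem unique' [Finite F] (P : Par f) {K K' : ι → A1} (hK : K ∈ SkF hf) (hK' : K' ∈ SkF hf)
    (h : sumL K = sumL K') : K = K' := by
  funext j
  rw [← sub_eq_zero]
  refine sum_unique hf P (K := fun l => K l - K' l)
    (fun l => Submodule.sub_mem _ ((mem_SkF hf).1 hK l) ((mem_SkF hf).1 hK' l)) ?_ j
  have h2 := sub_eq_zero.2 h
  rwa [← map_sub, sumL_apply] at h2

end

/-- An overgroup none of whose outside elements carries a block to a block lies in the stabiliser. -/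
theorem core [Fintype F] (S : Setting f M) (NB : NoBlock f M) : M ≤ stab ι k F := by
  classical
  intro x hx
  have hf := S.sym
  have P := S.par
  have hk := S.hk
  -- the sums of skew transformations are preserved
  have hpres : ∀ g ∈ M, ∀ K ∈ SkF (ι := ι) hf, ∃ K' ∈ SkF (ι := ι) hf, sumL K' = cj g (sumL K) := by
    intro g hg
    let T : Submodule F (ι → A1) := SkF hf ⊓ Submodule.comap ((cj g).comp sumL) ((SkF hf).map sumL)
    have hT : ∀ (j : ι) (a b : W1), Pi.single j (wd f a b) ∈ T := fun j a b => by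
      refine ⟨single_mem_SkF hf j (wd_mem hf a b), ?_⟩
      obtain ⟨p, q, hpq⟩ := Zm_single hf P j a b
      refine ⟨fun l => Tm f l ((g : Big) *ᵥ p) ((g : Big) *ᵥ q), (mem_SkF hf).2 fun l => Tm_mem hf l _ _, ?_⟩
      rw [sumL_apply, ← Zm_apply, LinearMap.comp_apply, sumL_single, ← hpq]
      show _ = (g : Big) * (Zm f p q * ((g⁻¹ : GG) : Big))
      rw [← Matrix.mul_assoc, Zm_move S NB hg, Matrix.mul_assoc, ← Units.val_mul, mul_inv_cancel, Units.val_one,
        Matrix.mul_one]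
    intro K hK
    have hKT : K ∈ T := by
      rw [← Finset.univ_sum_single K]
      refine Submodule.sum_mem _ fun j _ => ?_
      have hle : skew hf ≤ T.comap (LinearMap.single F (fun _ : ι => A1) j) := (skew_le_span hf).trans
        (Submodule.span_le.2 (by rintro _ ⟨p, rfl⟩; exact hT j p.1 p.2))
      exact hle ((mem_SkF hf).1 hK j)
    obtain ⟨K', hK', e⟩ := hKT.2
    exact ⟨K', hK', e⟩
  let PJ : ι → Submodule F (ι → A1) := fun j => SkF hf ⊓ ⨅ m ∈ ({j}ᶜ : Set ι), LinearMap.ker (LinearMap.proj m)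
  let PN : ι → Submodule F (ι → A1) := fun j => SkF hf ⊓ LinearMap.ker (LinearMap.proj j)
  have hPJ : ∀ {j K}, K ∈ PJ j ↔ K ∈ SkF hf ∧ ∀ m, m ≠ j → K m = 0 := fun {j K} => by
    simp [PJ, Submodule.mem_iInf]
  have hPN : ∀ {j K}, K ∈ PN j ↔ K ∈ SkF hf ∧ K j = 0 := fun {j K} => Iff.rfl
  have hinv : (x : Big) * ((x⁻¹ : GG) : Big) = 1 := Units.mul_inv x
  -- one source at each target
  have hclosed : ∀ (Q : Submodule F (ι → A1)) (l : ι),
      (∀ K ∈ Q, ∀ K' ∈ Q, (fun m => brk (K m) (K' m)) ∈ Q) → Closed (img hf x Q l) := by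
    intro Q l hQ a ha b hb
    obtain ⟨A, ⟨hA, U, ⟨u, hu, rfl⟩, eU⟩, rfl⟩ := ha
    obtain ⟨B, ⟨hB, W, ⟨w, hw, rfl⟩, eW⟩, rfl⟩ := hb
    refine ⟨fun m => brk (A m) (B m),
      ⟨(mem_SkF hf).2 fun m => brk_mem hf ((mem_SkF hf).1 hA m) ((mem_SkF hf).1 hB m), _, ⟨_, hQ u hu w hw, rfl⟩, ?_⟩,
      rfl⟩
    rw [← sumL_brk, ← cj_brk hf, eU, eW, sumL_brk]
  have hcomm : ∀ j l, ∀ a ∈ img hf x (PJ j) l, ∀ c ∈ img hf x (PN j) l, a * c = c * a := by
    intro j l a ha c hc
    obtain ⟨A, ⟨hA, U, ⟨u, hu, rfl⟩, eU⟩, rfl⟩ := ha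
    obtain ⟨C, ⟨hC, W, ⟨w, hw, rfl⟩, eW⟩, rfl⟩ := hc
    have hz : (fun m => brk (u m) (w m)) = 0 := funext fun m => by
      by_cases hm : m = j
      · subst hm; simp [brk, (hPN.1 hw).2]
      · simp [brk, (hPJ.1 hu).2 m hm]
    have h0 : (fun m => brk (A m) (C m)) = 0 := unique' hf P
      ((mem_SkF hf).2 fun m => brk_mem hf ((mem_SkF hf).1 hA m) ((mem_SkF hf).1 hC m)) (Submodule.zero_mem _)
      (by rw [← sumL_brk, ← eU, ← eW, cj_brk hf, sumL_brk, hz, map_zero, map_zero])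
    exact sub_eq_zero.1 (congrFun h0 l)
  have hsup : ∀ j l, skew hf ≤ img hf x (PJ j) l ⊔ img hf x (PN j) l := by
    intro j l a ha
    obtain ⟨K, hK, eK⟩ := hpres x⁻¹ (inv_mem hx) _ (single_mem_SkF hf l ha)
    set K1 : ι → A1 := Pi.single j (K j)
    have h1 : K1 ∈ PJ j := hPJ.2 ⟨single_mem_SkF hf j ((mem_SkF hf).1 hK j), fun m hm => Pi.single_eq_of_ne hm _⟩
    have h2 : K - K1 ∈ PN j := hPN.2 ⟨Submodule.sub_mem _ hK (hPJ.1 h1).1, by simp [K1]⟩
    obtain ⟨A, hA, eA⟩ := hpres x hx _ (hPJ.1 h1).1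
    obtain ⟨C, hC, eC⟩ := hpres x hx _ (hPN.1 h2).1
    have hAC : A + C = Pi.single l a := unique' hf P (Submodule.add_mem _ hA hC) (single_mem_SkF hf l ha) (by
      rw [map_add, eA, eC, ← map_add, ← map_add, add_sub_cancel, eK]
      show (x : Big) * (((x⁻¹ : GG) : Big) * (_ * (((x⁻¹)⁻¹ : GG) : Big)) * ((x⁻¹ : GG) : Big)) = _
      rw [inv_inv, ← Matrix.mul_assoc, ← Matrix.mul_assoc, hinv, Matrix.one_mul, Matrix.mul_assoc, hinv, Matrix.mul_one])
    have e : a = A l + C l := by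
      have := congrFun hAC l
      rw [Pi.add_apply, Pi.single_eq_same] at this
      exact this.symm
    rw [e]
    exact Submodule.add_mem_sup ⟨A, ⟨hA, _, ⟨K1, h1, rfl⟩, eA.symm⟩, rfl⟩
      ⟨C, ⟨hC, _, ⟨K - K1, h2, rfl⟩, eC.symm⟩, rfl⟩
  obtain ⟨v, v', Fm⟩ := exists_frame P
  obtain ⟨z, hz, hzz⟩ := exists_aniso P Fm
  have hle : ∀ Q l, img hf x Q l ≤ skew hf := fun Q l => by
    rintro _ ⟨A, ⟨hA, -⟩, rfl⟩
    exact (mem_SkF hf).1 hA l
  have hbJ : ∀ j, ∀ K ∈ PJ j, ∀ K' ∈ PJ j, (fun m => brk (K m) (K' m)) ∈ PJ j := fun j K hK K' hK' =>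
    hPJ.2 ⟨(mem_SkF hf).2 fun m => brk_mem hf ((mem_SkF hf).1 (hPJ.1 hK).1 m) ((mem_SkF hf).1 (hPJ.1 hK').1 m),
      fun m hm => by simp [brk, (hPJ.1 hK).2 m hm]⟩
  have hbN : ∀ j, ∀ K ∈ PN j, ∀ K' ∈ PN j, (fun m => brk (K m) (K' m)) ∈ PN j := fun j K hK K' hK' =>
    hPN.2 ⟨(mem_SkF hf).2 fun m => brk_mem hf ((mem_SkF hf).1 (hPN.1 hK).1 m) ((mem_SkF hf).1 (hPN.1 hK').1 m),
      by simp [brk, (hPN.1 hK).2]⟩
  have hone : ∀ j l, img hf x (PJ j) l = ⊥ ∨ img hf x (PN j) l = ⊥ := fun j l =>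
    indecomposable hf P Fm (hle _ _) (hle _ _) (hclosed _ l (hbJ j)) (hclosed _ l (hbN j)) (hcomm j l) (hsup j l)
  set w0 : A1 := wd f v z
  have hw0 : w0 ≠ 0 := fun e => by
    have h1 := congrArg (fun Y : A1 => f (Y *ᵥ v') z) e
    simp only [w0, wd_mulVec hf, Fm.pair' hf, hf.comm z v', hz.2, zero_mulVec, hf.zeroL, hf.subL, hf.smulL,
      zero_mul, one_mul, sub_zero] at h1
    exact hzz h1
  have hex : ∀ l, ∃ j, img hf x (PJ j) l ≠ ⊥ := by
    intro l
    obtain ⟨K, hK, eK⟩ := hpres x⁻¹ (inv_mem hx) _ (single_mem_SkF hf l (wd_mem hf v z))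
    by_contra hc
    push Not at hc
    choose A hA eA using fun j => hpres x hx _ (single_mem_SkF hf j ((mem_SkF hf).1 hK j))
    have hA0 : ∀ j, A j l = 0 := fun j => by
      have hm : A j l ∈ img hf x (PJ j) l :=
        ⟨A j, ⟨hA j, _, ⟨_, hPJ.2 ⟨single_mem_SkF hf j ((mem_SkF hf).1 hK j),
          fun m hm => Pi.single_eq_of_ne hm _⟩, rfl⟩, (eA j).symm⟩, rfl⟩
      rwa [hc j, Submodule.mem_bot] at hm
    have hsum : ∑ j, A j = Pi.single l w0 :=
      unique' hf P (Submodule.sum_mem _ fun j _ => hA j) (single_mem_SkF hf l (wd_mem hf v z)) (by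
        rw [map_sum]
        simp only [eA]
        rw [← map_sum, ← map_sum, Finset.univ_sum_single, eK]
        show (x : Big) * (((x⁻¹ : GG) : Big) * (_ * (((x⁻¹)⁻¹ : GG) : Big)) * ((x⁻¹ : GG) : Big)) = _
        rw [inv_inv, ← Matrix.mul_assoc, ← Matrix.mul_assoc, hinv, Matrix.one_mul, Matrix.mul_assoc, hinv, Matrix.mul_one])
    have := congrFun hsum l
    rw [Finset.sum_apply, Pi.single_eq_same, Finset.sum_eq_zero fun j _ => hA0 j] at this
    exact hw0 this.symm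
  choose src hsrc using hex
  have huniq : ∀ l j, img hf x (PJ j) l ≠ ⊥ → j = src l := fun l j hj => by
    by_contra hne
    have hsub : PJ j ≤ PN (src l) := fun K hK => hPN.2 ⟨(hPJ.1 hK).1, (hPJ.1 hK).2 _ (Ne.symm hne)⟩
    have h2 : img hf x (PN (src l)) l = ⊥ := (hone (src l) l).resolve_left (hsrc l)
    refine hj (le_bot_iff.1 ?_)
    rw [← h2]
    exact Submodule.map_mono (inf_le_inf_left _ (Submodule.comap_mono (Submodule.map_mono (Submodule.map_mono hsub))))
  have hmove : ∀ j, ∃ A ∈ SkF (ι := ι) hf, sumL A = cj x (oneM j w0) ∧ ∀ l, src l ≠ j → A l = 0 := fun j => by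
    obtain ⟨A, hA, eA⟩ := hpres x hx _ (single_mem_SkF hf j (wd_mem hf v z))
    refine ⟨A, hA, by rw [eA, sumL_single], fun l hl => ?_⟩
    by_contra hne
    refine hl (huniq l j fun e => hne ?_).symm
    have hm : A l ∈ img hf x (PJ j) l :=
      ⟨A, ⟨hA, _, ⟨_, hPJ.2 ⟨single_mem_SkF hf j (wd_mem hf v z), fun m hm => Pi.single_eq_of_ne hm _⟩, rfl⟩,
        eA.symm⟩, rfl⟩
    rwa [e, Submodule.mem_bot] at hm
  have hsurj : Function.Surjective src := fun j => by
    obtain ⟨A, -, eA, hA⟩ := hmove j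
    by_contra hc
    push Not at hc
    rw [show A = 0 from funext fun l => hA l (hc l), map_zero] at eA
    have h1 : oneM j w0 = (0 : Big) := by
      have h2 := congrArg (fun X : Big => ((x⁻¹ : GG) : Big) * X * (x : Big)) eA.symm
      simp only [cj, LinearMap.comp_apply, LinearMap.mulLeft_apply, LinearMap.mulRight_apply, Matrix.mul_zero,
        Matrix.zero_mul] at h2
      rwa [← Matrix.mul_assoc, ← Units.val_mul, inv_mul_cancel, Units.val_one, Matrix.one_mul, Matrix.mul_assoc,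
        ← Units.val_mul, inv_mul_cancel, Units.val_one, Matrix.mul_one] at h2
    exact hw0 (by
      have := sum_unique hf P (K := Pi.single j w0) ((mem_SkF hf).1 (single_mem_SkF hf j (wd_mem hf v z)))
        (by rw [← sumL_apply, sumL_single, h1]) j
      rwa [Pi.single_eq_same] at this)
  have hinj : Function.Injective src := Finite.injective_iff_surjective.2 hsurj
  haveI : Nonempty ι := Fintype.card_pos_iff.1 (by have := S.hι; omega)
  set j0 := Classical.arbitrary ι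
  obtain ⟨l, hl⟩ := hsurj j0
  obtain ⟨A, -, eA, hA⟩ := hmove j0
  have hAl : sumL A = oneM l (A l) := by
    rw [sumL_apply, Finset.sum_eq_single l (fun m _ hm => by
      rw [hA m fun e => hm (hinj (e.trans hl.symm)), oneM_zero]) (fun h => absurd (Finset.mem_univ l) h)]
  have h1 : (x : Big) * oneM j0 w0 = oneM l (A l) * (x : Big) := by
    rw [← hAl, eA]
    show _ = (x : Big) * (oneM j0 w0 * ((x⁻¹ : GG) : Big)) * (x : Big)
    rw [Matrix.mul_assoc, Matrix.mul_assoc (oneM j0 w0), ← Units.val_mul, inv_mul_cancel, Units.val_one,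
      Matrix.mul_one]
  have hvz : f z v = 0 := hz.1
  have hsq : eN f v z * eN f v z = w0 * w0 := by
    refine Matrix.mulVec_injective (funext fun w => ?_)
    rw [← mulVec_mulVec, ← mulVec_mulVec, eN_comp hf Fm.vv hvz hvz, wd_mulVec hf, wd_mulVec hf]
    simp only [hf.subL, hf.smulL, Fm.vv, hf.comm z v, hvz]
    module
  refine stab_of_sq S NB hx j0 l (Fm.ne hf) Fm.vv hvz hzz (K := A l * A l) ?_
  rw [hsq, ← oneM_mul, ← oneM_mul, ← mul_assoc, h1, mul_assoc, h1, mul_assoc]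

end Cfsg.Agent.Lib.TensorPowerOrth.Core
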