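import Cfsg.Agent.Lib.TensorPowerOrth.Block
import Cfsg.Agent.Lib.TensorPowerOrth.Core

/-!
The root transformations generate all the matrices of a factor; what commutes with the factors is scalar; an
element conjugating the root elements into the stabiliser lies in the stabiliser.
-/

set_option autoImplicit false
set_option linter.unusedSectionVars false
set_option linter.style.haveILetI false

namespace Cfsg.Agent.Lib.TensorPowerOrth.Alg

open Matrix
open Cfsg.Agent.Lib.Subspaces.Transvection Cfsg.Agent.Lib.Subspaces.FormVec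
  Cfsg.Agent.Lib.TensorPowerMax.Basic Cfsg.Agent.Lib.TensorOrthMax.Side Cfsg.Agent.Lib.TensorOrthMax.Setup
  Cfsg.Agent.Lib.TensorPowerOrth.Form Cfsg.Agent.Lib.TensorPowerOrth.Frame Cfsg.Agent.Lib.TensorPowerOrth.Roots
  Cfsg.Agent.Lib.TensorPowerOrth.Skew Cfsg.Agent.Lib.TensorPowerOrth.Block
open Cfsg.Agent.Lib.TensorSympMax.Quad (Maps maps_of_le block_meet block_disjoint)

variable {ι : Type} [Fintype ι] [DecidableEq ι] {k : ℕ} {F : Type*} [Field F]

local notation "A1" => Matrix (Fin k) (Fin k) F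
local notation "Big" => Matrix (ι → Fin k) (ι → Fin k) F
local notation "GG" => GL (ι → Fin k) F
local notation "W1" => Fin k → F
local notation "Vec" => (ι → Fin k) → F

/-- What commutes with every matrix of every factor is scalar. -/
theorem scalar_of_commute [Nonempty (ι → Fin k)] {X : Big} (h : ∀ (i : ι) (D : A1), X * oneM i D = oneM i D * X) :
    ∃ c : F, X = c • 1 := by
  have hpt : ∀ (a : ι → A1) (T : Finset ι), X * pt (T.piecewise a 1) = pt (T.piecewise a 1) * X := by
    intro a T
    induction T using Finset.induction_on with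
    | empty => rw [Finset.piecewise_empty, pt_one, mul_one, one_mul]
    | insert i T hi ih =>
      have e : (insert i T).piecewise a 1 = Function.update (1 : ι → A1) i (a i) * T.piecewise a 1 := by
        funext l
        by_cases hl : l = i
        · subst hl; simp [hi]
        · simp [Finset.piecewise, hl]
      rw [e, ← pt_mul, ← oneM, ← mul_assoc, h, mul_assoc, ih, mul_assoc]
  have hs : ∀ x y : ι → Fin k, X * Matrix.single x y 1 = Matrix.single x y 1 * X := fun x y => by
    have := hpt (fun i => Matrix.single (x i) (y i) (1 : F)) Finset.univ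
    rwa [Finset.piecewise_univ, pt_single] at this
  set o := Classical.arbitrary (ι → Fin k)
  refine ⟨X o o, Matrix.ext fun x y => ?_⟩
  have e1 := congrFun (congrFun (hs y o) x) o
  simp only [Matrix.mul_apply, Matrix.single_apply] at e1
  simp only [ite_mul, one_mul, zero_mul, mul_ite, mul_one, mul_zero, ite_and, Finset.sum_ite_eq,
    Finset.mem_univ, if_true] at e1
  simp [Matrix.one_apply, eq_comm] at e1 ⊢
  split_ifs with hxy <;> simp_all

variable {f : (Fin k → F) → (Fin k → F) → F}

/-- The square of a root transformation. -/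
theorem wd_sq (hf : Sym f) {v z : W1} (hv : f v v = 0) (hz : f z v = 0) :
    wd f v z * wd f v z = -(f z z) • vecMulVec v (formVec f v) :=
  Matrix.mulVec_injective (funext fun w => by
    rw [← mulVec_mulVec, smul_mulVec, vecMulVec_mulVec, hf.dot]
    simp only [op_smul_eq_smul, wd_mulVec hf, hf.subL, hf.smulL, hv, hf.comm z v, hz]
    module)

/-- A set of matrices closed under the operations and containing the root transformations of a frame is
everything. -/
theorem generate [Finite F] (P : Par f) {v v' : W1} (Fm : Fr f v v') {p : A1 → Prop} (h1 : p 1)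
    (hadd : ∀ {A B}, p A → p B → p (A + B)) (hsmul : ∀ (c : F) {A}, p A → p (c • A))
    (hmul : ∀ {A B}, p A → p B → p (A * B))
    (hv : ∀ z, Per f v v' z → f z z ≠ 0 → p (wd f v z)) (hv' : ∀ z, Per f v v' z → f z z ≠ 0 → p (wd f v' z))
    (X : A1) : p X := by
  have hf := P.sym
  have h0 : p 0 := by simpa using hsmul 0 h1
  obtain ⟨e, he, hee⟩ := exists_aniso P Fm
  have hE : p (vecMulVec v (formVec f v)) := by
    have := hsmul (-(f e e))⁻¹ (hmul (hv e he hee) (hv e he hee))
    rwa [wd_sq hf Fm.vv he.1, inv_smul_smul₀ (neg_ne_zero.2 hee)] at this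
  have hall : ∀ z, Per f v v' z → p (wd f v' z) := fun z hz => by
    by_cases hz0 : z = 0
    · rw [hz0, wd_zero hf]; exact h0
    refine per_induction hf Fm (p := fun z => p (wd f v' z)) (fun a b _ _ ha hb => ?_) hv' hz hz0
    rw [show wd f v' (a + b) = wd f v' a + wd f v' b from Matrix.mulVec_injective (funext fun w => by
      simp only [add_mulVec, wd_mulVec hf, hf.addR]; module)]
    exact hadd ha hb
  let O : Submodule F W1 :=
    { carrier := {x | ∃ Y, p Y ∧ Y ∈ Submodule.span F (Set.univ : Set A1) ∧ Y *ᵥ v = x}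
      zero_mem' := ⟨0, h0, Submodule.zero_mem _, zero_mulVec v⟩
      add_mem' := fun ⟨A, ha, _, e1⟩ ⟨B, hb, _, e2⟩ =>
        ⟨A + B, hadd ha hb, Submodule.subset_span trivial, by rw [add_mulVec, e1, e2]⟩
      smul_mem' := fun c _ ⟨A, ha, _, e1⟩ => ⟨c • A, hsmul c ha, Submodule.subset_span trivial, by rw [smul_mulVec, e1]⟩ }
  have hwd : ∀ z, Per f v v' z → wd f v' z *ᵥ v = z := fun z hz => by
    rw [wd_mulVec hf, Fm.pair, hf.comm z v, hz.1]; module
  have horb : ∀ x, x ∈ O := fun x => by
    rw [show x = f x v' • v + f x v • v' + (x - f x v' • v - f x v • v') by abel]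
    refine O.add_mem (O.add_mem (O.smul_mem _ ⟨1, h1, Submodule.subset_span trivial, one_mulVec v⟩)
      (O.smul_mem _ ?_)) ⟨_, hall _ (per_proj hf Fm x), Submodule.subset_span trivial, hwd _ (per_proj hf Fm x)⟩
    refine ⟨(-(f e e))⁻¹ • (wd f v' e * wd f v' e), hsmul _ (hmul (hv' e he hee) (hv' e he hee)),
      Submodule.subset_span trivial, ?_⟩
    rw [smul_mulVec, ← mulVec_mulVec, hwd e he, wd_mulVec hf, he.2, zero_smul, zero_sub, ← neg_smul,
      inv_smul_smul₀ (neg_ne_zero.2 hee)]
  have hleft : ∀ a, p (vecMulVec a (formVec f v)) := fun a => by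
    obtain ⟨Y, hY, -, rfl⟩ := horb a
    rw [← mul_vecMulVec]
    exact hmul hY hE
  have hskew : ∀ (Y : A1), Y ∈ skew hf → ∀ a x : W1, vecMulVec a (formVec f x) * Y = -vecMulVec a (formVec f (Y *ᵥ x)) :=
    fun Y hY a x => Matrix.mulVec_injective (funext fun w => by
      rw [← mulVec_mulVec, neg_mulVec, vecMulVec_mulVec, vecMulVec_mulVec, hf.dot, hf.dot]
      simp only [op_smul_eq_smul]
      rw [← neg_smul, show f (Y *ᵥ w) x = -f w (Y *ᵥ x) by
        have h : f (Y *ᵥ w) x + f w (Y *ᵥ x) = 0 := hY w x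
        linear_combination h])
  have hzr : ∀ a z, Per f v v' z → p (vecMulVec a (formVec f z)) := fun a z hz => by
    have := hsmul (-1) (hmul (hleft a) (hall z hz))
    rwa [hskew _ (wd_mem hf _ _), hwd z hz, smul_neg, neg_one_smul, neg_neg] at this
  have hv'r : ∀ a, p (vecMulVec a (formVec f v')) := fun a => by
    have := hsmul (f e e)⁻¹ (hmul (hzr a e he) (hall e he))
    rw [hskew _ (wd_mem hf _ _), wd_mulVec hf, he.2, zero_smul, zero_sub, ← neg_smul] at this
    rw [show -vecMulVec a (formVec f ((-f e e) • v')) = f e e • vecMulVec a (formVec f v') from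
      Matrix.mulVec_injective (funext fun w => by
        rw [neg_mulVec, smul_mulVec, vecMulVec_mulVec, vecMulVec_mulVec, hf.dot, hf.dot, hf.smulR]
        simp only [op_smul_eq_smul]; module), inv_smul_smul₀ hee] at this
    exact this
  have hb : ∀ a b, p (vecMulVec a (formVec f b)) := fun a b => by
    have : vecMulVec a (formVec f b) = f b v' • vecMulVec a (formVec f v) + f b v • vecMulVec a (formVec f v') +
        vecMulVec a (formVec f (b - f b v' • v - f b v • v')) := Matrix.mulVec_injective (funext fun w => by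
      simp only [add_mulVec, smul_mulVec, vecMulVec_mulVec, hf.dot, hf.subR, hf.smulR, op_smul_eq_smul]
      module)
    rw [this]
    exact hadd (hadd (hsmul _ (hleft a)) (hsmul _ (hv'r a))) (hzr a _ (per_proj hf Fm b))
  rw [Matrix.matrix_eq_sum_single X]
  refine Finset.sum_induction _ p (fun _ _ => hadd) h0 fun i _ => ?_
  refine Finset.sum_induction _ p (fun _ _ => hadd) h0 fun l _ => ?_
  obtain ⟨b, hbl⟩ := formVec_surjective hf.sf.lin hf.addR hf.nondegenerate (Pi.single l (X i l))
  rw [show Matrix.single i l (X i l) = vecMulVec (Pi.single i 1) (formVec f b) by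
    rw [hbl]; ext a c; simp [Matrix.single_apply, vecMulVec_apply, Pi.single_apply, eq_comm]; split_ifs <;> simp_all]
  exact hb _ _

/-- A block is the block of one factor and one line. -/
theorem block_index (hk : 2 ≤ k) {l l' : ι} {w w' : W1} (hw : w ≠ 0) (hw' : w' ≠ 0)
    (h : (block l w : Submodule F Vec) = block l' w') : l = l' := by
  by_contra hne
  obtain ⟨u, hu, -⟩ := Cfsg.Agent.Lib.TensorSympMax.Quad.avoid_two hk w w
  have hu0 : u ≠ 0 := fun e => hu (e ▸ Submodule.zero_mem _)
  obtain ⟨y, hy, hyl, hyl'⟩ := block_meet hk hne hu0 hw'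
  exact hy (block_disjoint hu hw hyl (h ▸ hyl'))

/-- An element conjugating every root element of a factor into the stabiliser lies in the stabiliser. -/
theorem stab_of_conj [Fintype F] (P : Par f) {A : GG} (hι : 0 < Fintype.card ι)
    (h : ∀ (i : ι) (v z : W1), v ≠ 0 → f v v = 0 → f z v = 0 → A * rt f i v z * A⁻¹ ∈ SI ι f) :
    A ∈ stab ι k F := by
  classical
  have hf := P.sym
  have hk := P.hk
  have hex : ∀ i (v v' : W1), Fr f v v' → ∀ z, Per f v v' z → f z z ≠ 0 →
      ∃ (l : ι) (K : A1) (w : W1), (A : Big) * oneM i (wd f v z) = oneM l K * (A : Big) ∧ w ≠ 0 ∧ Maps A i v l w := by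
    intro i v v' Fm z hz hzz
    have hv0 := Fm.ne hf
    have hzs : ∀ s : F, f (s • z) v = 0 := fun s => by rw [hf.smulL, hz.1, mul_zero]
    obtain ⟨s, hs, l, b, hb⟩ : ∃ s : F, s ≠ 0 ∧ ∃ (l : ι) (b : A1),
        ((A * rt f i v (s • z) * A⁻¹ : GG) : Big) = oneM l b := by
      by_cases h4 : 4 ≤ k ∨ (3 : F) ≠ 0
      · refine ⟨1, one_ne_zero, ?_⟩
        rw [one_smul]
        exact Fusion.fusion_one P h4 A i hv0 Fm.vv hz.1 hzz (h i v z hv0 Fm.vv hz.1)
      · exact Fusion.fusion_all P A i hv0 Fm.vv hz.1 hzz fun s => h i v _ hv0 Fm.vv (hzs s)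
    set N := eN f v (s • z)
    have hN : (A : Big) * oneM i N = oneM l (b - 1) * (A : Big) := by
      have h2 : ((A * rt f i v (s • z) * A⁻¹ : GG) : Big) * (A : Big) = (A : Big) * (rt f i v (s • z) : Big) := by
        rw [← Units.val_mul, inv_mul_cancel_right, Units.val_mul]
      rw [hb, coe_rt hf i Fm.vv (hzs s), mul_add, mul_one] at h2
      have e : oneM l (b - 1) = oneM l b - (1 : Big) := by
        rw [eq_sub_iff_add_eq]
        conv_lhs => arg 2; rw [← oneM_one (F := F) (m := k) l]
        rw [← oneM_add, sub_add_cancel]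
      rw [e, sub_mul, one_mul, h2, add_sub_cancel_left]
    have hN2 : (A : Big) * oneM i (N * N) = oneM l ((b - 1) * (b - 1)) * (A : Big) := by
      rw [← oneM_mul, ← oneM_mul, ← mul_assoc, hN, mul_assoc, hN, mul_assoc]
    have hsz : f (s • z) (s • z) ≠ 0 := by
      rw [hf.smulL, hf.smulR]; exact mul_ne_zero hs (mul_ne_zero hs hzz)
    obtain ⟨w, hw, hm⟩ := Core.maps_of_oneM (by omega) A i l hv0 (N := N * N) (fun u => by
        rw [← mulVec_mulVec, eN_comp hf Fm.vv (hzs s) (hzs s)]
        exact Submodule.smul_mem _ _ (Submodule.mem_span_singleton_self v))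
      (fun e => by
        have := (Fusion.eN_ranks hf (Fusion.seed_of hf hv0 Fm.vv (hzs s) hsz) hsz).2
        rw [e, Matrix.rank_zero] at this
        exact zero_ne_one this) hN2
    have hX : wd f v z = s⁻¹ • (-N + (2 : F)⁻¹ • (N * N)) := by
      refine Matrix.mulVec_injective (funext fun u => ?_)
      rw [smul_mulVec, add_mulVec, neg_mulVec, smul_mulVec, ← mulVec_mulVec, eN_comp hf Fm.vv (hzs s) (hzs s),
        eN_mulVec hf]
      simp only [wd_mulVec hf, hf.smulR, hf.smulL]
      match_scalars <;> field_simp <;> ring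
    refine ⟨l, s⁻¹ • (-(b - 1) + (2 : F)⁻¹ • ((b - 1) * (b - 1))), w, ?_, hw, hm⟩
    have hneg : ∀ (q : ι) (D : A1), oneM q (-D) = -(oneM q D : Big) := fun q D => by
      rw [← neg_one_smul F D, oneM_smul, neg_one_smul]
    rw [hX, oneM_smul, oneM_add, oneM_smul, hneg, oneM_smul, oneM_add, oneM_smul, hneg, Matrix.mul_smul,
      Matrix.smul_mul, mul_add, add_mul, Matrix.mul_neg, Matrix.neg_mul, Matrix.mul_smul, Matrix.smul_mul, hN, hN2]
  obtain ⟨v, v', Fm⟩ := exists_frame P
  obtain ⟨e, he, hee⟩ := exists_aniso P Fm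
  haveI : Nonempty ι := Fintype.card_pos_iff.1 hι
  refine Cfsg.Agent.Lib.TensorSympMax.Quad.mem_stab_of_maps (by omega) _ ι rfl hι A fun i u hu => ?_
  obtain ⟨l, K, w, hK, hw, hm⟩ := hex i v v' Fm e he hee
  obtain ⟨l', K', w', hK', hw', hm'⟩ := hex i v' v (Fm.symm hf) e ⟨he.2, he.1⟩ hee
  have hll : l' = l := by
    by_contra hne
    have hc : oneM i (wd f v e * wd f v' e) = (oneM i (wd f v' e * wd f v e) : Big) := by
      refine Matrix.mulVec_injective (funext fun y => gl_mulVec_injective A ?_)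
      show (A : Big) *ᵥ _ = (A : Big) *ᵥ _
      rw [mulVec_mulVec, mulVec_mulVec]
      congr 1
      rw [← oneM_mul, ← oneM_mul, ← mul_assoc, ← mul_assoc, hK, hK', mul_assoc, mul_assoc, hK, hK', ← mul_assoc,
        ← mul_assoc, Core.oneM_comm hne]
    have hcc : wd f v e * wd f v' e = wd f v' e * wd f v e := by
      haveI : Nonempty ({l // l ≠ i} → Fin k) := ⟨fun _ => ⟨0, by omega⟩⟩
      refine Matrix.mulVec_injective (funext fun y => ?_)
      have h1 := congrArg (fun X : Big => X *ᵥ ins i y (fun _ => 1)) hc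
      simp only [TensorPowerMax.Roots.oneM_mulVec_ins] at h1
      funext a
      have h4 := congrFun (congrArg (ctr i (Pi.single a 1)) h1) (Classical.arbitrary _)
      simpa [ctr_ins] using h4
    exact hee ((brk_opposite hf Fm he he (sub_eq_zero.2 hcc)).1)
  subst hll
  have key : ∀ X : A1, ∃ K : A1, (A : Big) * oneM i X = oneM l' K * (A : Big) := by
    refine generate P Fm ⟨1, by rw [oneM_one, oneM_one, one_mul, mul_one]⟩
      (fun {X Y} ⟨K, hK⟩ ⟨L, hL⟩ => ⟨K + L, by rw [oneM_add, oneM_add, mul_add, hK, hL, add_mul]⟩)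
      (fun s {X} ⟨K, hK⟩ => ⟨s • K, by rw [oneM_smul, oneM_smul, Matrix.mul_smul, hK, Matrix.smul_mul]⟩)
      (fun {X Y} ⟨K, hK⟩ ⟨L, hL⟩ => ⟨K * L, by rw [← oneM_mul, ← oneM_mul, ← mul_assoc, hK, mul_assoc, hL, mul_assoc]⟩)
      (fun z hz hzz => ?_) (fun z hz hzz => ?_)
    · obtain ⟨l2, K2, w2, hK2, hw2, hm2⟩ := hex i v v' Fm z hz hzz
      obtain rfl : l2 = l' := block_index (by omega) hw2 hw (hm2.symm.trans hm)
      exact ⟨K2, hK2⟩
    · obtain ⟨l2, K2, w2, hK2, hw2, hm2⟩ := hex i v' v (Fm.symm hf) z ⟨hz.2, hz.1⟩ hzz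
      obtain rfl : l2 = l' := block_index (by omega) hw2 hw' (hm2.symm.trans hm')
      exact ⟨K2, hK2⟩
  obtain ⟨φ, hφ⟩ := exists_dot_eq_one hu
  obtain ⟨K, hK⟩ := key (vecMulVec u φ)
  obtain ⟨x, hx, hxm⟩ := Core.maps_of_oneM (by omega) A i l' hu (N := vecMulVec u φ) (fun y => by
      rw [vecMulVec_mulVec]
      simp only [op_smul_eq_smul]
      exact Submodule.smul_mem _ _ (Submodule.mem_span_singleton_self u))
    (fun h0 => hu (by
      have := congrArg (fun X : A1 => X *ᵥ u) h0
      simpa [vecMulVec_mulVec, hφ] using this)) hK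
  exact ⟨l', x, hx, hxm⟩

end Cfsg.Agent.Lib.TensorPowerOrth.Alg
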