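import Cfsg.Agent.Lib.TensorPowerOrth.Kron
import Cfsg.Agent.Lib.TensorPowerOrth.Skew
import Cfsg.Agent.Lib.TensorSympMax.Quad

/-!
Blocks of isotropic vectors, their orthogonals, and the isometries radical at a block.
-/

set_option autoImplicit false
set_option linter.unusedSectionVars false

namespace Cfsg.Agent.Lib.TensorPowerOrth.Block

open Matrix
open Cfsg.Agent.Lib.Subspaces.Transvection Cfsg.Agent.Lib.Subspaces.FormVec
  Cfsg.Agent.Lib.TensorPowerMax.Basic Cfsg.Agent.Lib.TensorOrthMax.Side Cfsg.Agent.Lib.TensorOrthMax.Setup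
  Cfsg.Agent.Lib.TensorPowerOrth.Form Cfsg.Agent.Lib.TensorPowerOrth.Frame Cfsg.Agent.Lib.TensorPowerOrth.Roots
  Cfsg.Agent.Lib.TensorPowerOrth.Skew Cfsg.Agent.Lib.TensorPowerOrth.Kron
open Cfsg.Agent.Lib.TensorSympMax.Quad (Maps maps_of_le)
open Cfsg.Agent.Lib.TensorSympMax.Basic (ins_add_vec)

variable {ι : Type} [Fintype ι] [DecidableEq ι] {k : ℕ} {F : Type*} [Field F]

local notation "A1" => Matrix (Fin k) (Fin k) F
local notation "Big" => Matrix (ι → Fin k) (ι → Fin k) F
local notation "GG" => GL (ι → Fin k) F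
local notation "W1" => Fin k → F
local notation "Vec" => (ι → Fin k) → F

/-- Orthogonality to a block. -/
def Perp (f : (Fin k → F) → (Fin k → F) → F) (j : ι) (v : Fin k → F) (y : (ι → Fin k) → F) : Prop :=
  ∀ u, Bt f (ins j v u) y = 0

/-- Fixing a block, and the orthogonal of the block modulo the block. -/
structure Radical (f : (Fin k → F) → (Fin k → F) → F) (j : ι) (v : Fin k → F) (x : GL (ι → Fin k) F) : Prop where
  fix : ∀ u, (x : Matrix (ι → Fin k) (ι → Fin k) F) *ᵥ ins j v u = ins j v u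
  perp : ∀ y, Perp f j v y → (x : Matrix (ι → Fin k) (ι → Fin k) F) *ᵥ y - y ∈ block j v

/-- The only elements radical at an isotropic block are the Eichler elements of the factor. -/
def NoRad (f : (Fin k → F) → (Fin k → F) → F) (M : Subgroup (GL (ι → Fin k) F)) : Prop :=
  ∀ x ∈ M, ∀ (j : ι) (v : Fin k → F), v ≠ 0 → f v v = 0 → Radical f j v x →
    ∃ z, f z v = 0 ∧ x = rt f j v z

variable {f : (Fin k → F) → (Fin k → F) → F}

section

variable (hf : Sym f)
include hf

theorem perp_iff {j : ι} {v : W1} {y : Vec} : Perp f j v y ↔ ctr j (formVec f v) y = 0 := by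
  constructor
  · intro h
    refine Bt_nondeg hf fun u => ?_
    rw [Bt_comm hf, ← Bt_ins_right hf, Bt_comm hf]
    exact h u
  · intro h u
    rw [Bt_comm hf, Bt_ins_right hf, h, Bt_zeroL]

theorem perp_ins {j : ι} {v w : W1} (h : f w v = 0) (u : ({i // i ≠ j} → Fin k) → F) :
    Perp f j v (ins j w u) := fun u' => by rw [Bt_ins_ins hf, hf.comm w v, h, zero_mul]

theorem perp_block {j : ι} {v : W1} (hv : f v v = 0) {y : Vec} (hy : y ∈ block j v) : Perp f j v y := by
  obtain ⟨u, rfl⟩ := hy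
  exact perp_ins hf hv u

/-- A vector is split along a frame at one factor. -/
theorem frame_split {v v' : W1} (Fm : Fr f v v') (j : ι) (y : Vec) :
    ∃ Q : A1, (∀ w, Per f v v' (Q *ᵥ w)) ∧
      y = ins j v (ctr j (formVec f v') y) + ins j v' (ctr j (formVec f v) y) + oneM j Q *ᵥ y := by
  set E : A1 := vecMulVec v (formVec f v')
  set E' : A1 := vecMulVec v' (formVec f v)
  refine ⟨1 - E - E', fun w => ?_, ?_⟩
  · rw [sub_mulVec, sub_mulVec, one_mulVec, vecMulVec_mulVec, vecMulVec_mulVec, hf.dot, hf.dot]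
    simp only [op_smul_eq_smul]
    exact per_proj hf Fm w
  · conv_lhs => rw [← one_mulVec y, ← oneM_one (F := F) (m := k) j, show (1 : A1) = E + E' + (1 - E - E') by abel]
    rw [oneM_add, oneM_add, add_mulVec, add_mulVec, oneM_mulVec, oneM_mulVec]

/-- Statements linear in a vector orthogonal to a block are checked on two kinds of tensors. -/
theorem perp_induction {v v' : W1} (Fm : Fr f v v') (j : ι) {p : Vec → Prop} (hadd : ∀ a b, p a → p b → p (a + b))
    (hv : ∀ u, p (ins j v u)) (hz : ∀ z, Per f v v' z → ∀ u, p (ins j z u)) {y : Vec} (hy : Perp f j v y) : p y := by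
  obtain ⟨Q, hQ, e⟩ := frame_split hf Fm j y
  rw [e, (perp_iff hf).1 hy, map_zero, add_zero, ins_sum j y, Matrix.mulVec_sum]
  refine hadd _ _ (hv _) ?_
  refine Finset.sum_induction _ p hadd ?_ fun a _ => ?_
  · rw [← map_zero (ins j v)]; exact hv 0
  · rw [TensorPowerMax.Roots.oneM_mulVec_ins]; exact hz _ (hQ _) _

/-- The image of an isotropic block under an isometry is isotropic. -/
theorem maps_iso (hk : 0 < k) {g : GG} (hg : g ∈ isoB ι f) {j l : ι} {v w : W1} (hv : f v v = 0)
    (h : Maps g j v l w) : f w w = 0 := by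
  haveI : Nonempty ({i // i ≠ l} → Fin k) := ⟨fun _ => ⟨0, hk⟩⟩
  set r : ({i // i ≠ l} → Fin k) → F := Pi.single (Classical.arbitrary _) 1
  have hr : r ≠ 0 := by simp [r]
  obtain ⟨r', hr'⟩ : ∃ r', Bt f r' r ≠ 0 := by
    by_contra hc
    push Not at hc
    exact hr (Bt_nondeg hf hc)
  obtain ⟨a, ha⟩ := h.exists_pre r'
  obtain ⟨b, hb⟩ := h.exists_pre r
  have := Bt_ins_ins hf l w w r' r
  rw [← ha, ← hb, hg, Bt_ins_ins hf, hv, zero_mul, eq_comm, mul_eq_zero] at this
  exact this.resolve_right hr'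

/-- Radical elements are moved with their blocks by similitudes. -/
theorem Radical.conj' {g x : GG} {c : F} (hc : c ≠ 0)
    (hg : ∀ a b, Bt f ((g : Big) *ᵥ a) ((g : Big) *ᵥ b) = c * Bt f a b) {j l : ι} {v w : W1} (h : Maps g j v l w)
    (hx : Radical f j v x) : Radical f l w (g * x * g⁻¹) where
  fix u := by
    obtain ⟨u', hu'⟩ := h.exists_pre u
    rw [← hu', gl_mul_mulVec, gl_mul_mulVec, gl_inv_mulVec, hx.fix]
  perp y hy := by
    have hy' : Perp f j v (((g⁻¹ : GG) : Big) *ᵥ y) := fun u => by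
      obtain ⟨u', hu'⟩ := h.mem u
      have h0 := hg (ins j v u) (((g⁻¹ : GG) : Big) *ᵥ y)
      rw [gl_mulVec_inv, ← hu', hy u', eq_comm, mul_eq_zero] at h0
      exact h0.resolve_left hc
    obtain ⟨u, hu⟩ := hx.perp _ hy'
    have e : ((g * x * g⁻¹ : GG) : Big) *ᵥ y - y =
        (g : Big) *ᵥ ((x : Big) *ᵥ (((g⁻¹ : GG) : Big) *ᵥ y) - ((g⁻¹ : GG) : Big) *ᵥ y) := by
      rw [gl_mul_mulVec, gl_mul_mulVec, mulVec_sub, gl_mulVec_inv g y]
    rw [e, ← hu]
    exact h.mem u

/-- Radical elements are moved with their blocks. -/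
theorem Radical.conj {g x : GG} (hg : g ∈ isoB ι f) {j l : ι} {v w : W1} (h : Maps g j v l w)
    (hx : Radical f j v x) : Radical f l w (g * x * g⁻¹) :=
  Radical.conj' hf one_ne_zero (fun a b => by rw [one_mul, hg]) h hx

theorem wd_add_self {v z : W1} (c : F) : wd f v (z + c • v) = wd f v z :=
  Matrix.mulVec_injective (funext fun w => by simp only [wd_mulVec hf, hf.addR, hf.smulR]; module)

/-- An Eichler element depends only on the class of its vector modulo the line. -/
theorem rt_shift (j : ι) {v z : W1} (hv : f v v = 0) (hz : f z v = 0) (c : F) :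
    rt f j v (z + c • v) = rt f j v z := by
  have h' : f (z + c • v) v = 0 := by rw [hf.addL, hz, hf.smulL, hv, mul_zero, add_zero]
  refine Units.ext ?_
  rw [coe_rt hf j hv h', coe_rt hf j hv hz, eN_eq hf hv h', eN_eq hf hv hz, wd_add_self hf]

/-- Eichler elements of a factor are radical at their block. -/
theorem rt_radical (j : ι) {v v' z : W1} (Fm : Fr f v v') (hz : f z v = 0) : Radical f j v (rt f j v z) where
  fix u := by
    rw [rt_ins hf j Fm.vv hz, hf.comm z v, hz, Fm.vv]
    congr 2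
    module
  perp y hy := by
    refine perp_induction hf Fm j (p := fun y => (rt f j v z : Big) *ᵥ y - y ∈ block j v) (fun a b ha hb => ?_)
      (fun u => ?_) (fun w hw u => ?_) hy
    · simp only [mulVec_add]
      rw [add_sub_add_comm]
      exact Submodule.add_mem _ ha hb
    · rw [rt_ins hf j Fm.vv hz, hf.comm z v, hz, Fm.vv]
      rw [show v + ((0 : F) • v - (0 : F) • z - (f z z / 2 * 0) • v) = v by module, sub_self]
      exact Submodule.zero_mem _
    · rw [rt_ins hf j Fm.vv hz, hw.1, ins_add_vec, add_sub_cancel_left,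
        show f w z • v - (0 : F) • z - (f z z / 2 * 0) • v = f w z • v by module, ins_smul]
      exact Submodule.smul_mem _ _ (LinearMap.mem_range_self _ _)

end

variable {M : Subgroup (GL (ι → Fin k) F)}

/-- Conjugating by an isometry of the stabiliser keeps the property. -/
theorem NoRad.conj (hf : Sym f) (hk : 0 < k) (h : NoRad f M) {s : GG} (hs : s ∈ SI ι f) :
    NoRad f (M.map (MulAut.conj s).toMonoidHom) := by
  intro x hx l w hw hww hrad
  rw [mem_conj] at hx
  obtain ⟨a, π, hat⟩ := (stab ι k F).inv_mem hs.1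
  have hmaps : Maps (s⁻¹) l w (π l) ((a (π l) : A1) *ᵥ w) :=
    maps_of_le hw (gl_ne_zero _ hw) fun u => by
      rw [hat]; exact TensorPowerMax.Roots.tw_mulVec_block a π hw (LinearMap.mem_range_self _ _)
  obtain ⟨c, hc1, hc⟩ := similitudes hf (a := a) (π := π) (hat ▸ (isoB ι f).inv_mem hs.2) hk
  have hww' : f ((a (π l) : A1) *ᵥ w) ((a (π l) : A1) *ᵥ w) = 0 := by rw [hc, hww, mul_zero]
  have hr := hrad.conj hf ((isoB ι f).inv_mem hs.2) hmaps
  rw [inv_inv] at hr
  obtain ⟨z, hz, hxz⟩ := h _ hx _ _ (gl_ne_zero _ hw) hww' hr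
  -- move back
  set A := a (π l)
  have hcl : c (π l) ≠ 0 := fun e => by
    rw [← Finset.mul_prod_erase Finset.univ c (Finset.mem_univ (π l)), e, zero_mul] at hc1
    exact zero_ne_one hc1
  set z' : W1 := ((A⁻¹ : GL (Fin k) F) : A1) *ᵥ z with hz'
  have hAz : (A : A1) *ᵥ z' = z := gl_mulVec_inv A z
  have hzw : f z' w = 0 := by
    have := hc (π l) z' w
    rw [hAz, hz, eq_comm, mul_eq_zero] at this
    exact this.resolve_left hcl
  have hzw' : f (c (π l) • z') w = 0 := by rw [hf.smulL, hzw, mul_zero]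
  refine ⟨c (π l) • z', hzw', ?_⟩
  have hA : A⁻¹ * er f ((A : A1) *ᵥ w) z * A = er f w (c (π l) • z') := by
    refine gl_ext fun u => ?_
    rw [gl_mul_mulVec, gl_mul_mulVec]
    refine gl_mulVec_injective A ?_
    show (A : A1) *ᵥ _ = (A : A1) *ᵥ _
    rw [gl_mulVec_inv, er_mulVec hf hww' (hAz ▸ (by rw [hc, hzw, mul_zero] : f ((A : A1) *ᵥ z') ((A : A1) *ᵥ w) = 0)),
      er_mulVec hf hww hzw', mulVec_add, mulVec_sub, mulVec_sub, mulVec_smul, mulVec_smul, mulVec_smul, mulVec_smul,
      hAz]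
    have e1 : f ((A : A1) *ᵥ u) z = c (π l) * f u z' := by rw [← hAz, hc]
    have e2 : f z z = c (π l) * f z' z' := by rw [← hAz, hc]
    rw [e1, e2, hc]
    simp only [hf.smulL, hf.smulR]
    module
  have : x = s * rt f (π l) ((A : A1) *ᵥ w) z * s⁻¹ := by rw [← hxz]; group
  rw [this, show s = (ptGL a * pmGL π)⁻¹ by rw [← hat, inv_inv], inv_inv]
  have hconj := tw_conj_oneGL a π l (er f w (c (π l) • z'))
  rw [← hA, show A * (A⁻¹ * er f ((A : A1) *ᵥ w) z * A) * A⁻¹ = er f ((A : A1) *ᵥ w) z by group] at hconj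
  show _ * oneGL (π l) (er f ((A : A1) *ᵥ w) z) * _ = oneGL l _
  rw [← hconj, ← hA]
  group

end Cfsg.Agent.Lib.TensorPowerOrth.Block
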