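import Cfsg.Agent.Lib.TensorPowerOrth.Upper

/-!
Without radical elements, an element carrying an isotropic block to a block lies in the stabiliser: up to an
element of one factor it is a matrix of the other factors, which conjugates their root elements into their
stabiliser.
-/

set_option autoImplicit false
set_option linter.unusedSectionVars false
set_option linter.style.haveILetI false

namespace Cfsg.Agent.Lib.TensorPowerOrth.BlockTo

open Matrix
open Cfsg.Agent.Lib.Subspaces.Transvection Cfsg.Agent.Lib.Subspaces.FormVec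
  Cfsg.Agent.Lib.TensorPowerMax.Basic Cfsg.Agent.Lib.TensorOrthMax.Side Cfsg.Agent.Lib.TensorOrthMax.Setup
  Cfsg.Agent.Lib.TensorPowerOrth.Form Cfsg.Agent.Lib.TensorPowerOrth.Frame Cfsg.Agent.Lib.TensorPowerOrth.Roots
  Cfsg.Agent.Lib.TensorPowerOrth.Skew Cfsg.Agent.Lib.TensorPowerOrth.Kron Cfsg.Agent.Lib.TensorPowerOrth.Block
  Cfsg.Agent.Lib.TensorPowerOrth.Upper
open Cfsg.Agent.Lib.TensorSympMax.Quad (Maps maps_of_le)
open Cfsg.Agent.Lib.TensorSympMax.Basic (ins_add_vec ins_zero_vec)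

variable {ι : Type} [Fintype ι] [DecidableEq ι] {k : ℕ} {F : Type*} [Field F]

local notation "A1" => Matrix (Fin k) (Fin k) F
local notation "Big" => Matrix (ι → Fin k) (ι → Fin k) F
local notation "GG" => GL (ι → Fin k) F
local notation "W1" => Fin k → F
local notation "Vec" => (ι → Fin k) → F

variable {f : (Fin k → F) → (Fin k → F) → F}

theorem oneM_inj (hk : 0 < k) (j : ι) {D D' : A1} (h : oneM j D = (oneM j D' : Big)) : D = D' := by
  haveI : Nonempty ({l // l ≠ j} → Fin k) := ⟨fun _ => ⟨0, hk⟩⟩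
  refine Matrix.mulVec_injective (funext fun y => ?_)
  have h1 := congrArg (fun X : Big => X *ᵥ ins j y (fun _ => 1)) h
  simp only [TensorPowerMax.Roots.oneM_mulVec_ins] at h1
  funext a
  have h4 := congrFun (congrArg (ctr j (Pi.single a 1)) h1) (Classical.arbitrary _)
  simpa [ctr_ins] using h4

theorem oneM_neg (j : ι) (D : A1) : oneM j (-D) = -(oneM j D : Big) := by
  rw [← neg_one_smul F D, oneM_smul, neg_one_smul]

section

variable [Fintype F] {M1 M2 : Subgroup (GL (ι → Fin k) F)}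

/-- An element moving the block of `v` to the block of `w` at the same factor intertwines the root
transformations through a similitude of the factor. -/
theorem root_image (S1 : Setting f M1) (NR : NoRad f M2) {h : GG} (hh : h ∈ isoB ι f)
    (hc : ∀ x ∈ M1, h * x * h⁻¹ ∈ M2) {j : ι} {v v' w w' : W1} (Fm : Fr f v v') (Fw : Fr f w w')
    (hm : Maps h j v j w) :
    ∃ (G : GL (Fin k) F) (c : F), c ≠ 0 ∧ (∀ x y, f ((G : A1) *ᵥ x) ((G : A1) *ᵥ y) = c * f x y) ∧
      (G : A1) *ᵥ v = c • w ∧ (G : A1) *ᵥ v' = w' ∧ (∀ z, Per f v v' z → Per f w w' ((G : A1) *ᵥ z)) ∧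
      ∀ z, Per f v v' z → (h : Big) * oneM j (wd f v z) = oneM j ((G : A1) * wd f v z * (G⁻¹).val) * (h : Big) := by
  classical
  have hf := S1.sym
  have hk := S1.hk
  have hex : ∀ z, ∃ p, Per f w w' p ∧ (Per f v v' z →
      (h : Big) * oneM j (wd f v z) = oneM j (wd f w p) * (h : Big)) := by
    intro z
    by_cases hz : Per f v v' z
    swap
    · exact ⟨0, per_zero hf, fun e => absurd e hz⟩
    obtain ⟨p, hp, hxp⟩ := NR _ (hc _ (S1.rt_mem j Fm.vv hz.1)) j w (Fw.ne hf) Fw.vv
      ((rt_radical hf j Fm hz.1).conj hf hh hm)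
    have hp' : Per f w w' (p - f p w' • w) :=
      ⟨by rw [hf.subL, hp, hf.smulL, Fw.vv, mul_zero, sub_zero],
        by rw [hf.subL, hf.smulL, Fw.pair, mul_one, sub_self]⟩
    refine ⟨p - f p w' • w, hp', fun _ => ?_⟩
    set p' := p - f p w' • w
    have hxp' : h * rt f j v z * h⁻¹ = rt f j w p' := by
      rw [hxp, show p = p' + f p w' • w by simp [p'], rt_shift hf j Fw.vv hp'.1]
    have hneg : h * rt f j v (-z) * h⁻¹ = rt f j w (-p') := by
      rw [← rt_inv hf j Fm.vv hz.1, ← rt_inv hf j Fw.vv hp'.1, ← hxp']; group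
    have e1 : (h : Big) * (rt f j v z : Big) = (rt f j w p' : Big) * (h : Big) := by
      rw [← Units.val_mul, ← Units.val_mul, ← hxp', inv_mul_cancel_right]
    have e2 : (h : Big) * (rt f j v (-z) : Big) = (rt f j w (-p') : Big) * (h : Big) := by
      rw [← Units.val_mul, ← Units.val_mul, ← hneg, inv_mul_cancel_right]
    have hd : ∀ {u q : W1}, f u u = 0 → f q u = 0 →
        (rt f j u q : Big) - (rt f j u (-q) : Big) = (-2 : F) • oneM j (wd f u q) := by
      intro u q hu hq
      have hq' : f (-q) u = 0 := by rw [hf.negL, hq, neg_zero]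
      rw [coe_rt hf j hu hq, coe_rt hf j hu hq', eN_eq hf hu hq, eN_eq hf hu hq',
        show wd f u (-q) = -wd f u q from Matrix.mulVec_injective (funext fun t => by
          simp only [neg_mulVec, wd_mulVec hf, hf.negR]; module), neg_neg, neg_mul_neg, oneM_add, oneM_add, oneM_neg]
      module
    have e3 : (-2 : F) • ((h : Big) * oneM j (wd f v z)) = (-2 : F) • (oneM j (wd f w p') * (h : Big)) := by
      rw [← Matrix.mul_smul, ← Matrix.smul_mul, ← hd Fm.vv hz.1, ← hd Fw.vv hp'.1, mul_sub, sub_mul, e1, e2]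
    exact smul_right_injective _ (neg_ne_zero.2 hf.two) e3
  choose T hT hTh using hex
  have hinj : ∀ p q, Per f w w' p → Per f w w' q → oneM j (wd f w p) * (h : Big) = oneM j (wd f w q) * (h : Big) → p = q := by
    intro p q hp hq e
    have h1 : oneM j (wd f w p) = (oneM j (wd f w q) : Big) := by
      have := congrArg (fun X : Big => X * ((h⁻¹ : GG) : Big)) e
      simpa only [Matrix.mul_assoc, Units.mul_inv, Matrix.mul_one] using this
    have h2 := congrArg (fun X : A1 => X *ᵥ w') (oneM_inj (by omega) j h1)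
    simp only [wd_mulVec hf, Fw.pair' hf, hf.comm p w', hp.2, hf.comm q w', hq.2, one_smul, zero_smul, sub_zero] at h2
    exact h2
  have hTadd : ∀ a b, Per f v v' a → Per f v v' b → T (a + b) = T a + T b := fun a b ha hb => by
    refine hinj _ _ (hT _) (per_add hf (hT _) (hT _)) ?_
    rw [← hTh _ (per_add hf ha hb)]
    have e : ∀ u x y : W1, wd f u (x + y) = wd f u x + wd f u y := fun u x y =>
      Matrix.mulVec_injective (funext fun t => by simp only [add_mulVec, wd_mulVec hf, hf.addR]; module)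
    rw [e, e, oneM_add, oneM_add, mul_add, add_mul, hTh a ha, hTh b hb]
  have hTsmul : ∀ (s : F) a, Per f v v' a → T (s • a) = s • T a := fun s a ha => by
    refine hinj _ _ (hT _) (per_smul hf s (hT _)) ?_
    rw [← hTh _ (per_smul hf s ha)]
    have e : ∀ u x : W1, wd f u (s • x) = s • wd f u x := fun u x =>
      Matrix.mulVec_injective (funext fun t => by simp only [smul_mulVec, wd_mulVec hf, hf.smulR]; module)
    rw [e, e, oneM_smul, oneM_smul, Matrix.mul_smul, Matrix.smul_mul, hTh a ha]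
  obtain ⟨e, he, hee⟩ := exists_aniso S1.par Fm
  set c := f (T e) (T e) * (f e e)⁻¹
  set Ev : A1 := vecMulVec v (formVec f v)
  set Ew : A1 := vecMulVec w (formVec f w)
  have hsq : ∀ z, Per f v v' z → f z z • ((h : Big) * oneM j Ev) = f (T z) (T z) • (oneM j Ew * (h : Big)) := by
    intro z hz
    have h1 : (h : Big) * oneM j (wd f v z * wd f v z) = oneM j (wd f w (T z) * wd f w (T z)) * (h : Big) := by
      rw [← oneM_mul, ← oneM_mul, ← mul_assoc, hTh z hz, mul_assoc, hTh z hz, mul_assoc]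
    rw [Alg.wd_sq hf Fm.vv hz.1, Alg.wd_sq hf Fw.vv (hT z).1, oneM_smul, oneM_smul, Matrix.mul_smul,
      Matrix.smul_mul, neg_smul, neg_smul, neg_inj] at h1
    exact h1
  have hEv : oneM j Ev ≠ (0 : Big) := fun e0 => by
    have h1 := oneM_inj (ι := ι) (by omega) j (D := Ev) (D' := 0) (by rw [oneM_zero]; exact e0)
    have h2 := congrArg (fun X : A1 => X *ᵥ v') h1
    rw [E_mulVec hf, Fm.pair' hf, one_smul, zero_mulVec] at h2
    exact Fm.ne hf h2
  have hhEv : (h : Big) * oneM j Ev ≠ 0 := fun e0 => hEv (by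
    have := congrArg (fun X : Big => ((h⁻¹ : GG) : Big) * X) e0
    simpa only [← Matrix.mul_assoc, Units.inv_mul, Matrix.one_mul, Matrix.mul_zero] using this)
  have hc0 : c ≠ 0 := fun e0 => by
    have h1 := hsq e he
    rw [show f (T e) (T e) = 0 from (mul_eq_zero.1 e0).resolve_right (inv_ne_zero hee), zero_smul, smul_eq_zero] at h1
    exact h1.elim hee hhEv
  have hE : (h : Big) * oneM j Ev = c • (oneM j Ew * (h : Big)) := by
    rw [show c = (f e e)⁻¹ * f (T e) (T e) from mul_comm _ _, ← smul_smul, ← hsq e he, inv_smul_smul₀ hee]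
  have hform : ∀ z, Per f v v' z → f (T z) (T z) = c * f z z := fun z hz => by
    have h1 := hsq z hz
    rw [hE, smul_smul, ← sub_eq_zero, ← sub_smul, smul_eq_zero] at h1
    refine (sub_eq_zero.1 (h1.resolve_right fun e0 => hhEv ?_)).symm.trans (mul_comm _ _)
    rw [hE, e0, smul_zero]
  have hpol : ∀ a b, Per f v v' a → Per f v v' b → f (T a) (T b) = c * f a b := fun a b ha hb => by
    have h1 := hform _ (per_add hf ha hb)
    rw [hTadd a b ha hb] at h1
    simp only [hf.addL, hf.addR, hform a ha, hform b hb, hf.comm a b, hf.comm (T a) (T b)] at h1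
    exact mul_left_cancel₀ hf.two (by linear_combination h1)
  let π : W1 → W1 := fun x => x - f x v' • v - f x v • v'
  let L : W1 →ₗ[F] W1 :=
    { toFun := fun x => (c * f x v') • w + f x v • w' + T (π x)
      map_add' := fun x y => by
        rw [show π (x + y) = π x + π y by simp only [π, hf.addL]; module,
          hTadd _ _ (per_proj hf Fm x) (per_proj hf Fm y), hf.addL, hf.addL]
        module
      map_smul' := fun s x => by
        rw [show π (s • x) = s • π x by simp only [π, hf.smulL]; module, hTsmul _ _ (per_proj hf Fm x), hf.smulL,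
          hf.smulL, RingHom.id_apply]
        module }
  have hLf : ∀ x y, f (L x) (L y) = c * f x y := fun x y => by
    have h1 : Per f v v' (π x) := per_proj hf Fm x
    have h2 : Per f v v' (π y) := per_proj hf Fm y
    have hx : x = f x v' • v + f x v • v' + π x := by simp only [π]; abel
    have hy : y = f y v' • v + f y v • v' + π y := by simp only [π]; abel
    show f ((c * f x v') • w + f x v • w' + T (π x)) ((c * f y v') • w + f y v • w' + T (π y)) = _
    conv_rhs => rw [hx, hy]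
    simp only [hf.addL, hf.addR, hf.smulL, hf.smulR, hpol _ _ h1 h2, Fw.vv, Fw.v'v', Fw.pair, Fw.pair' hf, Fm.vv,
      Fm.v'v', Fm.pair, Fm.pair' hf, (hT (π x)).1, (hT (π x)).2, hf.comm (T (π y)) w, hf.comm (T (π y)) w',
      (hT (π y)).1, (hT (π y)).2, h1.1, h1.2, hf.comm (π y) v, hf.comm (π y) v', h2.1, h2.2]
    ring
  have hLinj : Function.Injective L := by
    rw [injective_iff_map_eq_zero]
    intro x hx
    refine hf.eq_zero fun u => ?_
    have := hLf u x
    rw [hx, hf.zeroR, eq_comm, mul_eq_zero] at this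
    exact this.resolve_left hc0
  have hunit : IsUnit (LinearMap.toMatrix' L) := by
    rw [← Matrix.mulVec_injective_iff_isUnit]
    intro a b hab
    refine hLinj ?_
    rwa [← LinearMap.toMatrix'_mulVec L a, ← LinearMap.toMatrix'_mulVec L b]
  set G := hunit.unit
  have hG : ∀ x, (G : A1) *ᵥ x = L x := fun x => LinearMap.toMatrix'_mulVec L x
  have hT0 : T 0 = 0 := by simpa using hTsmul 0 0 (per_zero hf)
  have hGv : (G : A1) *ᵥ v = c • w := by
    rw [hG]
    show (c * f v v') • w + f v v • w' + T (π v) = _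
    rw [show π v = 0 by simp only [π, Fm.vv, Fm.pair]; module, hT0, Fm.pair, Fm.vv]; module
  have hGv' : (G : A1) *ᵥ v' = w' := by
    rw [hG]
    show (c * f v' v') • w + f v' v • w' + T (π v') = _
    rw [show π v' = 0 by simp only [π, Fm.v'v', Fm.pair' hf]; module, hT0, Fm.v'v', Fm.pair' hf]; module
  have hGz : ∀ z, Per f v v' z → (G : A1) *ᵥ z = T z := fun z hz => by
    rw [hG]
    show (c * f z v') • w + f z v • w' + T (π z) = _
    rw [show π z = z by simp only [π, hz.1, hz.2]; module, hz.1, hz.2]; module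
  refine ⟨G, c, hc0, fun x y => by rw [hG, hG, hLf], hGv, hGv', fun z hz => hGz z hz ▸ hT z, fun z hz => ?_⟩
  rw [hTh z hz]
  congr 2
  have hwd : wd f w (T z) * (G : A1) = (G : A1) * wd f v z := by
    refine Matrix.mulVec_injective (funext fun x => ?_)
    rw [← mulVec_mulVec, ← mulVec_mulVec, wd_mulVec hf, wd_mulVec hf, mulVec_sub, mulVec_smul, mulVec_smul, hGv,
      hGz z hz]
    have e1 : f ((G : A1) *ᵥ x) w = f x v := by
      refine mul_left_cancel₀ hc0 ?_
      rw [← hf.smulR, ← hGv, hG, hG, hLf]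
    have e2 : f ((G : A1) *ᵥ x) (T z) = c * f x z := by rw [← hGz z hz, hG, hG, hLf]
    rw [e1, e2]
    module
  calc wd f w (T z) = wd f w (T z) * ((G : A1) * (G⁻¹).val) := by rw [Units.mul_inv, mul_one]
    _ = _ := by rw [← mul_assoc, hwd]

end

/-- Contracting after an isometry of the factor. -/
theorem ctr_iso (hf : Sym f) (j : ι) {D : GL (Fin k) F} (hD : D ∈ isoF f) (y : W1) (Y : Vec) :
    ctr j (formVec f y) (oneM j (D : A1) *ᵥ Y) = ctr j (formVec f ((D⁻¹).val *ᵥ y)) Y := by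
  conv_lhs => rw [ins_sum j Y, Matrix.mulVec_sum, map_sum]
  conv_rhs => rw [ins_sum j Y, map_sum]
  refine Finset.sum_congr rfl fun a _ => ?_
  rw [TensorPowerMax.Roots.oneM_mulVec_ins, ctr_ins, ctr_ins, hf.dot, hf.dot]
  congr 1
  conv_rhs => rw [← hD, gl_mulVec_inv]

/-- The shape of a similitude commuting with the root transformations at a block. -/
theorem shape [Fintype F] (P : Par f) (j : ι) {v v' : W1} (Fm : Fr f v v') {h : GG}
    (hcom : ∀ z, Per f v v' z → (h : Big) * oneM j (wd f v z) = oneM j (wd f v z) * (h : Big)) :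
    ∃ A : GL ({i // i ≠ j} → Fin k) F, (∀ u, (h : Big) *ᵥ ins j v u = ins j v (A.val *ᵥ u)) ∧
      (∀ u, ctr j (formVec f v) ((h : Big) *ᵥ ins j v' u) = A.val *ᵥ u) ∧
      ∀ z, Per f v v' z → ∀ u, (h : Big) *ᵥ ins j z u =
        ins j z (A.val *ᵥ u) - ins j v (ctr j (formVec f z) ((h : Big) *ᵥ ins j v' u)) := by
  classical
  have hf := P.sym
  obtain ⟨e, he, hee⟩ := exists_aniso P Fm
  have hE : (h : Big) * oneM j (vecMulVec v (formVec f v)) = oneM j (vecMulVec v (formVec f v)) * (h : Big) := by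
    have h0 : oneM j (vecMulVec v (formVec f v)) = (-(f e e))⁻¹ • (oneM j (wd f v e) * oneM j (wd f v e) : Big) := by
      rw [oneM_mul, Alg.wd_sq hf Fm.vv he.1, oneM_smul, inv_smul_smul₀ (neg_ne_zero.2 hee)]
    rw [h0, Matrix.mul_smul, Matrix.smul_mul, ← mul_assoc, hcom e he, mul_assoc, hcom e he, mul_assoc]
  let D : (({i // i ≠ j} → Fin k) → F) →ₗ[F] ({i // i ≠ j} → Fin k) → F :=
    (ctr j (formVec f v)).comp ((h : Big).mulVecLin.comp (ins j v'))
  have hDv : ∀ u, (h : Big) *ᵥ ins j v u = ins j v (D u) := fun u => by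
    have h1 : oneM j (vecMulVec v (formVec f v)) *ᵥ ins j v' u = ins j v u := by
      rw [oneM_mulVec, ctr_ins, hf.dot, Fm.pair' hf, one_smul]
    rw [← h1, mulVec_mulVec, hE, ← mulVec_mulVec, oneM_mulVec]
    rfl
  have hinj : Function.Injective D := by
    rw [injective_iff_map_eq_zero]
    intro u hu
    have h1 := hDv u
    rw [hu, map_zero] at h1
    have h2 : ins j v u = 0 := gl_mulVec_injective h (h1.trans (mulVec_zero _).symm)
    exact ins_injective (Fm.ne hf) (h2.trans (map_zero _).symm)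
  have hunit : IsUnit (LinearMap.toMatrix' D) := by
    rw [← Matrix.mulVec_injective_iff_isUnit]
    intro a b hab
    refine hinj ?_
    rwa [← LinearMap.toMatrix'_mulVec D a, ← LinearMap.toMatrix'_mulVec D b]
  refine ⟨hunit.unit, fun u => ?_, fun u => ?_, fun z hz u => ?_⟩
  · show _ = ins j v (LinearMap.toMatrix' D *ᵥ u)
    rw [LinearMap.toMatrix'_mulVec, hDv]
  · show _ = LinearMap.toMatrix' D *ᵥ u
    rw [LinearMap.toMatrix'_mulVec]; rfl
  · show _ = ins j z (LinearMap.toMatrix' D *ᵥ u) - _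
    have h1 : oneM j (wd f v z) *ᵥ ins j v' u = ins j z u := by
      rw [TensorPowerMax.Roots.oneM_mulVec_ins, wd_mulVec hf, Fm.pair' hf, hf.comm z v', hz.2]
      congr 2; module
    rw [LinearMap.toMatrix'_mulVec, ← h1, mulVec_mulVec, hcom z hz, ← mulVec_mulVec, wd,
      eq_sub_of_add_eq (show oneM j (vecMulVec z (formVec f v) - vecMulVec v (formVec f z)) +
        oneM j (vecMulVec v (formVec f z)) = (oneM j (vecMulVec z (formVec f v)) : Big) by
          rw [← oneM_add, sub_add_cancel]), sub_mulVec, oneM_mulVec, oneM_mulVec]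
    rfl

/-- An element carrying a block to a block of the same factor lies in the stabiliser. -/
theorem same [Fintype F] {M1 M2 : Subgroup GG} (S1 : Setting f M1) (S2 : Setting f M2) (NR : NoRad f M2)
    (IH : Lower ι f) {h : GG} (hh : h ∈ isoB ι f) (hc : ∀ x ∈ M1, h * x * h⁻¹ ∈ M2) (j : ι) {v w : W1}
    (hv0 : v ≠ 0) (hvv : f v v = 0) (hw0 : w ≠ 0) (hm : Maps h j v j w) : h ∈ stab ι k F := by
  classical
  have hf := S1.sym
  have P := S1.par
  have hk := S1.hk
  obtain ⟨v', Fm⟩ := exists_frame_of P hv0 hvv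
  obtain ⟨w', Fw⟩ := exists_frame_of P hw0 (maps_iso hf (by omega) hh hvv hm)
  obtain ⟨G, c, hc0, hGf, hGv, -, hGP, hGh⟩ := root_image S1 NR hh hc Fm Fw hm
  set g : GG := oneGL j G
  set h1 : GG := g⁻¹ * h
  have hgval : (g : Big) = oneM j (G : A1) := coe_oneGL j G
  have hgX : ∀ X : A1, oneM j ((G : A1) * X * (G⁻¹).val) * (g : Big) = (g : Big) * oneM j X := fun X => by
    rw [hgval, oneM_mul, oneM_mul, mul_assoc, Units.inv_mul, mul_one]
  have hcom1 : ∀ z, Per f v v' z → (h1 : Big) * oneM j (wd f v z) = oneM j (wd f v z) * (h1 : Big) := fun z hz => by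
    have e1 : ((g⁻¹ : GG) : Big) * oneM j ((G : A1) * wd f v z * (G⁻¹).val) = oneM j (wd f v z) * ((g⁻¹ : GG) : Big) := by
      have := congrArg (fun Y : Big => ((g⁻¹ : GG) : Big) * Y * ((g⁻¹ : GG) : Big)) (hgX (wd f v z))
      simp only [← mul_assoc, Units.inv_mul, one_mul] at this
      rwa [mul_assoc _ (g : Big), Units.mul_inv, mul_one] at this
    rw [Units.val_mul, mul_assoc, hGh z hz, ← mul_assoc, e1, mul_assoc]
  obtain ⟨A, hAv, hAv', hAz⟩ := shape P j Fm hcom1
  let B : W1 → (({i // i ≠ j} → Fin k) → F) → ({i // i ≠ j} → Fin k) → F := fun z u =>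
    ctr j (formVec f z) ((h1 : Big) *ᵥ ins j v' u)
  have hgsim : ∀ a b, Bt f ((g : Big) *ᵥ a) ((g : Big) *ᵥ b) = c * Bt f a b := fun a b => by
    rw [hgval, ← kr_one_left, Bt_kr j _ _ hf (μ := 1) (ν := c) (fun u u' => by
      rw [one_mul, one_mulVec, one_mulVec]) hGf, one_mul]
  have hgmap : Maps g j v j w := maps_of_le hv0 hw0 fun u => by
    rw [hgval, TensorPowerMax.Roots.oneM_mulVec_ins, hGv, ins_smul]
    exact Submodule.smul_mem _ _ (LinearMap.mem_range_self _ _)
  -- the part at the orthogonal of the frame is scalar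
  have hBy : ∀ y, Per f v v' y → f y y ≠ 0 → ∃ κ : F, ∀ u, B y u = κ • (A.val *ᵥ u) := by
    intro y hy hyy
    obtain ⟨s, hs, c1, d, hc1, hsv, hsv', hsP, hsy, -, hdc⟩ := exists_killer P Fm hy hyy
    set S := s * s
    have hS : S ∈ isoF f := (isoF f).mul_mem hs hs
    have hd : d ≠ 0 := fun e => gl_ne_zero S (fun e0 => hyy (by rw [e0, hf.zeroL])) (hsy.trans (by rw [e, zero_smul]))
    set g0 : GG := oneGL j S
    set K := h1 * g0 * h1⁻¹ * g0⁻¹
    have hSiv : (S⁻¹).val *ᵥ v = c1⁻¹ • v := by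
      refine gl_mulVec_injective S ?_
      show (S : A1) *ᵥ _ = (S : A1) *ᵥ _
      rw [gl_mulVec_inv, mulVec_smul, hsv, inv_smul_smul₀ hc1]
    have hg0i : ∀ w0 u, ((g0⁻¹ : GG) : Big) *ᵥ ins j w0 u = ins j ((S⁻¹).val *ᵥ w0) u := fun w0 u => by
      rw [show g0⁻¹ = oneGL j S⁻¹ from oneGL_inv j S, oneGL_ins]
    have hfix : ∀ u, (K : Big) *ᵥ ins j v u = ins j v u := fun u => by
      have hi : ((h1⁻¹ : GG) : Big) *ᵥ ins j v u = ins j v ((A⁻¹).val *ᵥ u) := by
        refine gl_mulVec_injective h1 ?_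
        show (h1 : Big) *ᵥ _ = (h1 : Big) *ᵥ _
        rw [gl_mulVec_inv, hAv, gl_mulVec_inv]
      rw [gl_mul_mulVec, gl_mul_mulVec, gl_mul_mulVec, hg0i, hSiv, ins_smul, mulVec_smul, hi, mulVec_smul, oneGL_ins,
        hsv, ins_smul, inv_smul_smul₀ hc1, hAv, gl_mulVec_inv]
    have hKrad : Radical f j v K := by
      refine ⟨hfix, fun y0 hy0 => ?_⟩
      refine perp_induction hf Fm j (p := fun y0 => (K : Big) *ᵥ y0 - y0 ∈ block j v) (fun a b ha hb => ?_)
        (fun u => ?_) (fun z hz u => ?_) hy0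
      · simp only [mulVec_add]
        rw [add_sub_add_comm]
        exact Submodule.add_mem _ ha hb
      · rw [hfix, sub_self]; exact Submodule.zero_mem _
      set z1 := (S⁻¹).val *ᵥ z with hz1
      have hz1P : Per f v v' z1 := by
        constructor
        · have := hS z1 v
          rw [hz1, gl_mulVec_inv, hsv, hf.smulR, hz.1, mul_zero] at this
          exact this.symm
        · have := hS z1 v'
          rw [hz1, gl_mulVec_inv, hsv', hf.smulR, hz.2, mul_zero] at this
          exact this.symm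
      set u' := (A⁻¹).val *ᵥ u
      have hi : ((h1⁻¹ : GG) : Big) *ᵥ ins j z1 u = ins j z1 u' + ins j v ((A⁻¹).val *ᵥ B z1 u') := by
        refine gl_mulVec_injective h1 ?_
        show (h1 : Big) *ᵥ _ = (h1 : Big) *ᵥ _
        rw [gl_mulVec_inv, mulVec_add, hAz z1 hz1P, hAv, gl_mulVec_inv, gl_mulVec_inv]
        simp only [B, sub_add_cancel]
      rw [gl_mul_mulVec, gl_mul_mulVec, gl_mul_mulVec, hg0i, ← hz1, hi, mulVec_add, oneGL_ins, oneGL_ins, hz1,
        gl_mulVec_inv, hsv, mulVec_add, hAz z hz, gl_mulVec_inv, ins_smul, mulVec_smul, hAv]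
      rw [show ins j z u - ins j v (ctr j (formVec f z) ((h1 : Big) *ᵥ ins j v' u')) +
          c1 • ins j v (A.val *ᵥ ((A⁻¹).val *ᵥ B ((S⁻¹).val *ᵥ z) u')) - ins j z u =
          c1 • ins j v (A.val *ᵥ ((A⁻¹).val *ᵥ B ((S⁻¹).val *ᵥ z) u')) -
            ins j v (ctr j (formVec f z) ((h1 : Big) *ᵥ ins j v' u')) by abel]
      exact Submodule.sub_mem _ (Submodule.smul_mem _ _ (LinearMap.mem_range_self _ _)) (LinearMap.mem_range_self _ _)
    have hmem : g * K * g⁻¹ ∈ M2 := by
      have hGs : G * s * G⁻¹ ∈ isoF f := fun x y => by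
        have e : ∀ t, f ((G⁻¹).val *ᵥ x) ((G⁻¹).val *ᵥ y) = t → c * t = f x y := fun t ht => by
          rw [← ht, ← hGf, gl_mulVec_inv, gl_mulVec_inv]
        rw [gl_mul_mulVec, gl_mul_mulVec, gl_mul_mulVec, gl_mul_mulVec, hGf, hs, e _ rfl]
      have e : g * K * g⁻¹ = (h * g0 * h⁻¹) * (oneGL j ((G * s * G⁻¹) * (G * s * G⁻¹)))⁻¹ := by
        rw [show G * s * G⁻¹ * (G * s * G⁻¹) = G * S * G⁻¹ by simp only [S]; group, ← oneGL_mul, ← oneGL_mul,
          ← oneGL_inv]
        show g * (g⁻¹ * h * g0 * (g⁻¹ * h)⁻¹ * g0⁻¹) * g⁻¹ = h * g0 * h⁻¹ * (g * g0 * g⁻¹)⁻¹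
        group
      rw [e]
      exact mul_mem (hc _ (S1.oneSq_mem j hs)) (inv_mem (S2.oneSq_mem j hGs))
    obtain ⟨z2, hz2, hK⟩ := NR _ hmem j w hw0 Fw.vv (Radical.conj' hf hc0 hgsim hgmap hKrad)
    set b := G⁻¹ * er f w z2 * G
    have hKb : K = oneGL j b := by
      have : K = g⁻¹ * (g * K * g⁻¹) * g := by group
      rw [this, hK, rt, oneGL_inv, oneGL_mul, oneGL_mul]
    have hbiso : b ∈ isoF f := fun x y => by
      have e : c * f ((b : A1) *ᵥ x) ((b : A1) *ᵥ y) = c * f x y := by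
        rw [← hGf, ← hGf]
        simp only [b, gl_mul_mulVec, gl_mulVec_inv]
        exact er_iso hf Fw.vv hz2 _ _
      exact mul_left_cancel₀ hc0 e
    have hbS : b * S ∈ isoF f := (isoF f).mul_mem hbiso hS
    set μ := c⁻¹ * -f ((G : A1) *ᵥ y) z2
    have hby : ((b * S)⁻¹).val *ᵥ y = d⁻¹ • y + (μ * c1⁻¹) • v := by
      have hb' : (b⁻¹).val *ᵥ y = y + μ • v := by
        refine gl_mulVec_injective G ?_
        show (G : A1) *ᵥ _ = (G : A1) *ᵥ _
        have hz2' : f (-z2) w = 0 := by rw [hf.negL, hz2, neg_zero]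
        rw [show b⁻¹ = G⁻¹ * (er f w z2)⁻¹ * G by simp only [b]; group, er_inv hf Fw.vv hz2, gl_mul_mulVec,
          gl_mul_mulVec, gl_mulVec_inv, er_mulVec hf Fw.vv hz2', (hGP y hy).1, mulVec_add, mulVec_smul, hGv, hf.negR,
          smul_smul]
        rw [show μ * c = -f ((G : A1) *ᵥ y) z2 by simp only [μ]; field_simp]
        module
      have hSy : (S⁻¹).val *ᵥ y = d⁻¹ • y := by
        refine gl_mulVec_injective S ?_
        show (S : A1) *ᵥ _ = (S : A1) *ᵥ _
        rw [gl_mulVec_inv, mulVec_smul, hsy, inv_smul_smul₀ hd]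
      rw [_root_.mul_inv_rev, gl_mul_mulVec, hb', mulVec_add, mulVec_smul, hSy, hSiv, smul_smul]
    refine ⟨μ * c1⁻¹ * (c1⁻¹ - d⁻¹)⁻¹, fun u => ?_⟩
    have h2 : h1 * g0 = oneGL j (b * S) * h1 := by
      rw [← oneGL_mul, ← hKb]
      show h1 * g0 = h1 * g0 * h1⁻¹ * g0⁻¹ * g0 * h1
      group
    have h3 := congrArg (fun x : GG => ctr j (formVec f y) ((x : Big) *ᵥ ins j v' u)) h2
    simp only [gl_mul_mulVec] at h3
    rw [coe_oneGL j (b * S), ctr_iso hf j hbS, hby, oneGL_ins, hsv', ins_smul, mulVec_smul, map_smul] at h3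
    have hsplit : ctr j (formVec f (d⁻¹ • y + (μ * c1⁻¹) • v)) ((h1 : Big) *ᵥ ins j v' u) =
        d⁻¹ • B y u + (μ * c1⁻¹) • (A.val *ᵥ u) := by
      rw [show formVec f (d⁻¹ • y + (μ * c1⁻¹) • v) = d⁻¹ • formVec f y + (μ * c1⁻¹) • formVec f v from
        funext fun a => by simp [formVec, hf.addR, hf.smulR], TensorSympMax.Basic.ctr_add_vec,
        TensorSympMax.Basic.ctr_smul_vec, TensorSympMax.Basic.ctr_smul_vec, hAv']
    rw [hsplit] at h3
    have hne : c1⁻¹ - d⁻¹ ≠ 0 := sub_ne_zero.2 fun e => hdc (inv_inj.1 e).symm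
    have h4 : (c1⁻¹ - d⁻¹) • B y u = (μ * c1⁻¹) • (A.val *ᵥ u) := by
      rw [sub_smul, show c1⁻¹ • B y u = d⁻¹ • B y u + (μ * c1⁻¹) • (A.val *ᵥ u) from h3, add_sub_cancel_left]
    calc B y u = (c1⁻¹ - d⁻¹)⁻¹ • ((c1⁻¹ - d⁻¹) • B y u) := (inv_smul_smul₀ hne _).symm
      _ = _ := by rw [h4, smul_smul, mul_comm]
  -- the scalars come from one vector
  haveI : Nonempty ({i // i ≠ j} → Fin k) := S1.rest_nonempty j
  set u0 : ({i // i ≠ j} → Fin k) → F := fun _ => 1
  have hu0 : u0 ≠ 0 := fun e => one_ne_zero (congrFun e (Classical.arbitrary _))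
  obtain ⟨ψ, hψ⟩ := exists_dot_eq_one (gl_ne_zero' A hu0)
  set Y0 := (h1 : Big) *ᵥ ins j v' u0
  set q0 : W1 := fun a => ψ ⬝ᵥ ctr j (Pi.single a 1) Y0
  have hq0 : ∀ φ : W1, ψ ⬝ᵥ ctr j φ Y0 = φ ⬝ᵥ q0 := fun φ => by
    conv_lhs => rw [ins_sum j Y0]
    simp only [map_sum, ctr_ins, dotProduct_sum, dotProduct_smul, dotProduct_single, mul_one, smul_eq_mul]
    rfl
  set q := q0 - f q0 v' • v - f q0 v • v'
  have hq : Per f v v' q := per_proj hf Fm q0
  have hBlin : ∀ z z' : W1, ∀ u, B (z + z') u = B z u + B z' u := fun z z' u => by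
    simp only [B]
    rw [show formVec f (z + z') = formVec f z + formVec f z' from funext fun a => by simp [formVec, hf.addR],
      TensorSympMax.Basic.ctr_add_vec]
  have hBq : ∀ z, Per f v v' z → ∀ u, B z u = f q z • (A.val *ᵥ u) := fun z hz => by
    by_cases hz0 : z = 0
    · intro u
      subst hz0
      simp only [B]
      rw [show formVec f (0 : W1) = 0 from funext fun a => by simp [formVec, hf.zeroR], hf.zeroR, zero_smul]
      ext r; simp [ctr]
    refine per_induction hf Fm (p := fun z => ∀ u, B z u = f q z • (A.val *ᵥ u)) (fun a b _ _ ha hb u => ?_)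
      (fun y hy hyy => ?_) hz hz0
    · rw [hBlin, ha, hb, hf.addR, add_smul]
    obtain ⟨κ, hκ⟩ := hBy y hy hyy
    have h0 := congrArg (fun z0 => ψ ⬝ᵥ z0) (hκ u0)
    simp only [B] at h0
    rw [hq0, hf.dot, dotProduct_smul, hψ, smul_eq_mul, mul_one] at h0
    have : f q y = f q0 y := by
      simp only [q, hf.subL, hf.smulL, hf.comm y v, hy.1, hf.comm y v', hy.2, mul_zero, sub_zero]
    intro u
    rw [hκ, this, h0]
  set h2 : GG := rt f j v q * h1
  set G' : GL (Fin k) F := G * (er f v q)⁻¹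
  set g' : GG := oneGL j G'
  have hh2 : h = g' * h2 := by
    show h = oneGL j (G * (er f v q)⁻¹) * (oneGL j (er f v q) * (g⁻¹ * h))
    rw [← oneGL_mul, ← oneGL_inv]
    show h = g * _⁻¹ * (_ * (g⁻¹ * h))
    group
  have hG'v : (G' : A1) *ᵥ v = c • w := by
    rw [gl_mul_mulVec, er_inv hf Fm.vv hq.1, er_fix hf Fm.vv (per_neg hf hq).1, hGv]
  have hG'f : ∀ x y, f ((G' : A1) *ᵥ x) ((G' : A1) *ᵥ y) = c * f x y := fun x y => by
    rw [gl_mul_mulVec, gl_mul_mulVec, hGf, (isoF f).inv_mem (er_iso hf Fm.vv hq.1)]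
  set E : A1 := vecMulVec v (formVec f v)
  set Ew : A1 := vecMulVec w (formVec f w)
  have hG'E : (G' : A1) * E = (c • Ew) * (G' : A1) := by
    refine Matrix.mulVec_injective (funext fun x => ?_)
    rw [← mulVec_mulVec, ← mulVec_mulVec, smul_mulVec, E_mulVec hf, E_mulVec hf, mulVec_smul, hG'v, smul_smul,
      smul_smul]
    congr 1
    rw [← hf.smulR, ← hG'v, hG'f, mul_comm]
  have hcom2 : ∀ z, Per f v v' z → (h2 : Big) * oneM j (wd f v z) = oneM j (wd f v z) * (h2 : Big) := fun z hz => by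
    have hww : wd f v q * wd f v z = wd f v z * wd f v q := by
      rw [← sub_eq_zero]
      show brk (wd f v q) (wd f v z) = 0
      rw [brk_wd hf (wd_mem hf v q), wd_mulVec hf, wd_mulVec hf, Fm.vv, hz.1, hf.comm q v, hq.1]
      refine Matrix.mulVec_injective (funext fun t => ?_)
      simp only [add_mulVec, zero_mulVec, wd_mulVec hf, hf.subR, hf.smulR, hf.zeroR]
      module
    have heN : eN f v q * wd f v z = wd f v z * eN f v q := by
      rw [eN_eq hf Fm.vv hq.1, add_mul, mul_add, Matrix.neg_mul, Matrix.mul_neg, hww, Matrix.smul_mul,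
        Matrix.mul_smul, mul_assoc, hww, ← mul_assoc, hww, mul_assoc]
    have hrt : (rt f j v q : Big) * oneM j (wd f v z) = oneM j (wd f v z) * (rt f j v q : Big) := by
      rw [coe_rt hf j Fm.vv hq.1, add_mul, mul_add, one_mul, mul_one, oneM_mul, oneM_mul, heN]
    rw [Units.val_mul, mul_assoc, hcom1 z hz, ← mul_assoc, hrt, mul_assoc]
  obtain ⟨A2, hA2v, hA2v', hA2z⟩ := shape P j Fm hcom2
  have hAA : ∀ u, A2.val *ᵥ u = A.val *ᵥ u := fun u => by
    refine ins_injective (Fm.ne hf) ?_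
    rw [← hA2v, gl_mul_mulVec, hAv, rt, oneGL_ins, er_fix hf Fm.vv hq.1]
  have hB2 : ∀ z, Per f v v' z → ∀ u, ctr j (formVec f z) ((h2 : Big) *ᵥ ins j v' u) = 0 := fun z hz u => by
    rw [gl_mul_mulVec, rt, coe_oneGL, ctr_iso hf j (er_iso hf Fm.vv hq.1), er_inv hf Fm.vv hq.1,
      er_mulVec hf Fm.vv (per_neg hf hq).1, hz.1, hf.negR,
      show z + (-f z q • v - (0 : F) • -q - (f (-q) (-q) / 2 * 0) • v) = z + (-f z q) • v by module,
      show formVec f (z + (-f z q) • v) = formVec f z + (-f z q) • formVec f v from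
        funext fun a => by simp [formVec, hf.addR, hf.smulR, hf.negR], TensorSympMax.Basic.ctr_add_vec,
      TensorSympMax.Basic.ctr_smul_vec, hAv', show ctr j (formVec f z) ((h1 : Big) *ᵥ ins j v' u) = B z u from rfl,
      hBq z hz, hf.comm q z, neg_smul, ← sub_eq_add_neg, sub_self]
  let Cl : (({i // i ≠ j} → Fin k) → F) →ₗ[F] ({i // i ≠ j} → Fin k) → F :=
    (ctr j (formVec f v')).comp ((h2 : Big).mulVecLin.comp (ins j v'))
  set C := LinearMap.toMatrix' Cl
  have hform : (h2 : Big) = kr j A2.val 1 + kr j C E := by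
    refine mat_ext_ins j fun x u => ?_
    rw [show x = f x v' • v + f x v • v' + (x - f x v' • v - f x v • v') by abel]
    have hz := per_proj hf Fm x
    set z := x - f x v' • v - f x v • v'
    simp only [ins_add_vec, ins_smul, mulVec_add, mulVec_smul, add_mulVec, kr_ins, one_mulVec, E, E_mulVec hf, Fm.vv,
      Fm.pair' hf, hz.1, zero_smul, one_smul, ins_zero_vec, add_zero, hA2v, hA2z z hz, hB2 z hz, map_zero, sub_zero]
    have hv'eq : (h2 : Big) *ᵥ ins j v' u = ins j v' (A2.val *ᵥ u) + ins j v (C *ᵥ u) := by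
      refine ctr_ext (j := j) fun φ => ?_
      obtain ⟨y, rfl⟩ := formVec_surjective hf.sf.lin hf.addR hf.nondegenerate φ
      rw [show y = f y v' • v + f y v • v' + (y - f y v' • v - f y v • v') by abel]
      have hy := per_proj hf Fm y
      set t := y - f y v' • v - f y v • v'
      rw [show formVec f (f y v' • v + f y v • v' + t) = f y v' • formVec f v + f y v • formVec f v' + formVec f t from
        funext fun a => by simp [formVec, hf.addR, hf.smulR]]
      simp only [TensorSympMax.Basic.ctr_add_vec, TensorSympMax.Basic.ctr_smul_vec, hA2v', hB2 t hy, map_add, ctr_ins,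
        hf.dot, add_dotProduct, smul_dotProduct, smul_eq_mul, mul_one, mul_zero, Fm.vv, Fm.pair, Fm.pair' hf, Fm.v'v', hf.comm t v, hy.1, hf.comm t v', hy.2, zero_smul, one_smul,
        add_zero, zero_add]
      show f y v' • (A2.val *ᵥ u) + f y v • Cl u = _
      rw [show C *ᵥ u = Cl u from LinearMap.toMatrix'_mulVec Cl u]
    rw [hv'eq]
  have hsim : ∀ a b, c * Bt f ((h2 : Big) *ᵥ a) ((h2 : Big) *ᵥ b) = Bt f a b := fun a b => by
    have e : ∀ t, Bt f ((g' : Big) *ᵥ ((h2 : Big) *ᵥ a)) ((g' : Big) *ᵥ ((h2 : Big) *ᵥ b)) = t → t = Bt f a b :=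
      fun t ht => by rw [← ht, ← gl_mul_mulVec, ← gl_mul_mulVec, ← hh2, hh]
    refine e _ ?_
    rw [coe_oneGL, ← kr_one_left, Bt_kr j _ _ hf (μ := 1) (ν := c) (fun u u' => by
      rw [one_mul, one_mulVec, one_mulVec]) hG'f, one_mul]
  have hval : ∀ u, (h2 : Big) *ᵥ ins j v' u = ins j v' (A2.val *ᵥ u) + ins j v (C *ᵥ u) := fun u => by
    rw [hform, add_mulVec, kr_ins, kr_ins, one_mulVec, E_mulVec hf, Fm.pair' hf, one_smul]
  have hAform : ∀ u u', c * Bt f (A2.val *ᵥ u) (A2.val *ᵥ u') = Bt f u u' := fun u u' => by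
    have := hsim (ins j v' u) (ins j v u')
    rw [hval, hA2v, Bt_addL, Bt_ins_ins hf, Bt_ins_ins hf, Bt_ins_ins hf, Fm.pair' hf, Fm.vv, zero_mul, add_zero,
      one_mul, one_mul] at this
    exact this
  have hCskew : ∀ u u', Bt f (A2.val *ᵥ u) (C *ᵥ u') + Bt f (C *ᵥ u) (A2.val *ᵥ u') = 0 := fun u u' => by
    have := hsim (ins j v' u) (ins j v' u')
    rw [hval, hval, Bt_addL, Bt_addR, Bt_addR, Bt_ins_ins hf, Bt_ins_ins hf, Bt_ins_ins hf, Bt_ins_ins hf,
      Bt_ins_ins hf, Fm.pair' hf, Fm.pair, Fm.vv, Fm.v'v'] at this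
    simp only [zero_mul, zero_add, add_zero, one_mul] at this
    exact (mul_eq_zero.1 this).resolve_left hc0
  set Up' := Up f M2 j w (E_sq hf Fw.vv)
  have hlift2 : ∀ {R : GL ({i // i ≠ j} → Fin k) F}, R ∈ isoB _ f → liftG j R ∈ M2 → R ∈ Up' := fun hR hm =>
    ⟨hR, _, hm, 0, by rw [coe_liftG, kr_zero_left, add_zero]⟩
  have hroot : ∀ (i : {i // i ≠ j}) (p z : W1), f p p = 0 → f z p = 0 →
      A2 * rt f i p z * A2⁻¹ ∈ Up' ∧ (liftG j (A2 * rt f i p z * A2⁻¹) ∈ M2 →
        C * (rt f i p z).val = (A2 * rt f i p z * A2⁻¹).val * C) := by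
    intro i p z hp hz
    set R : GL ({i // i ≠ j} → Fin k) F := rt f i p z
    have hlR : liftG j R ∈ M1 := by
      obtain ⟨z', hz', e⟩ := er_half hf hp hz
      have e1 : R = rt f i p z' * rt f i p z' := by rw [rt, oneGL_mul, e]; rfl
      rw [e1, map_mul]
      exact S1.sq _ (liftG_SI j hf ⟨oneGL_mem_stab _ _, rt_iso hf i hp hz'⟩)
    set Q := A2 * R * A2⁻¹
    set W := (C * R.val - Q.val * C) * (A2⁻¹).val
    set X := g' * (h2 * liftG j R * h2⁻¹) * g'⁻¹
    have hX : X ∈ M2 := by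
      have : X = h * liftG j R * h⁻¹ := by rw [hh2]; simp only [X]; group
      rw [this]; exact hc _ hlR
    have hQA : Q.val * A2.val = A2.val * R.val := by
      rw [← Units.val_mul, ← Units.val_mul]; congr 1; simp only [Q]; group
    have hXv : (X : Big) = kr j Q.val 1 + kr j (c • W) Ew := by
      have hEE : E * E = 0 := E_sq hf Fm.vv
      have e1 : ((h2 * liftG j R : GG) : Big) = (kr j Q.val 1 + kr j W E) * (h2 : Big) := by
        rw [Units.val_mul, coe_liftG, hform, add_mul, add_mul, mul_add, mul_add, kr_mul, kr_mul, kr_mul, kr_mul,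
          kr_mul, kr_mul, mul_one, one_mul, mul_one, hEE, kr_zero_right, add_zero, hQA, add_assoc, ← kr_add_left]
        congr 2
        simp only [W]
        rw [mul_assoc _ (A2⁻¹).val, Units.inv_mul, mul_one, add_sub_cancel]
      have e2 : (g' : Big) * (kr j Q.val 1 + kr j W E) = (kr j Q.val 1 + kr j (c • W) Ew) * (g' : Big) := by
        rw [coe_oneGL, ← kr_one_left, mul_add, add_mul, kr_mul, kr_mul, kr_mul, kr_mul, one_mul, mul_one, mul_one,
          one_mul, one_mul, mul_one, hG'E, Matrix.smul_mul, kr_smul_right, kr_smul_left]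
      calc (X : Big) = (g' : Big) * (((h2 * liftG j R : GG) : Big) * (h2⁻¹).val) * (g'⁻¹).val := by
            simp only [X, Units.val_mul]
        _ = (g' : Big) * (kr j Q.val 1 + kr j W E) * (g'⁻¹).val := by
            rw [e1, mul_assoc (_ + _) (h2 : Big), Units.mul_inv, mul_one]
        _ = _ := by rw [e2, mul_assoc, Units.mul_inv, mul_one]
    have hQiso : Q ∈ isoB _ f := fun a b => by
      refine mul_left_cancel₀ (inv_ne_zero hc0) ?_
      have hA' : ∀ a b, Bt f ((A2⁻¹).val *ᵥ a) ((A2⁻¹).val *ᵥ b) = c * Bt f a b := fun a b => by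
        rw [← hAform, gl_mulVec_inv, gl_mulVec_inv]
      have hA'' : ∀ a b, Bt f (A2.val *ᵥ a) (A2.val *ᵥ b) = c⁻¹ * Bt f a b := fun a b => by
        rw [← hAform a b, inv_mul_cancel_left₀ hc0]
      rw [gl_mul_mulVec, gl_mul_mulVec, gl_mul_mulVec, gl_mul_mulVec, hA'', rt_iso hf i hp hz, hA',
        inv_mul_cancel_left₀ hc0]
    refine ⟨⟨hQiso, X, hX, c • W, hXv⟩, fun hQ => ?_⟩
    have h0 := up_unique hf NR Fw (Q := Q) hX hQ (W := c • W) (V := 0) hXv
      (by rw [coe_liftG, kr_zero_left, add_zero])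
    rw [smul_eq_zero] at h0
    have h1 := congrArg (fun Y => Y * A2.val) (h0.resolve_left hc0)
    simp only [W, mul_assoc, Units.inv_mul, mul_one, zero_mul] at h1
    exact sub_eq_zero.1 h1
  have hSIl : ∀ {R : GL ({i // i ≠ j} → Fin k) F}, R ∈ SI _ f → liftG j R * liftG j R ∈ M2 := fun hR =>
    S2.sq _ (liftG_SI j hf hR)
  have hUpstab : Up' ≤ stab {i // i ≠ j} k F := by
    by_cases hcard : 2 ≤ Fintype.card {i // i ≠ j}
    · have hSet : Setting f Up' :=
        { par := P
          hι := hcard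
          iso := fun x hx => hx.1
          sq := fun x hx => hlift2 (mul_mem hx.2 hx.2) (by rw [map_mul]; exact hSIl hx)
          comm := fun x hx y hy => hlift2 (mul_mem (mul_mem (mul_mem hx.2 hy.2) (inv_mem hx.2)) (inv_mem hy.2))
            (by rw [map_mul, map_mul, map_mul, map_inv, map_inv]
                exact S2.comm _ (liftG_SI j hf hx) _ (liftG_SI j hf hy)) }
      exact (IH _ (card_rest_lt j) _ hSet).resolve_right (not_full S2 NR j Fw hcard)
    · intro x _
      refine TensorPowerMax.BlockTo.mem_stab_of_unique ?_ x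
      have := S1.hι
      rw [Fintype.card_subtype_compl, Fintype.card_subtype_eq] at hcard ⊢
      omega
  have hQM : ∀ (i : {i // i ≠ j}) (p z : W1), f p p = 0 → f z p = 0 → A2 * rt f i p z * A2⁻¹ ∈ SI _ f :=
    fun i p z hp hz => ⟨hUpstab (hroot i p z hp hz).1, (hroot i p z hp hz).1.1⟩
  have hstabA : A2 ∈ stab {i // i ≠ j} k F := by
    refine Alg.stab_of_conj P ?_ fun i p z hp0 hp hz => hQM i p z hp hz
    have := S1.hι
    rw [Fintype.card_subtype_compl, Fintype.card_subtype_eq]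
    omega
  have hCR : ∀ (i : {i // i ≠ j}) (p z : W1), f p p = 0 → f z p = 0 →
      ((A2⁻¹).val * C) * (rt f i p z).val = (rt f i p z).val * ((A2⁻¹).val * C) := by
    intro i p z hp hz
    obtain ⟨z', hz', e⟩ := er_half hf hp hz
    have e1 : (rt f i p z : GL ({i // i ≠ j} → Fin k) F) = rt f i p z' * rt f i p z' := by
      rw [rt, rt, oneGL_mul, e]
    have h1 := (hroot i p z hp hz).2 (by
      rw [e1, show A2 * (rt f i p z' * rt f i p z') * A2⁻¹ = (A2 * rt f i p z' * A2⁻¹) * (A2 * rt f i p z' * A2⁻¹) by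
        group, map_mul]
      exact hSIl (hQM i p z' hp hz'))
    rw [Units.val_mul, Units.val_mul] at h1
    rw [mul_assoc, h1, ← mul_assoc, ← mul_assoc, ← mul_assoc, Units.inv_mul, one_mul, mul_assoc]
  obtain ⟨μ, hμ⟩ : ∃ μ : F, (A2⁻¹).val * C = μ • 1 := by
    refine Alg.scalar_of_commute fun i D => ?_
    have hwdc : ∀ {u u' : W1}, Fr f u u' → ∀ z, Per f u u' z →
        ((A2⁻¹).val * C) * oneM i (wd f u z) = oneM i (wd f u z) * ((A2⁻¹).val * C) := by
      intro u u' Fu z hz
      set X := (A2⁻¹).val * C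
      have h1 := hCR i u z Fu.vv hz.1
      have h2 := hCR i u (-z) Fu.vv (per_neg hf hz).1
      rw [coe_rt hf i Fu.vv hz.1, eN_eq hf Fu.vv hz.1, mul_add, add_mul, mul_one, one_mul, add_right_inj,
        oneM_add, oneM_neg, mul_add, add_mul] at h1
      rw [coe_rt hf i Fu.vv (per_neg hf hz).1, eN_eq hf Fu.vv (per_neg hf hz).1,
        show wd f u (-z) = -wd f u z from Matrix.mulVec_injective (funext fun t => by
          simp only [neg_mulVec, wd_mulVec hf, hf.negR]; module), neg_neg, neg_mul_neg, mul_add, add_mul, mul_one,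
        one_mul, add_right_inj, oneM_add, mul_add, add_mul] at h2
      simp only [Matrix.mul_neg, Matrix.neg_mul] at h1
      exact smul_right_injective _ hf.two (show (2 : F) • (X * oneM i (wd f u z)) = (2 : F) • (oneM i (wd f u z) * X) by
        rw [two_smul, two_smul]; linear_combination (norm := abel) h2 - h1)
    refine Alg.generate (p := fun D : A1 => ((A2⁻¹).val * C) * oneM i D = oneM i D * ((A2⁻¹).val * C)) P Fm
      (by rw [oneM_one, mul_one, one_mul])
      (fun {X Y} hX hY => by beta_reduce at hX hY ⊢; rw [oneM_add, mul_add, add_mul, hX, hY])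
      (fun s {X} hX => by beta_reduce at hX ⊢; rw [oneM_smul, Matrix.mul_smul, Matrix.smul_mul, hX])
      (fun {X Y} hX hY => by beta_reduce at hX hY ⊢; rw [← oneM_mul, ← mul_assoc, hX, mul_assoc, hY, mul_assoc])
      (fun z hz _ => hwdc Fm z hz) (fun z hz _ => hwdc (Fm.symm hf) z ⟨hz.2, hz.1⟩) D
  have hC : C = μ • A2.val := by
    have := congrArg (fun Y => A2.val * Y) hμ
    simp only [← mul_assoc, Units.mul_inv, one_mul, Matrix.mul_smul, mul_one] at this
    exact this
  have hμ0 : μ = 0 := by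
    obtain ⟨r, hr⟩ : ∃ r, Bt f r u0 ≠ 0 := by
      by_contra hne
      push Not at hne
      exact hu0 (Bt_nondeg hf hne)
    have h1 := hCskew r u0
    rw [hC, smul_mulVec, smul_mulVec, Bt_smulR, Bt_smulL] at h1
    have h2 : (2 : F) * μ * Bt f r u0 = 0 := by linear_combination c * h1 - 2 * μ * hAform r u0
    exact ((mul_eq_zero.1 h2).resolve_right hr |> mul_eq_zero.1).resolve_left hf.two
  rw [hC, hμ0, zero_smul, kr_zero_left, add_zero] at hform
  rw [hh2]
  refine mul_mem (oneGL_mem_stab j G') ?_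
  rw [show h2 = liftG j A2 from Units.ext (by rw [hform, coe_liftG])]
  exact liftG_stab j hstabA
where
  gl_ne_zero' {α : Type} [Fintype α] [DecidableEq α] (b : GL α F) {u : α → F} (hu : u ≠ 0) : b.val *ᵥ u ≠ 0 :=
    fun e => hu (gl_mulVec_injective b (e.trans (mulVec_zero _).symm))

/-- Without radical elements no element outside the stabiliser carries an isotropic block to a block. -/
theorem blockTo [Fintype F] {M : Subgroup GG} (S : Setting f M) (NR : NoRad f M) (IH : Lower ι f) :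
    Core.NoBlock f M := by
  intro x hx j l v w hv0 hvv hw hm
  have hf := S.sym
  set s : GG := pmGL (Equiv.swap l j)
  have hs : s ∈ SI ι f := ⟨pmGL_mem_stab _, pmGL_iso hf _⟩
  have hm' : Maps (s * x) j v j w := maps_of_le hv0 hw fun u => by
    rw [gl_mul_mulVec]
    have := TensorPowerMax.Roots.tw_mulVec_block (1 : ι → GL (Fin k) F) (Equiv.swap l j) hw (hm.mem u)
    rwa [map_one, one_mul, Equiv.swap_apply_left, Pi.one_apply, Units.val_one, one_mulVec] at this
  have h := same S (S.conj hs) (NR.conj hf (by have := S.hk; omega) hs) IH (mul_mem hs.2 (S.iso hx))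
    (fun y hy => ⟨x * y * x⁻¹, mul_mem (mul_mem hx hy) (inv_mem hx), by
      show s * (x * y * x⁻¹) * s⁻¹ = s * x * y * (s * x)⁻¹; group⟩) j hv0 hvv hw hm'
  have := mul_mem ((stab ι k F).inv_mem hs.1) h
  rwa [inv_mul_cancel_left] at this

end Cfsg.Agent.Lib.TensorPowerOrth.BlockTo
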