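import Cfsg.Agent.Lib.TensorPowerOrth.Patterns

/-!
Central elements give a family of Eichler maps of the product form, by reducing the factors one at a time
or, at a factor with scalar slices, by the statement for one factor fewer.
-/

set_option autoImplicit false
set_option linter.unusedSectionVars false
set_option linter.style.haveILetI false

namespace Cfsg.Agent.Lib.TensorPowerOrth.Central

open Matrix
open Cfsg.Agent.Lib.Subspaces.Transvection Cfsg.Agent.Lib.Subspaces.FormVec
  Cfsg.Agent.Lib.TensorPowerMax.Basic Cfsg.Agent.Lib.TensorOrthMax.Side Cfsg.Agent.Lib.TensorOrthMax.Setup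
  Cfsg.Agent.Lib.TensorPowerOrth.Form Cfsg.Agent.Lib.TensorPowerOrth.Frame Cfsg.Agent.Lib.TensorPowerOrth.Roots
  Cfsg.Agent.Lib.TensorPowerOrth.Skew Cfsg.Agent.Lib.TensorPowerOrth.Kron Cfsg.Agent.Lib.TensorPowerOrth.Upper
  Cfsg.Agent.Lib.TensorPowerOrth.Slot Cfsg.Agent.Lib.TensorPowerOrth.Slice Cfsg.Agent.Lib.TensorPowerOrth.Steps
  Cfsg.Agent.Lib.TensorPowerOrth.Tuples Cfsg.Agent.Lib.TensorPowerOrth.Rad Cfsg.Agent.Lib.TensorPowerOrth.Pairing
  Cfsg.Agent.Lib.TensorPowerOrth.Eich

variable {ι : Type} [Fintype ι] [DecidableEq ι] {k : ℕ} {F : Type*} [Field F]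

local notation "A1" => Matrix (Fin k) (Fin k) F
local notation "Big" => Matrix (ι → Fin k) (ι → Fin k) F
local notation "GG" => GL (ι → Fin k) F
local notation "W1" => Fin k → F

variable {f : (Fin k → F) → (Fin k → F) → F} {M : Subgroup (GL (ι → Fin k) F)} {v v' : Fin k → F}

theorem E_ne (hf : Sym f) (Fm : Fr f v v') : vecMulVec v (formVec f v) ≠ (0 : A1) := fun e0 => Fm.ne hf (by
  have := congrArg (fun Z : A1 => Z *ᵥ v') e0
  rwa [E_mulVec hf, Fm.pair' hf, one_smul, zero_mulVec] at this)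

theorem sq_zero_of_line (hf : Sym f) (hv : f v v = 0) {j : ι} {X X' : Big}
    (h : X ∈ SlIn j (Submodule.span F {vecMulVec v (formVec f v)}))
    (h' : X' ∈ SlIn j (Submodule.span F {vecMulVec v (formVec f v)})) : X * X' = 0 := by
  obtain ⟨C, rfl⟩ := kr_of_slices j fun r s => by
    obtain ⟨c, hc⟩ := Submodule.mem_span_singleton.1 (mem_SlIn.1 h r s)
    exact ⟨c, hc.symm⟩
  obtain ⟨C', rfl⟩ := kr_of_slices j fun r s => by
    obtain ⟨c, hc⟩ := Submodule.mem_span_singleton.1 (mem_SlIn.1 h' r s)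
    exact ⟨c, hc.symm⟩
  rw [kr_mul, E_sq hf hv, kr_zero_right]

/-- The central matrices of the group at a block, as an additive group. -/
def Cn (hf : Sym f) (hv : f v v = 0) (M : Subgroup (GL (ι → Fin k) F)) (j : ι) :
    AddSubgroup (Matrix (ι → Fin k) (ι → Fin k) F) where
  carrier := {X | X ∈ SlIn j (Submodule.span F {vecMulVec v (formVec f v)}) ∧
    ∃ x ∈ M, (x : Matrix (ι → Fin k) (ι → Fin k) F) = 1 + X}
  zero_mem' := ⟨Submodule.zero_mem _, 1, one_mem _, by rw [Units.val_one, add_zero]⟩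
  add_mem' := fun {X X'} ⟨hX, x, hx, e⟩ ⟨hX', x', hx', e'⟩ =>
    ⟨Submodule.add_mem _ hX hX', x * x', mul_mem hx hx', by
      rw [Units.val_mul, e, e']
      simp only [add_mul, mul_add, one_mul, mul_one, sq_zero_of_line hf hv hX hX', add_zero]
      abel⟩
  neg_mem' := fun {X} ⟨hX, x, hx, e⟩ => ⟨Submodule.neg_mem _ hX, x⁻¹, inv_mem hx, by
    have h1 : (x : Big) * (1 + -X) = 1 := by
      rw [e]
      simp only [add_mul, mul_add, one_mul, mul_one, Matrix.mul_neg, sq_zero_of_line hf hv hX hX]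
      abel
    calc ((x⁻¹ : GG) : Big) = ((x⁻¹ : GG) : Big) * ((x : Big) * (1 + -X)) := by rw [h1, mul_one]
      _ = _ := by rw [← mul_assoc, Units.inv_mul, one_mul]⟩

theorem Cn.conj (hf : Sym f) (hv : f v v = 0) {j : ι} {X : Big} (hX : X ∈ Cn hf hv M j) {g : GG} (hg : g ∈ M)
    (h : (g : Big) * X * ((g⁻¹ : GG) : Big) ∈ SlIn j (Submodule.span F {vecMulVec v (formVec f v)})) :
    (g : Big) * X * ((g⁻¹ : GG) : Big) ∈ Cn hf hv M j := by
  obtain ⟨-, x, hx, e⟩ := hX
  refine ⟨h, g * x * g⁻¹, mul_mem (mul_mem hg hx) (inv_mem hg), ?_⟩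
  rw [Units.val_mul, Units.val_mul, e, mul_add, add_mul, mul_one, Units.mul_inv]

theorem stable_cn (hf : Sym f) (hv : f v v = 0) {a j : ι} (h : a ≠ j) : Stable f M a (Cn hf hv M j) :=
  fun g _ hg _ hX => Cn.conj hf hv hX hg (SlIn.conj_ne h hX.1 g)

theorem Cn.skew (S : Setting f M) (hv : f v v = 0) {j : ι} {X : Big} (hX : X ∈ Cn S.sym hv M j)
    (a b : (ι → Fin k) → F) : Bt f (X *ᵥ a) b + Bt f a (X *ᵥ b) = 0 := by
  obtain ⟨hXs, x, hx, e⟩ := hX
  have h1 : (x : Big) * (1 - X) = 1 := by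
    rw [e, add_mul, mul_sub, mul_sub, one_mul, mul_one, one_mul, sq_zero_of_line S.sym hv hXs hXs]; abel
  have hinv : ((x⁻¹ : GG) : Big) = 1 - X := by
    calc ((x⁻¹ : GG) : Big) = ((x⁻¹ : GG) : Big) * ((x : Big) * (1 - X)) := by rw [h1, mul_one]
      _ = _ := by rw [← mul_assoc, Units.inv_mul, one_mul]
  have h2 := iso_move (S.iso hx) a b
  rw [e, hinv, add_mulVec, one_mulVec, sub_mulVec, one_mulVec, Bt_addL, Bt_subR] at h2
  linear_combination h2

/-- A central element in the stabiliser is trivial. -/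
theorem stab_zero [Fintype F] (S : Setting f M) (Fm : Fr f v v') {j : ι} {X : Big}
    (hX : X ∈ Cn S.sym Fm.vv M j) {x : GG} (hxs : x ∈ stab ι k F) (e : (x : Big) = 1 + X) : X = 0 := by
  classical
  have hf := S.sym
  obtain ⟨C, hC⟩ := kr_of_slices j (Y := vecMulVec v (formVec f v)) (X := X) fun r s => by
    obtain ⟨c, hc⟩ := Submodule.mem_span_singleton.1 (mem_SlIn.1 hX.1 r s)
    exact ⟨c, hc.symm⟩
  obtain ⟨a, σ, hxe⟩ := hxs
  have hskew : ∀ u, Bt f (C *ᵥ u) u = 0 := fun u => by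
    have h1 := Cn.skew S Fm.vv hX (ins j v' u) (ins j v' u)
    rw [hC, kr_ins, E_mulVec hf, Fm.pair' hf, one_smul, Bt_ins_ins hf, Bt_ins_ins hf, Fm.pair, Fm.pair' hf,
      one_mul, one_mul, Bt_comm hf (C *ᵥ u) u] at h1
    exact (mul_eq_zero.1 (show (2 : F) * Bt f (C *ᵥ u) u = 0 by linear_combination h1)).resolve_left hf.two
  have haniso : ∀ r : {i // i ≠ j} → W1, (∀ i, f (r i) (r i) ≠ 0) → C *ᵥ pv r = 0 := by
    intro r hr
    set s : ι → W1 := fun i => if h : i = j then v' else r ⟨i, h⟩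
    have hsj : s j = v' := dif_pos rfl
    have hrest : (fun i : {i // i ≠ j} => s i.1) = r := funext fun i => dif_neg i.2
    have h1 : (x : Big) *ᵥ pv s = ins j v' (pv r) + ins j v (C *ᵥ pv r) := by
      rw [e, add_mulVec, one_mulVec, hC, ← ins_pv j s, hsj, hrest, kr_ins, E_mulVec hf, Fm.pair' hf, one_smul]
    rw [hxe, tw_mulVec] at h1
    set s' : ι → W1 := fun i => (a i : A1) *ᵥ s (σ.symm i)
    have c1 := congrArg (ctr j (formVec f v)) h1
    have c2 := congrArg (ctr j (formVec f v')) h1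
    simp only [map_add, ctr_ins, ctr_pv, hf.dot, Fm.vv, Fm.v'v', Fm.pair, Fm.pair' hf, one_smul, zero_smul, add_zero,
      zero_add] at c1 c2
    have hR : pv r ≠ 0 := pv_ne_zero fun i e0 => hr i (by rw [e0, hf.zeroL])
    have hne : f (s' j) v ≠ 0 := fun e0 => hR (by rw [← c1, e0, zero_smul])
    have hκ : C *ᵥ pv r = (f (s' j) v' / f (s' j) v) • pv r := by
      rw [← c2, ← c1, smul_smul, div_mul_cancel₀ _ hne]
    have h2 := hskew (pv r)
    rw [hκ, Bt_smulL, mul_eq_zero] at h2
    have hBB : Bt f (pv r) (pv r) ≠ 0 := by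
      rw [Bt_pv hf]; exact Finset.prod_ne_zero_iff.2 fun i _ => hr i
    rw [hκ, h2.resolve_right hBB, zero_smul]
  obtain ⟨w, hw, hww⟩ := exists_aniso S.par Fm
  have hall : ∀ (T : Finset {i // i ≠ j}) (r : {i // i ≠ j} → W1), (∀ i ∉ T, f (r i) (r i) ≠ 0) →
      C *ᵥ pv r = 0 := by
    intro T
    induction T using Finset.induction_on with
    | empty => exact fun r h => haniso r fun i => h i (Finset.notMem_empty i)
    | insert i T hi ih =>
      intro r hr
      have key : ∀ u, f u u ≠ 0 → C *ᵥ pv (Function.update r i u) = 0 := fun u hu => ih _ fun l hl => by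
        by_cases hli : l = i
        · subst hli; rwa [Function.update_self]
        · rw [Function.update_of_ne hli]; exact hr l (by simp [hl, hli])
      have hadd : ∀ x y : W1, C *ᵥ pv (Function.update r i x) = 0 → C *ᵥ pv (Function.update r i y) = 0 →
          C *ᵥ pv (Function.update r i (x + y)) = 0 := fun x y hx hy => by
        rw [pv_update_add, mulVec_add, hx, hy, add_zero]
      have hsm : ∀ (c : F) x, C *ᵥ pv (Function.update r i x) = 0 → C *ᵥ pv (Function.update r i (c • x)) = 0 :=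
        fun c x hx => by rw [pv_update_smul, mulVec_smul, hx, smul_zero]
      have hiso : ∀ u, Per f v v' w → f u u = 0 → f u w = 0 → C *ᵥ pv (Function.update r i u) = 0 := fun u _ hu huw => by
        have h1 := hadd (u + w) (-w) (key _ (by
          rw [hf.addL, hf.addR, hf.addR, hu, huw, hf.comm u w, huw]; simpa using hww))
          (key _ (by rw [hf.negL, hf.negR, neg_neg]; exact hww))
        rwa [add_neg_cancel_right] at h1
      rw [← Function.update_eq_self i r,
        show r i = f (r i) v' • v + f (r i) v • v' + (r i - f (r i) v' • v - f (r i) v • v') by abel]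
      refine hadd _ _ (hadd _ _ (hsm _ _ (hiso v hw Fm.vv (by rw [hf.comm, hw.1])))
        (hsm _ _ (hiso v' hw Fm.v'v' (by rw [hf.comm, hw.2])))) ?_
      by_cases hz0 : r i - f (r i) v' • v - f (r i) v • v' = 0
      · rw [hz0, pv_update_zero, mulVec_zero]
      · exact per_induction hf Fm (p := fun u => C *ᵥ pv (Function.update r i u) = 0)
          (fun x y _ _ hx hy => hadd x y hx hy) (fun y _ hyy => key y hyy) (per_proj hf Fm _) hz0
  have hC0 : C = 0 := ext_pv fun r => by
    rw [hall Finset.univ r fun i hi => absurd (Finset.mem_univ i) hi, zero_mulVec]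
  rw [hC, hC0, kr_zero_left]

/-- A central element with scalar slices at a factor makes the other factors full. -/
theorem full_rest [Fintype F] (S : Setting f M) (IH : Lower ι f) (Fm : Fr f v v') {a j : ι} (ha : a ≠ j)
    {X : Big} (hX : X ∈ Cn S.sym Fm.vv M j) (hX0 : X ≠ 0) (hsc : X ∈ SlIn a (Submodule.span F {(1 : A1)})) :
    2 ≤ Fintype.card {i // i ≠ a} ∧ ∀ P Q : ({i // i ≠ a} → Fin k) → F, Bt f P P = 0 → Bt f Q P = 0 →
      ∃ C : GL ({i // i ≠ a} → Fin k) F, liftG a C ∈ M ∧ ∀ y, (C.val) *ᵥ y = phiB f P Q y := by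
  classical
  have hf := S.sym
  have hk := S.hk
  obtain ⟨C, hC⟩ := kr_of_slices a (Y := (1 : A1)) (X := X) fun r s => by
    obtain ⟨c, hc⟩ := Submodule.mem_span_singleton.1 (mem_SlIn.1 hsc r s)
    exact ⟨c, hc.symm⟩
  have h10 : (1 : A1) ≠ 0 := fun e => by
    have := congrFun (congrFun e ⟨0, by omega⟩) ⟨0, by omega⟩
    simp at this
  have hCC : C * C = 0 := kr_inj a _ _ h10 (by
    rw [kr_zero_left, ← mul_one (1 : A1), ← kr_mul, ← hC, sq_zero_of_line hf Fm.vv hX.1 hX.1])
  let g : GL ({i // i ≠ a} → Fin k) F :=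
    ⟨1 + C, 1 - C, by rw [add_mul, mul_sub, mul_sub, hCC, one_mul, one_mul, mul_one]; abel,
      by rw [sub_mul, mul_add, mul_add, hCC, one_mul, one_mul, mul_one]; abel⟩
  obtain ⟨w, -, hww⟩ := exists_aniso S.par Fm
  have hCskew : ∀ u u', Bt f (C *ᵥ u) u' + Bt f u (C *ᵥ u') = 0 := fun u u' => by
    have h1 := Cn.skew S Fm.vv hX (ins a w u) (ins a w u')
    rw [hC, kr_ins, kr_ins, one_mulVec, Bt_ins_ins hf, Bt_ins_ins hf, ← mul_add, mul_eq_zero] at h1
    exact h1.resolve_left hww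
  have hgi : g ∈ isoB {i // i ≠ a} f := fun u u' => by
    show Bt f ((1 + C) *ᵥ u) ((1 + C) *ᵥ u') = _
    have h0 : Bt f (C *ᵥ u) (C *ᵥ u') = 0 := by
      have := hCskew u (C *ᵥ u')
      rwa [mulVec_mulVec, hCC, zero_mulVec, Bt_zeroR, add_zero] at this
    rw [add_mulVec, add_mulVec, one_mulVec, one_mulVec, Bt_addL, Bt_addR, Bt_addR, h0]
    linear_combination hCskew u u'
  obtain ⟨x, hx, e⟩ := hX.2
  have hlift : liftG a g = x := Units.ext (by rw [coe_liftG, e, hC]; show kr a (1 + C) 1 = _; rw [kr_add_left, kr_one_one])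
  let M' : Subgroup (GL ({i // i ≠ a} → Fin k) F) := M.comap (liftG a) ⊓ isoB {i // i ≠ a} f
  have hgM : g ∈ M' := ⟨by show liftG a g ∈ M; rw [hlift]; exact hx, hgi⟩
  have hns : g ∉ stab {i // i ≠ a} k F := fun h => hX0 (stab_zero S Fm hX (hlift ▸ liftG_stab a h) e)
  have hcard : 2 ≤ Fintype.card {i // i ≠ a} := by
    by_contra hc
    refine hns (TensorPowerMax.BlockTo.mem_stab_of_unique ?_ g)
    have := Fintype.card_pos_iff.2 ⟨(⟨j, Ne.symm ha⟩ : {i // i ≠ a})⟩
    omega
  have hSet : Setting f M' :=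
    { par := S.par
      hι := hcard
      iso := fun y hy => hy.2
      sq := fun y hy => ⟨by show liftG a (y * y) ∈ M; rw [map_mul]; exact S.sq _ (liftG_SI a hf hy), mul_mem hy.2 hy.2⟩
      comm := fun y hy z hz => ⟨by
          show liftG a (y * z * y⁻¹ * z⁻¹) ∈ M
          rw [map_mul, map_mul, map_mul, map_inv, map_inv]
          exact S.comm _ (liftG_SI a hf hy) _ (liftG_SI a hf hz),
        mul_mem (mul_mem (mul_mem hy.2 hz.2) ((isoB _ f).inv_mem hy.2)) ((isoB _ f).inv_mem hz.2)⟩ }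
  refine ⟨hcard, fun P Q hP hQ => ?_⟩
  obtain ⟨C', hC', hC'y⟩ := (IH _ (card_rest_lt a) M' hSet).resolve_left (fun h => hns (h hgM)) P Q hP hQ
  exact ⟨C', hC'.1, hC'y⟩

/-- A central element with frame vector gives a family of Eichler maps. -/
theorem seed [Fintype F] (S : Setting f M) (IH : Lower ι f) (Fm : Fr f v v') {j : ι} {X0 : Big}
    (hX0 : X0 ∈ Cn S.sym Fm.vv M j) (h0 : X0 ≠ 0) [Nonempty ι] :
    ∃ d : ι, ∀ z, Per f v v' z →
      pv (Function.update (fun _ : ι => v) d z) ∈ wsub (M := M) S.sym (allV_iso S.sym Fm.vv) := by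
  classical
  have hf := S.sym
  have hP := allV_iso (ι := ι) hf Fm.vv
  set E : A1 := vecMulVec v (formVec f v)
  have key : ∀ T : Finset ι, (∃ a, a ≠ j ∧ ∃ X ∈ Cn hf Fm.vv M j, X ≠ 0 ∧
      X ∈ SlIn a (Submodule.span F {(1 : A1)})) ∨ ∃ X ∈ Cn hf Fm.vv M j, X ≠ 0 ∧
      ∀ l ∈ T, X ∈ SlIn l (Submodule.span F {E}) ∨
        ∃ y, Per f v v' y ∧ f y y ≠ 0 ∧ X ∈ SlIn l (Submodule.span F {wd f v y}) := by
    intro T
    induction T using Finset.induction_on with
    | empty => exact Or.inr ⟨X0, hX0, h0, fun l hl => absurd hl (Finset.notMem_empty l)⟩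
    | insert a T _ ih =>
      rcases ih with h | ⟨X, hX, hXne, hXT⟩
      · exact Or.inl h
      have hput : ∀ Y ∈ Cn hf Fm.vv M j, Y ≠ 0 → (∀ l ∈ T, l ≠ a → ∀ U, X ∈ SlIn l U → Y ∈ SlIn l U) →
          (Y ∈ SlIn a (Submodule.span F {E}) ∨
            ∃ y, Per f v v' y ∧ f y y ≠ 0 ∧ Y ∈ SlIn a (Submodule.span F {wd f v y})) →
          ∃ Y ∈ Cn hf Fm.vv M j, Y ≠ 0 ∧ ∀ l ∈ insert a T, Y ∈ SlIn l (Submodule.span F {E}) ∨
            ∃ y, Per f v v' y ∧ f y y ≠ 0 ∧ Y ∈ SlIn l (Submodule.span F {wd f v y}) := by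
        intro Y hY hY0 hkeep ha
        refine ⟨Y, hY, hY0, fun l hl => ?_⟩
        by_cases hla : l = a
        · subst hla; exact ha
        rcases hXT l (Finset.mem_of_mem_insert_of_ne hl hla) with h1 | ⟨y, hy, hyy, h1⟩
        · exact Or.inl (hkeep l (Finset.mem_of_mem_insert_of_ne hl hla) hla _ h1)
        · exact Or.inr ⟨y, hy, hyy, hkeep l (Finset.mem_of_mem_insert_of_ne hl hla) hla _ h1⟩
      by_cases haj : a = j
      · exact Or.inr (hput X hX hXne (fun _ _ _ _ h => h) (Or.inl (haj ▸ hX.1)))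
      by_cases hE : ∃ r s u, f u u = 0 ∧ f (sl a r s X *ᵥ u) u ≠ 0
      · obtain ⟨r, s, u, huu, hne⟩ := hE
        obtain ⟨Y, hY, hYa, hY0, hkeep⟩ := toE S Fm (stable_cn hf Fm.vv haj) hX huu hne
        exact Or.inr (hput Y hY hY0 (fun l _ hla U h => hkeep l (Ne.symm hla) U h) (Or.inl hYa))
      push Not at hE
      by_cases hsc : X ∈ SlIn a (Submodule.span F {(1 : A1)})
      · exact Or.inl ⟨a, haj, X, hX, hXne, hsc⟩
      obtain ⟨Z, hZ, hZa, hZ0, hkeep⟩ := toW S Fm (stable_cn hf Fm.vv haj) hX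
        (fun r s => split_skew S.par fun u hu => hE r s u hu) hsc
      obtain ⟨r, s, hrs⟩ : ∃ r s, sl a r s Z ≠ 0 := by
        by_contra hc
        push Not at hc
        exact hZ0 (sl_ext a fun r s => by rw [hc, map_zero])
      obtain ⟨p, hp, hpe⟩ := (mem_Wsp hf).1 (mem_SlIn.1 hZa r s)
      have hπ : p - f p v' • v - f p v • v' ≠ 0 := fun e0 => hrs (by
        rw [hpe, show p = f p v' • v by
          rw [sub_sub, sub_eq_zero] at e0
          conv_lhs => rw [e0, hp, zero_smul, add_zero],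
          wd_smulR hf, wd_self hf, smul_zero])
      obtain ⟨y, hy, hyy, hyπ⟩ := per_aniso_near hf Fm (per_proj hf Fm p) hπ
      obtain ⟨rf, hrf, hrfi, hrfx⟩ := exists_refl hf hyy
      set H : GG := oneGL a rf * oneGL j rf⁻¹
      have hH : H ∈ M := S.pair_mem (Ne.symm haj) hrf
      have hrv : (rf : A1) *ᵥ v = v := by
        rw [hrfx, hf.comm y v, hy.1, mul_zero, zero_div, zero_smul, sub_zero]
      have hrv1 : (rf : A1) *ᵥ v = (1 : F) • v := by rw [one_smul, hrv]
      have hconj : (H : Big) * Z * ((H⁻¹ : GG) : Big) =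
          (oneGL a rf : Big) * ((oneGL j rf⁻¹ : Big) * Z * ((oneGL j rf⁻¹)⁻¹).val) * ((oneGL a rf)⁻¹).val := by
        simp only [H, Units.val_mul, _root_.mul_inv_rev, mul_assoc]
      have hjE : (oneGL j rf⁻¹ : Big) * Z * ((oneGL j rf⁻¹)⁻¹).val ∈ SlIn j (Submodule.span F {E}) := by
        refine mem_SlIn.2 fun r' s' => ?_
        obtain ⟨c, hc⟩ := Submodule.mem_span_singleton.1 (mem_SlIn.1 hZ.1 r' s')
        rw [sl_conj, ← hc, Matrix.mul_smul, Matrix.smul_mul, inv_inv]
        refine Submodule.smul_mem _ _ (Submodule.mem_span_singleton.2 ⟨1, ?_⟩)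
        rw [one_smul]
        refine Matrix.mulVec_injective (funext fun x => ?_)
        rw [← mulVec_mulVec, ← mulVec_mulVec, E_mulVec hf, E_mulVec hf, mulVec_smul,
          show ((rf⁻¹ : GL (Fin k) F) : A1) = (rf : A1) by rw [hrfi], hrv,
          show f ((rf : A1) *ᵥ x) v = f x v by conv_lhs => rw [← hrv]
                                               exact hrf x v]
      have hY : Z - (H : Big) * Z * ((H⁻¹ : GG) : Big) ∈ Cn hf Fm.vv M j :=
        sub_mem hZ (Cn.conj hf Fm.vv hZ hH (by rw [hconj]; exact SlIn.conj_ne haj hjE _))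
      have hsl : ∀ r' s', sl a r' s' ((oneGL j rf⁻¹ : Big) * Z * ((oneGL j rf⁻¹)⁻¹).val) ∈ Wsp f v :=
        fun r' s' => mem_SlIn.1 (SlIn.conj_ne (Ne.symm haj) hZa _) r' s'
      have hdiff : ∀ r' s', sl a r' s' (Z - (H : Big) * Z * ((H⁻¹ : GG) : Big)) = sl a r' s' Z -
          (rf : A1) * sl a r' s' ((oneGL j rf⁻¹ : Big) * Z * ((oneGL j rf⁻¹)⁻¹).val) * (rf⁻¹).val := fun r' s' => by
        rw [map_sub, hconj, sl_conj]
      have hjsame : ∀ r' s', sl a r' s' ((oneGL j rf⁻¹ : Big) * Z * ((oneGL j rf⁻¹)⁻¹).val) = sl a r' s' Z := by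
        obtain ⟨C, hC⟩ := kr_of_slices j (Y := E) (X := Z) fun r' s' => by
          obtain ⟨c, hc⟩ := Submodule.mem_span_singleton.1 (mem_SlIn.1 hZ.1 r' s')
          exact ⟨c, hc.symm⟩
        intro r' s'
        congr 1
        rw [oneGL_inv, coe_oneGL, coe_oneGL, inv_inv, hC, ← kr_one_left, ← kr_one_left, kr_mul, kr_mul, one_mul, mul_one]
        congr 1
        refine Matrix.mulVec_injective (funext fun x => ?_)
        rw [← mulVec_mulVec, ← mulVec_mulVec, E_mulVec hf, E_mulVec hf, mulVec_smul,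
          show ((rf⁻¹ : GL (Fin k) F) : A1) = (rf : A1) by rw [hrfi], hrv,
          show f ((rf : A1) *ᵥ x) v = f x v by conv_lhs => rw [← hrv]
                                               exact hrf x v]
      have hval : ∀ q, wd f v q - (rf : A1) * wd f v q * (rf⁻¹).val = (2 * f q y / f y y) • wd f v y := fun q => by
        refine Matrix.mulVec_injective (funext fun x => ?_)
        rw [sub_mulVec, ← mulVec_mulVec, ← mulVec_mulVec, smul_mulVec, wd_mulVec hf, wd_mulVec hf, wd_mulVec hf,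
          mulVec_sub, mulVec_smul, mulVec_smul, hrv, hrfi]
        have e1 : f ((rf : A1) *ᵥ x) v = f x v := by conv_lhs => rw [← hrv]
                                                     exact hrf x v
        have e2 : f ((rf : A1) *ᵥ x) q = f x ((rf : A1) *ᵥ q) := by
          conv_rhs => rw [← hrf, ← gl_mul_mulVec, show rf * rf = 1 by
            conv_lhs => arg 2; rw [← hrfi]
            exact mul_inv_cancel rf, Units.val_one, one_mulVec]
        rw [e1, e2, hrfx q]
        simp only [hf.subR, hf.smulR]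
        module
      refine Or.inr (hput _ hY (fun e0 => ?_) (fun l _ hla U hU => ?_) (Or.inr ⟨y, hy, hyy, mem_SlIn.2 fun r' s' => ?_⟩))
      · have h1 := hdiff r s
        rw [e0, map_zero, hjsame, hpe, hval, eq_comm, smul_eq_zero] at h1
        have hpy : f p y ≠ 0 := fun e1 => hyπ (by
          rw [hf.comm, hf.subL, hf.subL, hf.smulL, hf.smulL, e1, hf.comm y v, hy.1, hf.comm y v', hy.2]; ring)
        rcases h1 with h1 | h1
        · exact (div_ne_zero (mul_ne_zero hf.two hpy) hyy) h1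
        · have h2 := congrArg (fun Z0 : A1 => Z0 *ᵥ v') h1
          rw [wd_mulVec hf, Fm.pair' hf, hf.comm y v', hy.2, one_smul, zero_smul, sub_zero, zero_mulVec] at h2
          exact hyy (by rw [h2, hf.zeroL])
      · refine Submodule.sub_mem _ (hkeep l (Ne.symm hla) U hU) ?_
        rw [hconj]
        refine SlIn.conj_ne (Ne.symm hla) ?_ _
        by_cases hlj : j = l
        · subst hlj
          obtain ⟨C, hC⟩ := kr_of_slices j (Y := E) (X := Z) fun r' s' => by
            obtain ⟨c, hc⟩ := Submodule.mem_span_singleton.1 (mem_SlIn.1 hZ.1 r' s')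
            exact ⟨c, hc.symm⟩
          have : (oneGL j rf⁻¹ : Big) * Z * ((oneGL j rf⁻¹)⁻¹).val = Z := sl_ext a fun r' s' => hjsame r' s'
          rw [this]
          exact hkeep j haj U hU
        · exact SlIn.conj_ne hlj (hkeep l (Ne.symm hla) U hU) _
      · obtain ⟨q, hq, hqe⟩ := (mem_Wsp hf).1 (mem_SlIn.1 hZa r' s')
        rw [hdiff, hjsame, hqe, hval]
        exact Submodule.smul_mem _ _ (Submodule.mem_span_singleton_self _)
  rcases key Finset.univ with ⟨a, haj, X, hX, hXne, hsc⟩ | ⟨X, hX, hXne, hall⟩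
  · obtain ⟨hcard, hfull⟩ := full_rest S IH Fm haj hX hXne hsc
    obtain ⟨d, hd⟩ := Patterns.of_rest hf S Fm hfull hcard
    refine ⟨d, fun z hz c => ?_⟩
    rw [← pv_update_smul]
    exact hd _ (per_smul hf c hz)
  -- a pure tensor
  obtain ⟨e0, he0, hee0⟩ := exists_aniso S.par Fm
  set Sw : Finset ι := Finset.univ.filter fun l => X ∉ SlIn l (Submodule.span F {E})
  have hex : ∀ l, ∃ y, Per f v v' y ∧ f y y ≠ 0 ∧ (l ∈ Sw → X ∈ SlIn l (Submodule.span F {wd f v y})) := fun l => by
    rcases hall l (Finset.mem_univ l) with h | ⟨y, hy, hyy, h⟩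
    · exact ⟨e0, he0, hee0, fun hl => absurd h (Finset.mem_filter.1 hl).2⟩
    · exact ⟨y, hy, hyy, fun _ => h⟩
  choose y hy hyy hyX using hex
  have hjS : j ∉ Sw := fun h => (Finset.mem_filter.1 h).2 hX.1
  set Y : ι → A1 := fun l => if l ∈ Sw then wd f v (y l) else E
  obtain ⟨c, hc⟩ := pt_of_slices (Y := Y) (fun l => by
      simp only [Y]; split_ifs
      · exact fun e1 => hyy l (by
          have h2 := congrArg (fun Z0 : A1 => Z0 *ᵥ v') e1
          rw [wd_mulVec hf, Fm.pair' hf, hf.comm (y l) v', (hy l).2, one_smul, zero_smul, sub_zero, zero_mulVec] at h2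
          rw [h2, hf.zeroL])
      · exact E_ne hf Fm) (X := X) (fun l => by
      simp only [Y]; split_ifs with h
      · exact hyX l h
      · by_contra hn; exact h (Finset.mem_filter.2 ⟨Finset.mem_univ l, hn⟩))
  have hc0 : c ≠ 0 := fun e1 => hXne (by rw [hc, e1, zero_smul])
  have hSw : Sw.Nonempty := by
    by_contra hne
    rw [Finset.not_nonempty_iff_eq_empty] at hne
    have h1 := Cn.skew S Fm.vv hX (pv fun _ => v') (pv fun _ => v')
    rw [hc, smul_mulVec, show Y = fun _ => E from funext fun l => by simp [Y, hne], rank_one_tuple hf, Bt_smulL,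
      Bt_smulL, Bt_smulR, Bt_smulR, Bt_pv hf, Bt_pv hf, Finset.prod_eq_one fun l _ => Fm.pair' hf,
      Finset.prod_eq_one fun l _ => Fm.pair] at h1
    exact hc0 ((mul_eq_zero.1 (show (2 : F) * c = 0 by linear_combination h1)).resolve_left hf.two)
  obtain ⟨x, hx, ex1⟩ := hX.2
  obtain ⟨b, hb, hEich⟩ := Patterns.of_pattern hf S Fm hjS hSw hy hyy hc0 hx (by rw [ex1, hc])
  -- move the opposite vectors to a single factor
  have reduce : ∀ (n : ℕ) (T : Finset ι), T.card = n → T.Nonempty → ∀ b : F, b ≠ 0 →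
      Eich f M (allV v) (b • pv fun l => if l ∈ T then v' else v) →
      ∃ d, ∀ z, Per f v v' z → pv (Function.update (fun _ : ι => v) d z) ∈ wsub (M := M) hf hP := by
    intro n
    induction n with
    | zero => intro T hT hTn; rw [Finset.card_eq_zero.1 hT] at hTn; exact absurd hTn (by simp)
    | succ n ih =>
      intro T hT hTn b hb h
      obtain ⟨l, hl⟩ := hTn
      have hper := fun z (hz : Per f v v' z) => toPer hf S Fm (l := l) (by rw [if_pos hl]) hb h hz
      by_cases hsingle : T = {l}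
      · subst hsingle
        refine ⟨l, fun z hz => ?_⟩
        have h1 := hper z hz
        rwa [show Function.update (fun i => if i ∈ ({l} : Finset ι) then v' else v) l z =
          Function.update (fun _ => v) l z from funext fun i => by by_cases hi : i = l <;> simp [hi]] at h1
      have hv1 := toV hf S Fm hper
      refine ih (T.erase l) (by rw [Finset.card_erase_of_mem hl, hT]; omega) ?_ 1 one_ne_zero ?_
      · rw [Finset.nonempty_iff_ne_empty]
        intro e1
        exact hsingle (Finset.eq_singleton_iff_unique_mem.2 ⟨hl, fun i hi => by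
          by_contra hne
          exact Finset.notMem_empty i (e1 ▸ Finset.mem_erase.2 ⟨hne, hi⟩)⟩)
      · have h1 := hv1 1
        convert h1 using 3
        funext i
        by_cases hi : i = l <;> simp [hi]
  refine reduce _ (Finset.univ \ Sw) rfl ⟨j, by simp [hjS]⟩ b hb ?_
  convert hEich using 3
  funext l
  by_cases hl : l ∈ Sw <;> simp [hl]

end Cfsg.Agent.Lib.TensorPowerOrth.Central
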