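import Cfsg.Agent.Lib.TensorPowerOrth.NoCentral

/-!
The Eichler maps of the product form contained in a group, and the changes of one tensor factor of their
vectors.
-/

set_option autoImplicit false
set_option linter.unusedSectionVars false

namespace Cfsg.Agent.Lib.TensorPowerOrth.Eich

open Matrix
open Cfsg.Agent.Lib.Subspaces.Transvection Cfsg.Agent.Lib.Subspaces.FormVec
  Cfsg.Agent.Lib.TensorPowerMax.Basic Cfsg.Agent.Lib.TensorOrthMax.Side Cfsg.Agent.Lib.TensorOrthMax.Setup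
  Cfsg.Agent.Lib.TensorPowerOrth.Form Cfsg.Agent.Lib.TensorPowerOrth.Frame Cfsg.Agent.Lib.TensorPowerOrth.Roots
  Cfsg.Agent.Lib.TensorPowerOrth.Kron Cfsg.Agent.Lib.TensorPowerOrth.Block Cfsg.Agent.Lib.TensorPowerOrth.Upper
  Cfsg.Agent.Lib.TensorPowerOrth.Tuples

variable {ι : Type} [Fintype ι] [DecidableEq ι] {k : ℕ} {F : Type*} [Field F]

local notation "Big" => Matrix (ι → Fin k) (ι → Fin k) F
local notation "GG" => GL (ι → Fin k) F
local notation "W1" => Fin k → F
local notation "Vec" => (ι → Fin k) → F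

/-- The Eichler map of the product form at `P` and `Q` is in the group. -/
def Eich (f : (Fin k → F) → (Fin k → F) → F) (M : Subgroup (GL (ι → Fin k) F)) (P Q : (ι → Fin k) → F) : Prop :=
  Bt f Q P = 0 ∧ ∃ g ∈ M, ∀ y, (g : Matrix (ι → Fin k) (ι → Fin k) F) *ᵥ y = phiB f P Q y

variable {f : (Fin k → F) → (Fin k → F) → F} {M : Subgroup (GL (ι → Fin k) F)} (hf : Sym f)
include hf

theorem phiB_add {P Q Q' : Vec} (hP : Bt f P P = 0) (h : Bt f Q P = 0) (h' : Bt f Q' P = 0) (y : Vec) :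
    phiB f P Q (phiB f P Q' y) = phiB f P (Q + Q') y := by
  simp only [phiB, Bt_addL, Bt_addR, Bt_subL, Bt_subR, Bt_smulL, Bt_smulR, hP, h, h', Bt_comm hf Q P,
    Bt_comm hf Q' P, Bt_comm hf Q Q']
  have h2 := hf.two
  match_scalars <;> field_simp <;> ring

theorem zero (P : Vec) : Eich f M P 0 :=
  ⟨Bt_zeroL _, 1, one_mem _, fun y => by rw [Units.val_one, one_mulVec, phiB]; simp [Bt_zeroR, Bt_zeroL]⟩

theorem add {P Q Q' : Vec} (hP : Bt f P P = 0) (h : Eich f M P Q) (h' : Eich f M P Q') : Eich f M P (Q + Q') := by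
  obtain ⟨hQ, g, hg, e⟩ := h
  obtain ⟨hQ', g', hg', e'⟩ := h'
  exact ⟨by rw [Bt_addL, hQ, hQ', add_zero], g * g', mul_mem hg hg', fun y => by
    rw [gl_mul_mulVec, e', e, phiB_add hf hP hQ hQ']⟩

theorem neg {P Q : Vec} (hP : Bt f P P = 0) (h : Eich f M P Q) : Eich f M P (-Q) := by
  obtain ⟨hQ, g, hg, e⟩ := h
  have hQ' : Bt f (-Q) P = 0 := by rw [Bt_negL, hQ, neg_zero]
  refine ⟨hQ', g⁻¹, inv_mem hg, fun y => gl_mulVec_injective g ?_⟩
  show (g : Big) *ᵥ _ = (g : Big) *ᵥ _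
  rw [gl_mulVec_inv, e, phiB_add hf hP hQ hQ', add_neg_cancel, phiB]
  simp [Bt_zeroR, Bt_zeroL]

theorem sub {P Q Q' : Vec} (hP : Bt f P P = 0) (h : Eich f M P Q) (h' : Eich f M P Q') : Eich f M P (Q - Q') := by
  rw [sub_eq_add_neg]; exact add hf hP h (neg hf hP h')

omit hf in
theorem conj {g : GG} (hgi : g ∈ isoB ι f) (hg : g ∈ M) {P Q : Vec} (h : Eich f M P Q) :
    Eich f M ((g : Big) *ᵥ P) ((g : Big) *ᵥ Q) := by
  obtain ⟨hQ, x, hx, e⟩ := h
  refine ⟨by rw [hgi, hQ], g * x * g⁻¹, mul_mem (mul_mem hg hx) (inv_mem hg), fun y => ?_⟩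
  obtain ⟨y', rfl⟩ : ∃ y', (g : Big) *ᵥ y' = y := ⟨_, gl_mulVec_inv g y⟩
  rw [gl_mul_mulVec, gl_mul_mulVec, gl_inv_mulVec, e]
  simp only [phiB, hgi _ _, mulVec_sub, mulVec_add, mulVec_smul]

omit hf in
/-- Scalars pass from the first vector to the second. -/
theorem smul_left {P Q : Vec} {c : F} (hc : c ≠ 0) : Eich f M (c • P) Q ↔ Eich f M P (c • Q) := by
  have e : ∀ y, phiB f (c • P) Q y = phiB f P (c • Q) y := fun y => by
    simp only [phiB, Bt_smulL, Bt_smulR]
    match_scalars <;> ring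
  simp only [Eich, e, Bt_smulL, Bt_smulR, mul_eq_zero, hc, false_or]

/-- The two vectors may be exchanged when both are isotropic. -/
theorem swap {P Q : Vec} (hP : Bt f P P = 0) (hQ : Bt f Q Q = 0) (h : Eich f M P Q) : Eich f M Q (-P) := by
  obtain ⟨hQP, g, hg, e⟩ := h
  refine ⟨by rw [Bt_negL, ← Bt_comm hf, hQP, neg_zero], g, hg, fun y => ?_⟩
  rw [e, phiB, phiB]
  simp only [Bt_negR, Bt_negL, hP, hQ, neg_zero, zero_div, zero_mul, zero_smul]
  module

/-- The commutator of two maps with one pairing between their vectors. -/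
theorem brk {P W P' W' : Vec} (hP : Bt f P P = 0) (hW : Bt f W W = 0) (hP' : Bt f P' P' = 0)
    (hW' : Bt f W' W' = 0) (hPP' : Bt f P P' = 0) (hPW' : Bt f P W' = 0) (hWP' : Bt f W P' = 0)
    (h : Eich f M P W) (h' : Eich f M P' W') : Eich f M P (Bt f W W' • P') := by
  obtain ⟨hWP, g, hg, e⟩ := h
  obtain ⟨hW'P', g', hg', e'⟩ := h'
  set β := Bt f W W'
  have key : ∀ y, (g : Big) *ᵥ ((g' : Big) *ᵥ y) = phiB f P (β • P') ((g' : Big) *ᵥ ((g : Big) *ᵥ y)) := fun y => by
    simp only [e, e', phiB, Bt_addL, Bt_addR, Bt_subL, Bt_subR, Bt_smulL, Bt_smulR, hP, hW, hP', hW', hPP', hPW', hWP',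
      hWP, hW'P', Bt_comm hf P P', Bt_comm hf P W', Bt_comm hf W P', Bt_comm hf W P, Bt_comm hf W' P',
      show Bt f W W' = β from rfl, show Bt f W' W = β from Bt_comm hf W W', zero_div, zero_mul, mul_zero, sub_zero,
      zero_smul, zero_sub, add_zero, zero_add]
    module
  refine ⟨by rw [Bt_smulL, ← Bt_comm hf, hPP', mul_zero], g * g' * g⁻¹ * g'⁻¹,
    mul_mem (mul_mem (mul_mem hg hg') (inv_mem hg)) (inv_mem hg'), fun y => ?_⟩
  rw [gl_mul_mulVec, gl_mul_mulVec, gl_mul_mulVec, key, gl_mulVec_inv, gl_mulVec_inv]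

/-- The vectors allowed with all scalars. -/
def wsub {P : (ι → Fin k) → F} (hP : Bt f P P = 0) : Submodule F ((ι → Fin k) → F) where
  carrier := {Q | ∀ c : F, Eich f M P (c • Q)}
  zero_mem' := fun c => by rw [smul_zero]; exact zero hf P
  add_mem' := fun {a b} ha hb c => by rw [smul_add]; exact add hf hP (ha c) (hb c)
  smul_mem' := fun d a ha c => by rw [smul_smul]; exact ha _

/-- The vector with all factors equal to `v`. -/
abbrev allV (v : Fin k → F) : (ι → Fin k) → F := pv fun _ => v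

theorem allV_iso [Nonempty ι] {v : W1} (hv : f v v = 0) : Bt f (allV (ι := ι) v) (allV v) = 0 := by
  rw [Bt_pv hf]; exact Finset.prod_eq_zero (Finset.mem_univ (Classical.arbitrary ι)) hv

theorem root_fix {v z : W1} (hv : f v v = 0) (hz : f z v = 0) (l : ι) :
    (rt f l v z : Big) *ᵥ allV v = allV v := by
  conv_lhs => rw [allV, ← ins_pv l (fun _ => v)]
  rw [rt, oneGL_ins, er_fix hf hv hz, ins_pv l (fun _ => v)]

/-- A slot holding the opposite vector may hold any orthogonal one. -/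
theorem toPer [Nonempty ι] (S : Setting f M) {v v' : W1} (Fm : Fr f v v') {s : ι → W1} {l : ι} (hl : s l = v')
    {c : F} (hc : c ≠ 0) (h : Eich f M (allV v) (c • pv s)) {z : W1} (hz : Per f v v' z) :
    pv (Function.update s l z) ∈ wsub (M := M) hf (allV_iso hf Fm.vv) := by
  intro d
  have hP := allV_iso (ι := ι) hf Fm.vv
  set z' := (d / (2 * c)) • z with hz'd
  have hz' : Per f v v' z' := per_smul hf _ hz
  have hn : f (-z') v = 0 := by rw [hf.negL, hz'.1, neg_zero]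
  have e1 := conj (rt_iso hf l Fm.vv hz'.1) (S.rt_mem l Fm.vv hz'.1) h
  have e2 := conj (rt_iso hf l Fm.vv hn) (S.rt_mem l Fm.vv hn) h
  rw [root_fix hf Fm.vv hz'.1, mulVec_smul] at e1
  rw [root_fix hf Fm.vv hn, mulVec_smul] at e2
  have h3 := sub hf hP e2 e1
  convert h3 using 1
  have hsub : ∀ (x y : W1) (u : ({i // i ≠ l} → Fin k) → F), ins l x u - ins l y u = ins l (x - y) u :=
    fun x y u => by rw [sub_eq_iff_eq_add, ← TensorSympMax.Basic.ins_add_vec, sub_add_cancel]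
  rw [← ins_pv l s, hl, rt_ins hf l Fm.vv hn, rt_ins hf l Fm.vv hz'.1, pv_update l s z,
    ← ins_smul, ← ins_smul, ← ins_smul, hsub]
  congr 2
  simp only [hf.negR, hf.negL, neg_neg, Fm.pair' hf, hf.comm z' v', hz'.2]
  have := hf.two
  rw [hz'd]
  match_scalars <;> field_simp <;> ring

/-- A slot holding all orthogonal vectors may hold the first vector of the frame. -/
theorem toV [Finite F] [Nonempty ι] (S : Setting f M) {v v' : W1} (Fm : Fr f v v') {s : ι → W1} {l : ι}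
    (h : ∀ z, Per f v v' z → pv (Function.update s l z) ∈ wsub (M := M) hf (allV_iso hf Fm.vv)) :
    pv (Function.update s l v) ∈ wsub (M := M) hf (allV_iso hf Fm.vv) := by
  obtain ⟨y, hy, hyy⟩ := exists_aniso S.par Fm
  intro d
  have hP := allV_iso (ι := ι) hf Fm.vv
  have hb := h y hy (d / f y y)
  have e1 := conj (rt_iso hf l Fm.vv hy.1) (S.rt_mem l Fm.vv hy.1) hb
  rw [root_fix hf Fm.vv hy.1, mulVec_smul, pv_update, rt_ins hf l Fm.vv hy.1,
    TensorSympMax.Basic.ins_add_vec, smul_add] at e1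
  have h3 := sub hf hP e1 hb
  rw [pv_update, add_sub_cancel_left, hy.1, ← ins_smul] at h3
  convert h3 using 1
  rw [pv_update, ← ins_smul]
  congr 2
  match_scalars <;> field_simp <;> ring

end Cfsg.Agent.Lib.TensorPowerOrth.Eich
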