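import Cfsg.Agent.Lib.TensorSympMax.Basic
import Cfsg.Agent.Lib.TensorOrthMax.Setup

/-!
The tensor power of a symmetric form in odd characteristic: the product form, its isometries inside the
stabiliser of the decomposition.
-/

set_option autoImplicit false
set_option linter.unusedSectionVars false

namespace Cfsg.Agent.Lib.TensorPowerOrth.Form

open Matrix
open Cfsg.Agent.Lib.Subspaces.Transvection Cfsg.Agent.Lib.Subspaces.FormVec
  Cfsg.Agent.Lib.TensorPowerMax.Basic Cfsg.Agent.Lib.TensorOrthMax.Side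
open Cfsg.Agent.Lib.TensorSympMax.Basic (mulVec_ins_pt dot_ins ins_add_vec ins_zero_vec ctr_add_vec ctr_smul_vec)

variable {ι : Type} [Fintype ι] [DecidableEq ι] {k : ℕ} {F : Type*} [Field F]

local notation "A1" => Matrix (Fin k) (Fin k) F
local notation "Big" => Matrix (ι → Fin k) (ι → Fin k) F
local notation "GG" => GL (ι → Fin k) F
local notation "W1" => Fin k → F
local notation "Vec" => (ι → Fin k) → F

/-- The tensor power of a form. -/
def Bt (f : (Fin k → F) → (Fin k → F) → F) (x y : (ι → Fin k) → F) : F :=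
  x ⬝ᵥ (pt (fun _ : ι => Cfsg.Geo.gramMatrix f) *ᵥ y)

variable {f : (Fin k → F) → (Fin k → F) → F}

theorem Bt_addL (x y z : Vec) : Bt f (x + y) z = Bt f x z + Bt f y z := add_dotProduct _ _ _
theorem Bt_smulL (c : F) (x z : Vec) : Bt f (c • x) z = c * Bt f x z := by simp [Bt, smul_dotProduct]
theorem Bt_addR (x y z : Vec) : Bt f x (y + z) = Bt f x y + Bt f x z := by simp [Bt, mulVec_add, dotProduct_add]
theorem Bt_smulR (c : F) (x z : Vec) : Bt f x (c • z) = c * Bt f x z := by simp [Bt, mulVec_smul, dotProduct_smul]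
theorem Bt_subL (x y z : Vec) : Bt f (x - y) z = Bt f x z - Bt f y z := sub_dotProduct _ _ _
theorem Bt_subR (x y z : Vec) : Bt f x (y - z) = Bt f x y - Bt f x z := by simp [Bt, mulVec_sub, dotProduct_sub]
theorem Bt_negL (x z : Vec) : Bt f (-x) z = -Bt f x z := neg_dotProduct _ _
theorem Bt_negR (x z : Vec) : Bt f x (-z) = -Bt f x z := by simp [Bt, mulVec_neg, dotProduct_neg]
theorem Bt_zeroL (z : Vec) : Bt f 0 z = 0 := zero_dotProduct _
theorem Bt_zeroR (x : Vec) : Bt f x 0 = 0 := by simp [Bt]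

/-- The product form in the second variable, as a linear map. -/
def BR (f : (Fin k → F) → (Fin k → F) → F) (x : (ι → Fin k) → F) : ((ι → Fin k) → F) →ₗ[F] F where
  toFun := Bt f x
  map_add' := Bt_addR x
  map_smul' c y := Bt_smulR c x y

/-- The product form in the first variable, as a linear map. -/
def BL (f : (Fin k → F) → (Fin k → F) → F) (y : (ι → Fin k) → F) : ((ι → Fin k) → F) →ₗ[F] F where
  toFun x := Bt f x y
  map_add' a b := Bt_addL a b y
  map_smul' c x := Bt_smulL c x y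

theorem Bt_sumR {α : Type*} (s : Finset α) (x : Vec) (g : α → Vec) :
    Bt f x (∑ a ∈ s, g a) = ∑ a ∈ s, Bt f x (g a) := map_sum (BR f x) g s

theorem Bt_sumL {α : Type*} (s : Finset α) (g : α → Vec) (y : Vec) :
    Bt f (∑ a ∈ s, g a) y = ∑ a ∈ s, Bt f (g a) y := map_sum (BL f y) g s

theorem sum_pv_single (x : Vec) : ∑ a, x a • pv (fun i => Pi.single (a i) (1 : F)) = x := by
  simp [pv_single, ← Pi.single_smul, Finset.univ_sum_single]

/-- Linear functionals agreeing on the pure tensors are equal. -/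
theorem lin_ext {U : Type*} [AddCommGroup U] [Module F U] {L L' : Vec →ₗ[F] U}
    (h : ∀ s : ι → W1, L (pv s) = L' (pv s)) : L = L' := by
  refine LinearMap.ext fun x => ?_
  rw [← sum_pv_single x, map_sum, map_sum]
  exact Finset.sum_congr rfl fun a _ => by rw [map_smul, map_smul, h]

/-- The isometries of the product form. -/
def isoB (ι : Type) [Fintype ι] [DecidableEq ι] (f : (Fin k → F) → (Fin k → F) → F) :
    Subgroup (GL (ι → Fin k) F) where
  carrier := {g | ∀ x y, Bt f ((g : Matrix (ι → Fin k) (ι → Fin k) F) *ᵥ x)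
    ((g : Matrix (ι → Fin k) (ι → Fin k) F) *ᵥ y) = Bt f x y}
  one_mem' := fun x y => by rw [Units.val_one, one_mulVec, one_mulVec]
  mul_mem' := fun {g h} hg hh x y => by rw [gl_mul_mulVec, gl_mul_mulVec, hg, hh]
  inv_mem' := fun {g} hg x y => by
    conv_rhs => rw [← gl_mulVec_inv g x, ← gl_mulVec_inv g y]
    rw [hg]

/-- The isometries of the form on one factor. -/
def isoF (f : (Fin k → F) → (Fin k → F) → F) : Subgroup (GL (Fin k) F) where
  carrier := {g | ∀ x y, f ((g : Matrix (Fin k) (Fin k) F) *ᵥ x) ((g : Matrix (Fin k) (Fin k) F) *ᵥ y) = f x y}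
  one_mem' := fun x y => by rw [Units.val_one, one_mulVec, one_mulVec]
  mul_mem' := fun {g h} hg hh x y => by rw [gl_mul_mulVec, gl_mul_mulVec, hg, hh]
  inv_mem' := fun {g} hg x y => by
    conv_rhs => rw [← gl_mulVec_inv g x, ← gl_mulVec_inv g y]
    rw [hg]

theorem iso_move {g : GG} (hg : g ∈ isoB ι f) (x y : Vec) :
    Bt f ((g : Big) *ᵥ x) y = Bt f x (((g⁻¹ : GG) : Big) *ᵥ y) := by
  conv_lhs => rw [← gl_mulVec_inv g y]
  rw [hg]

theorem iso_move_inv {g : GG} (hg : g ∈ isoB ι f) (x y : Vec) :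
    Bt f (((g⁻¹ : GG) : Big) *ᵥ x) y = Bt f x ((g : Big) *ᵥ y) := by
  rw [← hg, gl_mulVec_inv]

variable (hf : Sym f)
include hf

theorem gram_mulVec (w : W1) : Cfsg.Geo.gramMatrix f *ᵥ w = formVec f w := by
  ext a
  show ∑ b, f (Pi.single a 1) (Pi.single b 1) * w b = f (Pi.single a 1) w
  let L : W1 →ₗ[F] F :=
    { toFun := f (Pi.single a 1)
      map_add' := fun x y => hf.addR _ x y
      map_smul' := fun c x => hf.smulR c _ x }
  conv_rhs => rw [show f (Pi.single a 1) w = L w from rfl, ← Finset.univ_sum_single w, map_sum]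
  refine Finset.sum_congr rfl fun b _ => ?_
  rw [show (Pi.single b (w b) : W1) = w b • Pi.single b 1 by rw [← Pi.single_smul', smul_eq_mul, mul_one],
    map_smul, smul_eq_mul, mul_comm]
  rfl

theorem gram_form (x y : W1) : x ⬝ᵥ (Cfsg.Geo.gramMatrix f *ᵥ y) = f x y := by
  rw [gram_mulVec hf, dotProduct_comm, hf.dot]

theorem gram_transpose : (Cfsg.Geo.gramMatrix f)ᵀ = Cfsg.Geo.gramMatrix f := by
  ext a b
  exact hf.comm _ _

theorem gram_det : (Cfsg.Geo.gramMatrix f).det ≠ 0 := by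
  intro h
  obtain ⟨v, hv, hv'⟩ := exists_mulVec_eq_zero_iff.2 h
  refine hv (hf.eq_zero fun u => ?_)
  rw [← gram_form hf, hv', dotProduct_zero]

theorem Bt_pv (r s : ι → W1) : Bt f (pv r) (pv s) = ∏ i, f (r i) (s i) := by
  rw [Bt, pt_mulVec, pv_dot]
  exact Finset.prod_congr rfl fun i _ => gram_form hf _ _

theorem Bt_comm (x y : Vec) : Bt f y x = Bt f x y := by
  have hT : (pt fun _ : ι => Cfsg.Geo.gramMatrix f)ᵀ = pt (fun _ : ι => Cfsg.Geo.gramMatrix f) := by
    ext a b
    rw [Matrix.transpose_apply, pt_apply, pt_apply]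
    exact Finset.prod_congr rfl fun i _ => hf.comm _ _
  show y ⬝ᵥ (_ *ᵥ x) = _
  rw [dotProduct_mulVec, ← mulVec_transpose, hT, dotProduct_comm]
  rfl

theorem Bt_nondeg {y : Vec} (h : ∀ x, Bt f x y = 0) : y = 0 := by
  let G : GG := ptGL fun _ => GeneralLinearGroup.mkOfDetNeZero (Cfsg.Geo.gramMatrix f) (gram_det hf)
  have hG : (G : Big) = pt (fun _ => Cfsg.Geo.gramMatrix f) := coe_ptGL _
  refine gl_mulVec_injective G ?_
  show (G : Big) *ᵥ y = (G : Big) *ᵥ 0
  rw [mulVec_zero, hG]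
  exact dotProduct_eq_zero _ fun x => by rw [dotProduct_comm]; exact h x

theorem Bt_ext {y y' : Vec} (h : ∀ s : ι → W1, Bt f (pv s) y = Bt f (pv s) y') : y = y' := by
  rw [← sub_eq_zero]
  refine Bt_nondeg hf fun x => ?_
  rw [← sum_pv_single x, Bt_sumL]
  refine Finset.sum_eq_zero fun a _ => ?_
  rw [Bt_smulL, Bt_subR, h, sub_self, mul_zero]

theorem Bt_ins_right (j : ι) (z : Vec) (w : W1) (u : ({i // i ≠ j} → Fin k) → F) :
    Bt f z (ins j w u) = Bt f (ctr j (formVec f w) z) u := by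
  rw [Bt, mulVec_ins_pt, dot_ins, gram_mulVec hf]
  rfl

theorem Bt_ins_ins (j : ι) (v w : W1) (a b : ({i // i ≠ j} → Fin k) → F) :
    Bt f (ins j v a) (ins j w b) = f v w * Bt f a b := by
  rw [Bt_ins_right hf, ctr_ins, Bt_smulL, hf.dot]

/-- Isometries may be checked on pure tensors. -/
theorem iso_of_pv {g : GG} (h : ∀ s r : ι → W1,
    Bt f ((g : Big) *ᵥ pv s) ((g : Big) *ᵥ pv r) = Bt f (pv s) (pv r)) : g ∈ isoB ι f := by
  have h1 : ∀ (s : ι → W1) (y : Vec),
      Bt f ((g : Big) *ᵥ pv s) ((g : Big) *ᵥ y) = Bt f (pv s) y := fun s =>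
    LinearMap.congr_fun (lin_ext (L := (BR f ((g : Big) *ᵥ pv s)).comp (g : Big).mulVecLin) (L' := BR f (pv s))
      (h s))
  intro x y
  exact LinearMap.congr_fun (lin_ext (L := (BL f ((g : Big) *ᵥ y)).comp (g : Big).mulVecLin) (L' := BL f y)
      (fun s => h1 s y)) x

theorem pmGL_iso (π : Equiv.Perm ι) : (pmGL π : GG) ∈ isoB ι f :=
  iso_of_pv hf fun s r => by
    rw [coe_pmGL, pm_mulVec, pm_mulVec, Bt_pv hf, Bt_pv hf]
    exact (Fintype.prod_equiv π _ _ fun i => by simp).symm

/-- Similitudes of the factors with multipliers of product one give an isometry. -/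
theorem ptGL_iso {a : ι → GL (Fin k) F} {c : ι → F}
    (ha : ∀ i x y, f ((a i : A1) *ᵥ x) ((a i : A1) *ᵥ y) = c i * f x y) (hc : ∏ i, c i = 1) :
    ptGL a ∈ isoB ι f :=
  iso_of_pv hf fun s r => by
    rw [coe_ptGL, pt_mulVec, pt_mulVec, Bt_pv hf, Bt_pv hf]
    simp only [ha, Finset.prod_mul_distrib, hc, one_mul]

theorem oneGL_iso (j : ι) {b : GL (Fin k) F} (hb : b ∈ isoF f) : oneGL j b ∈ isoB ι f :=
  ptGL_iso hf (c := fun _ => 1) (fun i x y => by
    rw [one_mul]
    by_cases h : i = j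
    · rw [h, Function.update_self]; exact hb x y
    · rw [Function.update_of_ne h, Pi.one_apply, Units.val_one, one_mulVec, one_mulVec]) (by simp)

/-- An isometry in the stabiliser is made of similitudes. -/
theorem similitudes {a : ι → GL (Fin k) F} {π : Equiv.Perm ι} (h : ptGL a * pmGL π ∈ isoB ι f) (hk : 0 < k) :
    ∃ c : ι → F, (∏ i, c i = 1) ∧ ∀ i x y, f ((a i : A1) *ᵥ x) ((a i : A1) *ᵥ y) = c i * f x y := by
  classical
  have hpt : ptGL a ∈ isoB ι f := by
    have := (isoB ι f).mul_mem h ((isoB ι f).inv_mem (pmGL_iso hf π))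
    rwa [mul_inv_cancel_right] at this
  have key : ∀ s r : ι → W1, ∏ i, f ((a i : A1) *ᵥ s i) ((a i : A1) *ᵥ r i) = ∏ i, f (s i) (r i) := fun s r => by
    have := hpt (pv s) (pv r)
    rwa [coe_ptGL, pt_mulVec, pt_mulVec, Bt_pv hf, Bt_pv hf] at this
  set o : W1 := Pi.single ⟨0, hk⟩ 1
  have ho : o ≠ 0 := by simp [o]
  obtain ⟨o', ho'⟩ := hf.sf.exists_one ho
  set c : ι → F := fun i => f ((a i : A1) *ᵥ o') ((a i : A1) *ᵥ o)
  have hc1 : ∏ i, c i = 1 := by
    have := key (fun _ => o') (fun _ => o)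
    simpa [ho'] using this
  refine ⟨c, hc1, fun i x y => ?_⟩
  have h1 := key (Function.update (fun _ => o') i x) (Function.update (fun _ => o) i y)
  have hne : ∏ l ∈ Finset.univ.erase i, c l ≠ 0 := fun e => by
    rw [← Finset.mul_prod_erase Finset.univ c (Finset.mem_univ i), e, mul_zero] at hc1
    exact zero_ne_one hc1
  rw [← Finset.mul_prod_erase Finset.univ _ (Finset.mem_univ i),
    ← Finset.mul_prod_erase Finset.univ _ (Finset.mem_univ i), Function.update_self, Function.update_self] at h1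
  have e1 : ∏ l ∈ Finset.univ.erase i, f ((a l : A1) *ᵥ Function.update (fun _ => o') i x l)
      ((a l : A1) *ᵥ Function.update (fun _ => o) i y l) = ∏ l ∈ Finset.univ.erase i, c l :=
    Finset.prod_congr rfl fun l hl => by
      rw [Function.update_of_ne (Finset.ne_of_mem_erase hl), Function.update_of_ne (Finset.ne_of_mem_erase hl)]
  have e2 : ∏ l ∈ Finset.univ.erase i, f (Function.update (fun _ => o') i x l)
      (Function.update (fun _ => o) i y l) = 1 :=
    Finset.prod_eq_one fun l hl => by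
      rw [Function.update_of_ne (Finset.ne_of_mem_erase hl), Function.update_of_ne (Finset.ne_of_mem_erase hl), ho']
  rw [e1, e2, mul_one] at h1
  refine mul_right_cancel₀ hne ?_
  rw [h1]
  conv_rhs => rw [mul_assoc, mul_comm (f x y), ← mul_assoc, Finset.mul_prod_erase Finset.univ c (Finset.mem_univ i), hc1, one_mul]

end Cfsg.Agent.Lib.TensorPowerOrth.Form
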