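import Cfsg.Agent.Lib.TensorPowerOrth.Form

/-!
One factor: hyperbolic frames, the isometries fixing the two lines of a frame used to separate weights, and
subspaces without isotropic vectors.
-/

set_option autoImplicit false
set_option linter.unusedSectionVars false

namespace Cfsg.Agent.Lib.TensorPowerOrth.Frame

open Matrix
open Cfsg.Agent.Lib.Subspaces.Transvection Cfsg.Agent.Lib.Subspaces.FormVec
  Cfsg.Agent.Lib.TensorOrthMax.Side Cfsg.Agent.Lib.TensorOrthMax.Setup
  Cfsg.Agent.Lib.TensorPowerOrth.Form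

variable {k : ℕ} {F : Type*} [Field F]

local notation "A1" => Matrix (Fin k) (Fin k) F
local notation "W1" => Fin k → F

/-- The hypotheses on the form of one factor. -/
structure Par (f : (Fin k → F) → (Fin k → F) → F) : Prop where
  sym : Sym f
  hk : 3 ≤ k
  big : (∃ c : F, c ≠ 0 ∧ c * c ≠ 1) ∨ 4 ≤ k
  four : k = 4 → ∀ v s, v ≠ 0 → f v v = 0 → f s s = 0 → f s v = 0 → s ∈ Submodule.span F {v}

/-- A hyperbolic pair. -/
structure Fr (f : (Fin k → F) → (Fin k → F) → F) (v v' : Fin k → F) : Prop where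
  vv : f v v = 0
  v'v' : f v' v' = 0
  pair : f v v' = 1

/-- Orthogonality to the hyperbolic pair. -/
def Per (f : (Fin k → F) → (Fin k → F) → F) (v v' z : Fin k → F) : Prop := f z v = 0 ∧ f z v' = 0

variable {f : (Fin k → F) → (Fin k → F) → F} {v v' : Fin k → F}

theorem exists_frame [Finite F] (P : Par f) : ∃ v v', Fr f v v' := by
  obtain ⟨v, hv, hvv⟩ := P.sym.exists_iso P.hk
  obtain ⟨b, hb, hbv⟩ := P.sym.exists_hyperbolic hv hvv
  exact ⟨v, b, hvv, hb, by rw [P.sym.comm]; exact hbv⟩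

theorem exists_frame_of [Finite F] (P : Par f) {v : W1} (hv : v ≠ 0) (hvv : f v v = 0) : ∃ v', Fr f v v' := by
  obtain ⟨b, hb, hbv⟩ := P.sym.exists_hyperbolic hv hvv
  exact ⟨b, hvv, hb, by rw [P.sym.comm]; exact hbv⟩

section

variable (hf : Sym f) (Fm : Fr f v v')
include hf Fm

theorem Fr.pair' : f v' v = 1 := by rw [hf.comm]; exact Fm.pair

theorem Fr.symm : Fr f v' v := ⟨Fm.v'v', Fm.vv, Fm.pair' hf⟩

theorem Fr.ne : v ≠ 0 := fun e => zero_ne_one (by rw [← Fm.pair, e, hf.zeroL])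

theorem Fr.ne' : v' ≠ 0 := (Fm.symm hf).ne hf

theorem per_proj (w : W1) : Per f v v' (w - f w v' • v - f w v • v') := by
  constructor <;> simp only [hf.subL, hf.smulL, Fm.vv, Fm.v'v', Fm.pair, Fm.pair' hf] <;> ring

theorem per_dual {z : W1} (hz : Per f v v' z) (hne : z ≠ 0) : ∃ w, Per f v v' w ∧ f w z = 1 := by
  obtain ⟨w, hw⟩ := hf.sf.exists_one hne
  refine ⟨_, per_proj hf Fm w, ?_⟩
  rw [hf.subL, hf.subL, hf.smulL, hf.smulL, hf.comm z v, hf.comm z v', hz.1, hz.2, hw]
  ring

/-- Vectors are compared through a frame and its orthogonal. -/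
theorem ext_frame {x y : W1} (h1 : f x v = f y v) (h2 : f x v' = f y v')
    (h3 : ∀ z, Per f v v' z → f x z = f y z) : x = y := by
  refine hf.sf.eq_of_left fun u => ?_
  have e : u = f u v' • v + f u v • v' + (u - f u v' • v - f u v • v') := by abel
  rw [e]
  simp only [hf.addR, hf.smulR, h1, h2, h3 _ (per_proj hf Fm u)]

end

theorem per_add (hf : Sym f) {y z : W1} (hy : Per f v v' y) (hz : Per f v v' z) : Per f v v' (y + z) :=
  ⟨by rw [hf.addL, hy.1, hz.1, add_zero], by rw [hf.addL, hy.2, hz.2, add_zero]⟩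

theorem per_smul (hf : Sym f) (c : F) {z : W1} (hz : Per f v v' z) : Per f v v' (c • z) :=
  ⟨by rw [hf.smulL, hz.1, mul_zero], by rw [hf.smulL, hz.2, mul_zero]⟩

theorem per_zero (hf : Sym f) : Per f v v' (0 : W1) := ⟨hf.zeroL _, hf.zeroL _⟩

theorem per_neg (hf : Sym f) {z : W1} (hz : Per f v v' z) : Per f v v' (-z) := by
  rw [← neg_one_smul F z]; exact per_smul hf _ hz

theorem per_sub (hf : Sym f) {y z : W1} (hy : Per f v v' y) (hz : Per f v v' z) : Per f v v' (y - z) := by
  rw [sub_eq_add_neg]; exact per_add hf hy (per_neg hf hz)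

theorem per_sum (hf : Sym f) {α : Type*} (s : Finset α) {g : α → W1} (h : ∀ a ∈ s, Per f v v' (g a)) :
    Per f v v' (∑ a ∈ s, g a) := by
  classical
  induction s using Finset.induction_on with
  | empty => rw [Finset.sum_empty]; exact per_zero hf
  | insert a s ha ih =>
    rw [Finset.sum_insert ha]
    exact per_add hf (h a (Finset.mem_insert_self a s)) (ih fun b hb => h b (Finset.mem_insert_of_mem hb))

section

variable (hf : Sym f) (Fm : Fr f v v')
include hf Fm

/-- An anisotropic vector not orthogonal to a given one. -/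
theorem per_aniso_near {z : W1} (hz : Per f v v' z) (hne : z ≠ 0) :
    ∃ y, Per f v v' y ∧ f y y ≠ 0 ∧ f y z ≠ 0 := by
  by_cases hzz : f z z = 0
  swap
  · exact ⟨z, hz, hzz, hzz⟩
  obtain ⟨w, hw, hwz⟩ := per_dual hf Fm hz hne
  by_cases hww : f w w = 0
  swap
  · exact ⟨w, hw, hww, by rw [hwz]; exact one_ne_zero⟩
  refine ⟨z + w, per_add hf hz hw, ?_, by rw [hf.addL, hzz, hwz, zero_add]; exact one_ne_zero⟩
  rw [hf.addL, hf.addR, hf.addR, hzz, hww, hf.comm w z, hwz]
  simpa [← two_mul] using hf.two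

/-- An additive condition holding at the anisotropic vectors holds everywhere. -/
theorem per_induction {p : W1 → Prop} (hadd : ∀ a b, Per f v v' a → Per f v v' b → p a → p b → p (a + b))
    (h : ∀ y, Per f v v' y → f y y ≠ 0 → p y) {z : W1} (hz : Per f v v' z) (hne : z ≠ 0) : p z := by
  by_cases hzz : f z z = 0
  swap
  · exact h z hz hzz
  obtain ⟨y, hy, hyy, hyz⟩ := per_aniso_near hf Fm hz hne
  have e : ∀ t : F, t ≠ 0 → f (z + t • y) (z + t • y) ≠ 0 → p z := fun t ht h1 => by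
    have hty : Per f v v' (t • y) := per_smul hf t hy
    have hn : f (-(t • y)) (-(t • y)) ≠ 0 := by
      rw [hf.negL, hf.negR, neg_neg, hf.smulL, hf.smulR]
      exact mul_ne_zero ht (mul_ne_zero ht hyy)
    have := hadd _ _ (per_add hf hz hty) (per_neg hf hty) (h _ (per_add hf hz hty) h1) (h _ (per_neg hf hty) hn)
    rwa [add_neg_cancel_right] at this
  by_cases h1 : f (z + (1 : F) • y) (z + (1 : F) • y) ≠ 0
  · exact e 1 one_ne_zero h1
  refine e (-1) (neg_ne_zero.2 one_ne_zero) fun h2 => hyy ?_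
  push Not at h1
  rw [hf.expand, hzz] at h1 h2
  have h3 : (2 : F) * f y y = 0 := by linear_combination h1 + h2
  exact (mul_eq_zero.1 h3).resolve_left hf.two

/-- A vector orthogonal to the anisotropic ones vanishes. -/
theorem per_eq_zero {ψ : W1} (hψ : Per f v v' ψ) (h : ∀ y, Per f v v' y → f y y ≠ 0 → f y ψ = 0) : ψ = 0 := by
  by_contra hne
  obtain ⟨y, hy, hyy, hyz⟩ := per_aniso_near hf Fm hψ hne
  exact hyz (h y hy hyy)

end

theorem exists_aniso (P : Par f) (Fm : Fr f v v') : ∃ z, Per f v v' z ∧ f z z ≠ 0 := by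
  obtain ⟨z0, hz0, hz0s⟩ := P.sym.exists_perp (⊥ : Submodule F W1) ![v, v'] (by have := P.hk; rw [finrank_bot]; omega)
  have hne : z0 ≠ 0 := fun e => hz0 (by rw [e]; exact Submodule.zero_mem _)
  obtain ⟨y, hy, hyy, -⟩ := per_aniso_near P.sym Fm ⟨hz0s 0, hz0s 1⟩ hne
  exact ⟨y, hy, hyy⟩

/-! ### isometries from linear maps -/

theorem exists_isoF_of {L L' : W1 →ₗ[F] W1} (hL : ∀ x, L (L' x) = x) (hi : ∀ x y, f (L x) (L y) = f x y) :
    ∃ g ∈ isoF f, ∀ x, (g : A1) *ᵥ x = L x := by
  have h : LinearMap.toMatrix' L * LinearMap.toMatrix' L' = 1 := by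
    rw [← LinearMap.toMatrix'_comp, show L.comp L' = LinearMap.id from LinearMap.ext hL, LinearMap.toMatrix'_id]
  refine ⟨⟨LinearMap.toMatrix' L, LinearMap.toMatrix' L', h, mul_eq_one_comm.1 h⟩, fun x y => ?_,
    fun x => LinearMap.toMatrix'_mulVec L x⟩
  show f (LinearMap.toMatrix' L *ᵥ x) (LinearMap.toMatrix' L *ᵥ y) = _
  rw [LinearMap.toMatrix'_mulVec, LinearMap.toMatrix'_mulVec, hi]

/-- An isometry of a frame with scalar multipliers. -/
theorem exists_torus (hf : Sym f) (Fm : Fr f v v') {l : F} (hl : l ≠ 0) :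
    ∃ g ∈ isoF f, (g : A1) *ᵥ v = l • v ∧ (g : A1) *ᵥ v' = l⁻¹ • v' ∧
      ∀ z, Per f v v' z → (g : A1) *ᵥ z = z := by
  let T : F → W1 →ₗ[F] W1 := fun a =>
    { toFun := fun w => w + ((a - 1) * f w v') • v + ((a⁻¹ - 1) * f w v) • v'
      map_add' := fun x y => by simp only [hf.addL]; module
      map_smul' := fun c x => by simp only [hf.smulL, RingHom.id_apply]; module }
  obtain ⟨g, hg, hgx⟩ := exists_isoF_of (f := f) (L := T l) (L' := T l⁻¹) (fun x => by
      simp only [T, LinearMap.coe_mk, AddHom.coe_mk, hf.addL, hf.smulL, Fm.vv, Fm.v'v', Fm.pair, Fm.pair' hf,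
        inv_inv]
      match_scalars <;> field_simp <;> ring)
    (fun x y => by
      simp only [T, LinearMap.coe_mk, AddHom.coe_mk, hf.addL, hf.addR, hf.smulL, hf.smulR, Fm.vv, Fm.v'v',
        Fm.pair, Fm.pair' hf, hf.comm y v, hf.comm y v']
      field_simp
      ring)
  refine ⟨g, hg, ?_, ?_, fun z hz => ?_⟩
  · rw [hgx]; simp only [T, LinearMap.coe_mk, AddHom.coe_mk, Fm.vv, Fm.pair]; module
  · rw [hgx]; simp only [T, LinearMap.coe_mk, AddHom.coe_mk, Fm.v'v', Fm.pair' hf]; module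
  · rw [hgx]; simp only [T, LinearMap.coe_mk, AddHom.coe_mk, hz.1, hz.2]; module

/-- A quarter turn in a plane spanned by orthogonal vectors of the same value. -/
theorem exists_turn (hf : Sym f) {y y' : W1} (hyy : f y y ≠ 0) (heq : f y' y' = f y y) (horth : f y' y = 0) :
    ∃ g ∈ isoF f, (g : A1) *ᵥ y = y' ∧ (g : A1) *ᵥ y' = -y ∧
      ∀ z, f z y = 0 → f z y' = 0 → (g : A1) *ᵥ z = z := by
  set a := f y y with ha
  let T : W1 → W1 → W1 →ₗ[F] W1 := fun p p' =>
    { toFun := fun w => w + (f w p / a) • (p' - p) + (f w p' / a) • (-p - p')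
      map_add' := fun x z => by simp only [hf.addL, add_div]; module
      map_smul' := fun c x => by simp only [hf.smulL, RingHom.id_apply, mul_div_assoc]; module }
  have horth' : f y y' = 0 := by rw [hf.comm]; exact horth
  obtain ⟨g, hg, hgx⟩ := exists_isoF_of (f := f) (L := T y y') (L' := T y' y) (fun x => by
      simp only [T, LinearMap.coe_mk, AddHom.coe_mk, hf.addL, hf.smulL, hf.subL, hf.negL, ← ha, heq, horth, horth']
      match_scalars <;> field_simp <;> ring)
    (fun x z => by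
      simp only [T, LinearMap.coe_mk, AddHom.coe_mk, hf.addL, hf.addR, hf.smulL, hf.smulR, hf.subL, hf.subR,
        hf.negL, hf.negR, ← ha, heq, horth, horth', hf.comm z y, hf.comm z y']
      field_simp
      ring)
  refine ⟨g, hg, ?_, ?_, fun z h1 h2 => ?_⟩
  · rw [hgx]; simp only [T, LinearMap.coe_mk, AddHom.coe_mk, ← ha, horth']
    match_scalars <;> field_simp <;> ring
  · rw [hgx]; simp only [T, LinearMap.coe_mk, AddHom.coe_mk, heq, horth]
    match_scalars <;> field_simp <;> ring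
  · rw [hgx]; simp only [T, LinearMap.coe_mk, AddHom.coe_mk, h1, h2, zero_div]; module

/-- An orthogonal companion of the same value, over a field whose non-zero squares are one. -/
theorem exists_companion [Finite F] (P : Par f) (Fm : Fr f v v') (hsq : ∀ c : F, c ≠ 0 → c * c = 1)
    {y : W1} (hy : Per f v v' y) (hyy : f y y ≠ 0) :
    ∃ y', Per f v v' y' ∧ f y' y' = f y y ∧ f y' y = 0 := by
  have hf := P.sym
  have hk : 4 ≤ k := P.big.resolve_left fun ⟨c, hc, hc1⟩ => hc1 (hsq c hc)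
  obtain ⟨z, hz, hzs⟩ := hf.exists_perp (⊥ : Submodule F W1) ![v, v', y] (by rw [finrank_bot]; omega)
  have hzv : f z v = 0 := hzs 0
  have hzv' : f z v' = 0 := hzs 1
  have hzy : f z y = 0 := hzs 2
  have hv := Fm.ne hf
  have hproj : ∀ {w : W1}, f w y = 0 → f w v = 0 → f w v' = 0 → w ∈ Submodule.span F (Set.range ![v, v', y]) →
      w = 0 := by
    intro w h1 h2 h3 hw
    obtain ⟨co, hco⟩ := (Submodule.mem_span_range_iff_exists_fun F).1 hw
    simp only [Fin.sum_univ_three, Matrix.cons_val_zero, Matrix.cons_val_one, Matrix.cons_val_two,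
      Matrix.tail_cons, Matrix.head_cons] at hco
    rw [← hco] at h1 h2 h3
    simp [hf.addL, hf.smulL, hf.comm y v, hy.1, hf.comm y v', hy.2, hyy] at h1
    simp [hf.addL, hf.smulL, Fm.vv, Fm.pair' hf, hy.1, h1] at h2
    simp [hf.addL, hf.smulL, Fm.v'v', Fm.pair, hy.2, h1] at h3
    rw [← hco, h1, h2, h3]; module
  have hz0 : z ≠ 0 := fun e => hz (by rw [e]; exact Submodule.zero_mem _)
  obtain ⟨p, hp, hpp⟩ := hf.exists_aniso ![v, v', y] hzs fun e => hz0 (hproj hzy hzv hzv' e)
  have hpy : f p y = 0 := hp 2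
  by_cases heq : f p p = f y y
  · exact ⟨p, ⟨hp 0, hp 1⟩, heq, hpy⟩
  have hneg : f p p = -f y y := by
    rcases mul_self_eq_mul_self_iff.1 ((hsq _ hpp).trans (hsq _ hyy).symm) with h | h
    · exact absurd h heq
    · exact h
  by_cases h4 : k = 4
  · exfalso
    have hs : f (y + p) (y + p) = 0 := by
      rw [hf.addL, hf.addR, hf.addR, hpy, hf.comm p y, hpy, hneg]; ring
    have hsv : f (y + p) v = 0 := by rw [hf.addL, hy.1, show f p v = 0 from hp 0, add_zero]
    obtain ⟨c, hc⟩ := Submodule.mem_span_singleton.1 (P.four h4 v _ hv Fm.vv hs hsv)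
    have h2 := congrArg (fun w => f w y) hc
    simp only [hf.smulL, hf.addL, hpy, hf.comm y v, hy.1, mul_zero, add_zero] at h2
    exact hyy h2.symm
  obtain ⟨z2, hz2, hz2s⟩ := hf.exists_perp (⊥ : Submodule F W1) ![v, v', y, p] (by rw [finrank_bot]; omega)
  have hz2v : f z2 v = 0 := hz2s 0
  have hz2v' : f z2 v' = 0 := hz2s 1
  have hz2y : f z2 y = 0 := hz2s 2
  have hz2p : f z2 p = 0 := hz2s 3
  obtain ⟨p', hp', hp'p'⟩ := hf.exists_aniso ![v, v', y, p] hz2s fun e => hz2 (by
    have : z2 = 0 := by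
      obtain ⟨co, hco⟩ := (Submodule.mem_span_range_iff_exists_fun F).1 e
      simp only [Fin.sum_univ_four, Matrix.cons_val_zero, Matrix.cons_val_one, Matrix.cons_val_two,
        Matrix.cons_val_three, Matrix.tail_cons, Matrix.head_cons] at hco
      rw [← hco] at hz2y hz2v hz2v' hz2p
      simp [hf.addL, hf.smulL, hf.comm y v, hy.1, hf.comm y v', hy.2, hpy, hyy] at hz2y
      simp [hf.addL, hf.smulL, hf.comm p v, show f p v = 0 from hp 0, hf.comm p v', show f p v' = 0 from hp 1,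
        hf.comm p y, hpy, hpp] at hz2p
      simp [hf.addL, hf.smulL, Fm.vv, Fm.pair' hf, hy.1, hz2y, hz2p] at hz2v
      simp [hf.addL, hf.smulL, Fm.v'v', Fm.pair, hy.2, hz2y, hz2p] at hz2v'
      rw [← hco, hz2y, hz2p, hz2v, hz2v']; module
    rw [this]; exact Submodule.zero_mem _)
  obtain ⟨a, b, hab⟩ := Cfsg.Agent.Lib.Subspaces.UnitaryForm.exists_quad_root (-f y y) (f p p) (f p' p') hpp hp'p'
  have hp'p : f p' p = 0 := hp' 3
  refine ⟨a • p + b • p', per_add hf (per_smul hf a ⟨hp 0, hp 1⟩) (per_smul hf b ⟨hp' 0, hp' 1⟩), ?_, ?_⟩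
  · simp only [hf.addL, hf.addR, hf.smulL, hf.smulR, hp'p, hf.comm p' p]
    linear_combination hab
  · rw [hf.addL, hf.smulL, hf.smulL, hpy, show f p' y = 0 from hp' 2, mul_zero, mul_zero, add_zero]

/-- An isometry fixing the lines of a frame and one further line, whose square separates weights. -/
theorem exists_killer [Finite F] (P : Par f) (Fm : Fr f v v') {y : W1} (hy : Per f v v' y) (hyy : f y y ≠ 0) :
    ∃ s ∈ isoF f, ∃ c d : F, c ≠ 0 ∧ ((s * s : GL (Fin k) F) : A1) *ᵥ v = c • v ∧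
      ((s * s : GL (Fin k) F) : A1) *ᵥ v' = c⁻¹ • v' ∧
      (∀ z, Per f v v' z → Per f v v' (((s * s : GL (Fin k) F) : A1) *ᵥ z)) ∧
      ((s * s : GL (Fin k) F) : A1) *ᵥ y = d • y ∧ c * d ≠ 1 ∧ d ≠ c := by
  have hf := P.sym
  by_cases hc : ∃ c : F, c ≠ 0 ∧ c * c ≠ 1
  · obtain ⟨l, hl, hl1⟩ := hc
    obtain ⟨s, hs, h1, h2, h3⟩ := exists_torus hf Fm hl
    refine ⟨s, hs, l * l, 1, mul_ne_zero hl hl, ?_, ?_, fun z hz => ?_, ?_, by rwa [mul_one], Ne.symm hl1⟩
    · rw [gl_mul_mulVec, h1, mulVec_smul, h1, smul_smul]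
    · rw [gl_mul_mulVec, h2, mulVec_smul, h2, smul_smul, _root_.mul_inv_rev]
    · rw [gl_mul_mulVec, h3 z hz, h3 z hz]; exact hz
    · rw [gl_mul_mulVec, h3 y hy, h3 y hy, one_smul]
  push Not at hc
  obtain ⟨y', hy', heq, horth⟩ := exists_companion P Fm hc hy hyy
  obtain ⟨s, hs, h1, h2, h3⟩ := exists_turn hf hyy heq horth
  have hv : (s : A1) *ᵥ v = v := h3 v (by rw [hf.comm]; exact hy.1) (by rw [hf.comm]; exact hy'.1)
  have hv' : (s : A1) *ᵥ v' = v' := h3 v' (by rw [hf.comm]; exact hy.2) (by rw [hf.comm]; exact hy'.2)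
  have hss := (isoF f).mul_mem hs hs
  have hsv : ((s * s : GL (Fin k) F) : A1) *ᵥ v = v := by rw [gl_mul_mulVec, hv, hv]
  have hsv' : ((s * s : GL (Fin k) F) : A1) *ᵥ v' = v' := by rw [gl_mul_mulVec, hv', hv']
  have hne : (-1 : F) ≠ 1 := fun e => hf.two (by linear_combination -e)
  refine ⟨s, hs, 1, -1, one_ne_zero, by rw [one_smul, hsv], by rw [inv_one, one_smul, hsv'], fun z hz => ⟨?_, ?_⟩,
    by rw [gl_mul_mulVec, h1, h2, neg_one_smul], by rwa [one_mul], hne⟩
  · rw [← hsv, hss]; exact hz.1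
  · rw [← hsv', hss]; exact hz.2

/-- A family of one or two root directions without isotropic vectors, large enough for degree four. -/
theorem exists_family [Fintype F] (P : Par f) (Fm : Fr f v v') :
    ∃ (d : ℕ) (z : Fin d → W1), (∀ i, Per f v v' (z i)) ∧ 4 ≤ (Fintype.card F - 1) * d ∧
      ∀ γ : Fin d → F, γ ≠ 0 → f (∑ i, γ i • z i) (∑ i, γ i • z i) ≠ 0 := by
  classical
  have hf := P.sym
  obtain ⟨y, hy, hyy⟩ := exists_aniso P Fm
  by_cases hc : ∃ c : F, c ≠ 0 ∧ c * c ≠ 1
  · refine ⟨1, fun _ => y, fun _ => hy, ?_, fun γ hγ => ?_⟩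
    · obtain ⟨c, hc0, hc1⟩ := hc
      have h5 : ({0, 1, -1, c, -c} : Finset F).card = 5 := by
        have h2 := hf.two
        have e1 : (1 : F) ≠ -1 := fun e => h2 (by linear_combination e)
        have e2 : c ≠ 1 := fun e => hc1 (by rw [e, one_mul])
        have e3 : c ≠ -1 := fun e => hc1 (by rw [e]; ring)
        have e4 : c ≠ -c := fun e => hc0 ((mul_eq_zero.1 (show (2 : F) * c = 0 by linear_combination e)).resolve_left h2)
        have e5 : (1 : F) ≠ -c := fun e => e3 (by linear_combination e)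
        have e6 : (-1 : F) ≠ -c := fun e => e2 (by linear_combination e)
        rw [Finset.card_insert_of_notMem (by simp [Ne.symm hc0, hc0]),
          Finset.card_insert_of_notMem (by simp [e1, Ne.symm e2, e5]),
          Finset.card_insert_of_notMem (by simp [Ne.symm e3, e6]),
          Finset.card_insert_of_notMem (by simp [e4]), Finset.card_singleton]
      have := Finset.card_le_univ ({0, 1, -1, c, -c} : Finset F)
      omega
    · rw [Fin.sum_univ_one, hf.smulL, hf.smulR]
      have : γ 0 ≠ 0 := fun e => hγ (funext fun i => by fin_cases i; exact e)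
      exact mul_ne_zero this (mul_ne_zero this hyy)
  push Not at hc
  obtain ⟨y', hy', heq, horth⟩ := exists_companion P Fm hc hy hyy
  refine ⟨2, ![y, y'], fun i => by fin_cases i <;> assumption, ?_, fun γ hγ => ?_⟩
  · have h2 := hf.two
    have h3 : ({0, 1, -1} : Finset F).card = 3 := by
      have e1 : (1 : F) ≠ -1 := fun e => h2 (by linear_combination e)
      rw [Finset.card_insert_of_notMem (by simp), Finset.card_insert_of_notMem (by simp [e1]),
        Finset.card_singleton]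
    have := Finset.card_le_univ ({0, 1, -1} : Finset F)
    omega
  intro h
  rw [Fin.sum_univ_two] at h
  simp only [Matrix.cons_val_zero, Matrix.cons_val_one, hf.addL, hf.addR, hf.smulL, hf.smulR, horth,
    hf.comm y' y, heq] at h
  have h' : (γ 0 * γ 0 + γ 1 * γ 1) * f y y = 0 := by linear_combination h
  have h'' := (mul_eq_zero.1 h').resolve_right hyy
  by_cases h0 : γ 0 = 0
  · rw [h0, zero_mul, zero_add, mul_self_eq_zero] at h''
    exact hγ (funext fun i => by fin_cases i <;> assumption)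
  by_cases h1 : γ 1 = 0
  · rw [h1, zero_mul, add_zero, mul_self_eq_zero] at h''
    exact h0 h''
  rw [hc _ h0, hc _ h1] at h''
  exact hf.two (by linear_combination h'')

end Cfsg.Agent.Lib.TensorPowerOrth.Frame
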