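import Cfsg.Agent.Lib.TensorPowerOrth.Perm
import Mathlib.LinearAlgebra.Matrix.Charpoly.Coeff

/-!
A conjugate of an Eichler element of one factor lying in the stabiliser acts on one factor only: the
permutation is trivial, and the rank, or the quadratic dependence on the parameter, leaves one factor.
-/

set_option autoImplicit false
set_option linter.unusedSectionVars false
set_option linter.style.haveILetI false

namespace Cfsg.Agent.Lib.TensorPowerOrth.Fusion

open Matrix Kronecker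
open Cfsg.Agent.Lib.Subspaces.Transvection Cfsg.Agent.Lib.Subspaces.FormVec
  Cfsg.Agent.Lib.TensorPowerMax.Basic Cfsg.Agent.Lib.TensorOrthMax.Side Cfsg.Agent.Lib.TensorOrthMax.Setup
  Cfsg.Agent.Lib.TensorPowerOrth.Form Cfsg.Agent.Lib.TensorPowerOrth.Frame Cfsg.Agent.Lib.TensorPowerOrth.Roots
  Cfsg.Agent.Lib.TensorPowerOrth.Perm

variable {ι : Type} [Fintype ι] [DecidableEq ι] {k : ℕ} {F : Type*} [Field F]

local notation "A1" => Matrix (Fin k) (Fin k) F
local notation "Big" => Matrix (ι → Fin k) (ι → Fin k) F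
local notation "GG" => GL (ι → Fin k) F
local notation "G1" => GL (Fin k) F
local notation "W1" => Fin k → F

/-! ### ranks -/

theorem ctr_kron {α : Type} [Fintype α] (a : Matrix α α F) (b : A1) (φ : W1) (z : α × Fin k → F) :
    TensorPowerMax.Side.ctr φ ((a ⊗ₖ b) *ᵥ z) = a *ᵥ TensorPowerMax.Side.ctr (φ ᵥ* b) z := by
  ext i
  simp only [TensorPowerMax.Side.ctr, mulVec, vecMul, dotProduct, kroneckerMap_apply, Fintype.sum_prod_type,
    Finset.mul_sum, Finset.sum_mul]
  rw [Finset.sum_comm]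
  refine Finset.sum_congr rfl fun i' _ => ?_
  rw [Finset.sum_comm]
  exact Finset.sum_congr rfl fun c _ => Finset.sum_congr rfl fun d _ => by ring

/-- The rank of the displacement of a product of two unipotent elements. -/
theorem rank_prod {α : Type} [Fintype α] [DecidableEq α] {A : Matrix α α F} {B : A1} (hA : A ≠ 0) {n : ℕ}
    (hAn : A ^ n = 0) (hBn : B ^ n = 0) (hr : 2 ≤ B.rank) (hk : 4 ≤ k) (hr2 : 5 ≤ k ∨ B * B ≠ 0) :
    2 * Fintype.card α < ((1 + A) ⊗ₖ (1 + B) - 1).rank := by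
  classical
  set a := 1 + A with ha
  set b := 1 + B with hb
  have hunit : IsUnit a := IsNilpotent.isUnit_one_add ⟨n, hAn⟩
  have hainj := Matrix.mulVec_injective_iff_isUnit.2 hunit
  set X := a ⊗ₖ b - 1
  set K : Submodule F (α × Fin k → F) := LinearMap.ker X.mulVecLin
  have hfix : ∀ z ∈ K, ∀ φ : W1, TensorPowerMax.Side.ctr φ z = a *ᵥ TensorPowerMax.Side.ctr (φ ᵥ* b) z := by
    intro z hz φ
    have h : X *ᵥ z = 0 := hz
    rw [sub_mulVec, one_mulVec, sub_eq_zero] at h
    conv_lhs => rw [← h]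
    exact ctr_kron a b φ z
  set R : Submodule F W1 := LinearMap.range Bᵀ.mulVecLin
  have hR : Module.finrank F R = B.rank := B.rank_transpose
  obtain ⟨φ0, hφ0, C, hC, hspan⟩ : ∃ (φ0 : W1), φ0 ᵥ* B = 0 ∧ ∃ C : Submodule F W1,
      (Module.finrank F C + 2 < k ∨ (φ0 ≠ 0 ∧ Module.finrank F C + 3 ≤ k)) ∧
      R ⊔ (Submodule.span F {φ0} ⊔ C) = ⊤ := by
    rcases Nat.lt_or_ge 2 B.rank with h3 | h2
    · obtain ⟨C, hC⟩ := R.exists_isCompl
      refine ⟨0, zero_vecMul _, C, Or.inl ?_, ?_⟩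
      · have := Submodule.finrank_add_eq_of_isCompl hC
        rw [hR, Module.finrank_fin_fun] at this
        omega
      · rw [Submodule.span_singleton_eq_bot.2 rfl, bot_sup_eq]; exact hC.sup_eq_top
    obtain ⟨φ0, hφ0, hφ0R⟩ : ∃ φ0, φ0 ∈ LinearMap.ker Bᵀ.mulVecLin ∧ φ0 ∉ R := by
      by_contra hc
      push Not at hc
      have hle : LinearMap.ker Bᵀ.mulVecLin ≤ R := hc
      have hd := LinearMap.finrank_range_add_finrank_ker Bᵀ.mulVecLin
      rw [Module.finrank_fin_fun] at hd
      have hd' : Module.finrank F R + Module.finrank F (LinearMap.ker Bᵀ.mulVecLin) = k := hd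
      have hle' := Submodule.finrank_mono hle
      rcases hr2 with h5 | hBB
      · omega
      have heq : LinearMap.ker Bᵀ.mulVecLin = R := Submodule.eq_of_le_of_finrank_le hle (by omega)
      refine hBB ?_
      have h0 : Bᵀ * Bᵀ = 0 := Matrix.mulVec_injective (funext fun u => by
        rw [← mulVec_mulVec, zero_mulVec]
        have hu : Bᵀ *ᵥ u ∈ LinearMap.ker Bᵀ.mulVecLin := heq ▸ (⟨u, rfl⟩ : Bᵀ *ᵥ u ∈ R)
        exact hu)
      rw [← transpose_mul] at h0
      exact transpose_eq_zero.1 h0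
    obtain ⟨C, hC⟩ := (R ⊔ Submodule.span F {φ0}).exists_isCompl
    refine ⟨φ0, ?_, C, Or.inr ⟨fun e => hφ0R (e ▸ R.zero_mem), ?_⟩, ?_⟩
    · rw [← mulVec_transpose]; exact hφ0
    · have := Submodule.finrank_add_eq_of_isCompl hC
      rw [Module.finrank_fin_fun, Submodule.finrank_sup_span_singleton hφ0R, hR] at this
      omega
    · rw [← sup_assoc]; exact hC.sup_eq_top
  set c := Module.finrank F C
  let bC := Module.finBasis F C
  let kerA : Submodule F (α → F) := LinearMap.ker A.mulVecLin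
  have hφb : φ0 ᵥ* b = φ0 := by rw [hb, vecMul_add, vecMul_one, hφ0, add_zero]
  have hctr0 : ∀ z ∈ K, TensorPowerMax.Side.ctr φ0 z ∈ kerA := by
    intro z hz
    have h := hfix z hz φ0
    rw [hφb, ha, add_mulVec, one_mulVec, eq_comm, add_eq_left] at h
    exact h
  let ctrL : W1 → ((α × Fin k → F) →ₗ[F] (α → F)) := fun φ =>
    { toFun := TensorPowerMax.Side.ctr φ
      map_add' := fun x y => by ext i; simp [TensorPowerMax.Side.ctr, mul_add, Finset.sum_add_distrib]
      map_smul' := fun t x => by ext i; simp [TensorPowerMax.Side.ctr, Finset.mul_sum, mul_left_comm] }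
  let L : K →ₗ[F] kerA × (Fin c → α → F) :=
    (LinearMap.codRestrict kerA ((ctrL φ0).comp K.subtype) fun z => hctr0 z.1 z.2).prod
      (LinearMap.pi fun i => (ctrL (bC i : W1)).comp K.subtype)
  have hinj : Function.Injective L := by
    rw [injective_iff_map_eq_zero]
    rintro ⟨z, hz⟩ hL
    have h0 : TensorPowerMax.Side.ctr φ0 z = 0 := congrArg (fun p : kerA × _ => (p.1 : α → F)) hL
    have h1 : ∀ i, TensorPowerMax.Side.ctr (bC i : W1) z = 0 := fun i =>
      congrArg (fun p : kerA × (Fin c → α → F) => p.2 i) hL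
    let Φ : Submodule F W1 :=
      { carrier := {φ | TensorPowerMax.Side.ctr φ z = 0}
        zero_mem' := by ext i; simp [TensorPowerMax.Side.ctr]
        add_mem' := fun {x y} (hx : _ = 0) (hy : _ = 0) => by
          show TensorPowerMax.Side.ctr (x + y) z = 0
          have : TensorPowerMax.Side.ctr (x + y) z = TensorPowerMax.Side.ctr x z + TensorPowerMax.Side.ctr y z := by
            ext i; simp [TensorPowerMax.Side.ctr, add_mul, Finset.sum_add_distrib]
          rw [this, hx, hy, add_zero]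
        smul_mem' := fun t x (hx : _ = 0) => by
          show TensorPowerMax.Side.ctr (t • x) z = 0
          have : TensorPowerMax.Side.ctr (t • x) z = t • TensorPowerMax.Side.ctr x z := by
            ext i; simp [TensorPowerMax.Side.ctr, Finset.mul_sum, mul_assoc]
          rw [this, hx, smul_zero] }
    have hΦB : ∀ φ ∈ Φ, φ ᵥ* B ∈ Φ := by
      intro φ hφ
      have h := hfix z hz φ
      rw [show TensorPowerMax.Side.ctr φ z = 0 from hφ] at h
      have h2 : φ ᵥ* b ∈ Φ := hainj (h.symm.trans (mulVec_zero a).symm)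
      have := Φ.sub_mem h2 hφ
      rwa [hb, vecMul_add, vecMul_one, add_sub_cancel_left] at this
    have hΦC : Submodule.span F {φ0} ⊔ C ≤ Φ := by
      refine sup_le (Submodule.span_le.2 (Set.singleton_subset_iff.2 h0)) fun x hx => ?_
      have hsum := congrArg Subtype.val (bC.sum_repr ⟨x, hx⟩)
      simp only [Submodule.coe_sum, Submodule.coe_smul] at hsum
      rw [← hsum]
      exact Φ.sum_mem fun i _ => Φ.smul_mem _ (h1 i)
    have hall : ∀ (i : ℕ) (φ : W1), φ ᵥ* B ^ (n - i) ∈ Φ := by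
      intro i
      induction i with
      | zero => intro φ; rw [Nat.sub_zero, hBn, vecMul_zero]; exact Φ.zero_mem
      | succ i ih =>
        intro φ
        rcases Nat.lt_or_ge i n with hlt | hge
        swap
        · rw [Nat.sub_eq_zero_of_le (by omega)]; have := ih φ; rwa [Nat.sub_eq_zero_of_le hge] at this
        have hiter : ∀ (e : ℕ) (x : W1), x ∈ Φ → x ᵥ* B ^ e ∈ Φ := by
          intro e
          induction e with
          | zero => intro x hx; rwa [pow_zero, vecMul_one]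
          | succ e ihe => intro x hx; rw [pow_succ, ← vecMul_vecMul]; exact hΦB _ (ihe x hx)
        obtain ⟨_, ⟨w, rfl⟩, y, hy, hwy⟩ := Submodule.mem_sup.1
          (hspan.ge (Submodule.mem_top (x := φ)))
        rw [← hwy, add_vecMul]
        refine Φ.add_mem ?_ (hiter _ y (hΦC hy))
        show (Bᵀ.mulVecLin w) ᵥ* B ^ (n - (i + 1)) ∈ Φ
        rw [Matrix.mulVecLin_apply, mulVec_transpose, vecMul_vecMul, ← pow_succ', show n - (i + 1) + 1 = n - i by omega]
        exact ih w
    have htop : ∀ φ : W1, TensorPowerMax.Side.ctr φ z = 0 := fun φ => by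
      have := hall n φ
      rwa [Nat.sub_self, pow_zero, vecMul_one] at this
    ext ⟨i, d⟩
    have := congrFun (htop (Pi.single d 1)) i
    simpa [TensorPowerMax.Side.ctr, Pi.single_apply] using this
  have hdim := LinearMap.finrank_le_finrank_of_injective hinj
  rw [Module.finrank_prod, Module.finrank_pi_fintype, Finset.sum_const, Finset.card_univ, Fintype.card_fin,
    Module.finrank_fintype_fun_eq_card, smul_eq_mul] at hdim
  have hkA : Module.finrank F kerA < Fintype.card α := by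
    rw [← Module.finrank_fintype_fun_eq_card (R := F)]
    refine Submodule.finrank_lt fun htop => hA (Matrix.mulVec_injective (funext fun u => ?_))
    rw [zero_mulVec]
    exact (htop.ge (Submodule.mem_top (x := u)) : u ∈ kerA)
  have htot := LinearMap.finrank_range_add_finrank_ker X.mulVecLin
  rw [Module.finrank_fintype_fun_eq_card, Fintype.card_prod, Fintype.card_fin] at htot
  change X.rank + Module.finrank F K = _ at htot
  rcases hC with hC | ⟨-, hC⟩
  · have h1 : c * Fintype.card α + 3 * Fintype.card α ≤ Fintype.card α * k := by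
      rw [← add_mul, mul_comm _ k]; exact Nat.mul_le_mul_right _ (by omega)
    omega
  · have h1 : c * Fintype.card α + 3 * Fintype.card α ≤ Fintype.card α * k := by
      rw [← add_mul, mul_comm _ k]; exact Nat.mul_le_mul_right _ hC
    omega

/-- In characteristic `p` the power of a displacement is the displacement of the power. -/
theorem sub_one_pow_char {R : Type*} [Ring R] [Algebra F R] (p : ℕ) [Fact p.Prime] [CharP F p] (X : R) :
    (X - 1) ^ p = X ^ p - 1 := by
  have h := congrArg (Polynomial.aeval X) (sub_pow_char (p := p) (Polynomial.X : Polynomial F) 1)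
  simpa using h

/-! ### pure tensors of unipotent isometries -/

theorem pt_smul_prod (d : ι → F) (a : ι → A1) : pt (fun i => d i • a i) = (∏ i, d i) • pt a := by
  ext x y
  simp only [pt_apply, Matrix.smul_apply, smul_eq_mul, Finset.prod_mul_distrib]

theorem pt_pow (a : ι → A1) (n : ℕ) : pt a ^ n = pt fun i => a i ^ n := by
  induction n with
  | zero => rw [pow_zero, ← pt_one]; congr 1
  | succ n ih => rw [pow_succ, ih, pt_mul]; congr 1

variable {f : (Fin k → F) → (Fin k → F) → F}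

/-- A base element of order `p` is a product of unipotent isometries. -/
theorem normalise [Finite F] (P : Par f) {p : ℕ} [Fact p.Prime] [CharP F p] {a : ι → G1}
    (hiso : ptGL a ∈ isoB ι f) (hp : (ptGL a : GG) ^ p = 1) :
    ∃ b : ι → G1, ptGL b = ptGL (F := F) a ∧ ∀ i, b i ∈ isoF f ∧ (b i : A1) ^ p = 1 := by
  classical
  have hk := P.hk
  haveI : ExpChar F p := ExpChar.prime Fact.out
  have h1 : pt (fun i => (a i : A1) ^ p) = (1 : F) • (1 : Big) := by
    rw [← pt_pow, one_smul, ← coe_ptGL, ← Units.val_pow_eq_pow_val, hp, Units.val_one]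
  have hd0 : ∀ i, ∃ d : F, (a i : A1) ^ p = d • 1 := fun i => by
    obtain ⟨d, hd⟩ := scalar_factor (a := fun i => a i ^ p) (c := 1)
      (by simpa only [Units.val_pow_eq_pow_val] using h1) i
    exact ⟨d, by rw [← Units.val_pow_eq_pow_val, hd]⟩
  choose d hd using hd0
  have hne : ∀ i, d i ≠ 0 := fun i e => by
    have h := Units.val_pow_eq_pow_val (a i) p
    rw [hd i, e, zero_smul] at h
    have := congrArg (fun X : A1 => X *ᵥ (Pi.single ⟨0, by omega⟩ 1 : W1)) h
    rw [zero_mulVec] at this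
    exact gl_ne_zero (a i ^ p) (by simp : (Pi.single ⟨0, by omega⟩ 1 : W1) ≠ 0) this
  have hprod : ∏ i, d i = 1 := by
    rw [show (fun i => (a i : A1) ^ p) = fun i => d i • (1 : A1) from funext hd, pt_smul_prod,
      show pt (fun _ : ι => (1 : A1)) = 1 from pt_one] at h1
    haveI : Nonempty (ι → Fin k) := ⟨fun _ => ⟨0, by omega⟩⟩
    have := congrFun (congrFun h1 (Classical.arbitrary _)) (Classical.arbitrary (ι → Fin k))
    simpa using this
  choose μ hμ using fun i => (bijective_frobenius F p).2 (d i)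
  simp only [frobenius_def] at hμ
  have hμ0 : ∀ i, μ i ≠ 0 := fun i e => hne i (by rw [← hμ i, e, zero_pow (Fact.out : p.Prime).ne_zero])
  have hμ1 : ∏ i, μ i = 1 := frobenius_inj F p (by
    rw [frobenius_def, frobenius_def, one_pow, ← Finset.prod_pow, ← hprod]
    exact Finset.prod_congr rfl fun i _ => hμ i)
  let b : ι → G1 := fun i => ⟨(μ i)⁻¹ • (a i : A1), μ i • ((a i)⁻¹ : G1).val,
    by rw [smul_mul_smul_comm, inv_mul_cancel₀ (hμ0 i), ← Units.val_mul, mul_inv_cancel, Units.val_one, one_smul],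
    by rw [smul_mul_smul_comm, mul_inv_cancel₀ (hμ0 i), ← Units.val_mul, inv_mul_cancel, Units.val_one, one_smul]⟩
  have heq : ptGL b = ptGL (F := F) a := Units.ext (by
    rw [coe_ptGL, coe_ptGL]
    show pt (fun i => (μ i)⁻¹ • (a i : A1)) = _
    rw [pt_smul_prod, Finset.prod_inv_distrib, hμ1, inv_one, one_smul])
  have hpow : ∀ i, (b i : A1) ^ p = 1 := fun i => by
    show ((μ i)⁻¹ • (a i : A1)) ^ p = 1
    rw [smul_pow, hd, inv_pow, hμ, smul_smul, inv_mul_cancel₀ (hne i), one_smul]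
  obtain ⟨c, -, hc⟩ := similitudes P.sym (a := b) (π := 1) (by rw [map_one, mul_one, heq]; exact hiso) (by omega)
  refine ⟨b, heq, fun i => ⟨?_, hpow i⟩⟩
  have hit : ∀ (n : ℕ) x y, f ((b i : A1) ^ n *ᵥ x) ((b i : A1) ^ n *ᵥ y) = c i ^ n * f x y := fun n => by
    induction n with
    | zero => simp
    | succ n ih =>
      intro x y
      rw [pow_succ', ← mulVec_mulVec, ← mulVec_mulVec, hc, ih, pow_succ', mul_assoc]
  have hci : c i = 1 := by
    obtain ⟨v, v', Fm⟩ := exists_frame P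
    have h := hit p v v'
    rw [hpow i, one_mulVec, one_mulVec, Fm.pair, mul_one] at h
    exact frobenius_inj F p (by rw [frobenius_def, frobenius_def, one_pow]; exact h.symm)
  intro x y
  rw [hc, hci, one_mul]

section unipotent

variable (hf : Sym f) {g : GL (Fin k) F}

theorem disp_pow {p : ℕ} [Fact p.Prime] [CharP F p] (hp : (g : A1) ^ p = 1) : ((g : A1) - 1) ^ p = 0 := by
  rw [sub_one_pow_char (F := F), hp, sub_self]

include hf

theorem disp_iso (hg : g ∈ isoF f) (x y : W1) :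
    f (((g : A1) - 1) *ᵥ x) y + f x (((g : A1) - 1) *ᵥ y) + f (((g : A1) - 1) *ᵥ x) (((g : A1) - 1) *ᵥ y) = 0 := by
  have := hg x y
  simp only [sub_mulVec, one_mulVec, hf.subL, hf.subR]
  linear_combination this

/-- In dimension four, the square of the displacement of a non-trivial unipotent isometry is not zero. -/
theorem sq_ne_four [Finite F] (P : Par f) (h4 : k = 4) (hg : g ∈ isoF f) (hn : ∃ n, ((g : A1) - 1) ^ n = 0)
    (hne : (g : A1) - 1 ≠ 0) : ((g : A1) - 1) * ((g : A1) - 1) ≠ 0 := by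
  set B := (g : A1) - 1 with hB
  intro hBB
  have hBB' : ∀ x, B *ᵥ (B *ᵥ x) = 0 := fun x => by rw [mulVec_mulVec, hBB, zero_mulVec]
  have hTI : ∀ x y, f (B *ᵥ x) (B *ᵥ y) = 0 := fun x y => by
    have h := disp_iso hf hg x (B *ᵥ y)
    rw [← hB, hBB', hf.zeroR, hf.zeroR, add_zero, add_zero] at h
    exact h
  obtain ⟨u, hu⟩ : ∃ u, B *ᵥ u ≠ 0 := by
    by_contra hc
    push Not at hc
    exact hne (Matrix.mulVec_injective (funext fun u => by rw [hc, zero_mulVec]))
  have hr := Cfsg.Agent.Lib.TensorOrthMax.Fusion.two_le_rank_orth hf (B := B) (fun x y => by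
    have := disp_iso hf hg x y
    rw [← hB] at this
    simp only [hf.addL, hf.addR]
    linear_combination this) hn hne
  have : ¬ LinearMap.range B.mulVecLin ≤ Submodule.span F {B *ᵥ u} := fun hle => by
    have h := Submodule.finrank_mono hle
    rw [finrank_span_singleton hu] at h
    omega
  obtain ⟨_, ⟨y, rfl⟩, hy⟩ := SetLike.not_le_iff_exists.1 this
  exact hy (P.four h4 _ _ hu (hTI u u) (hTI y y) (hTI y u))

variable {n : ℕ} (hn : n ≤ 3) (hg : g ∈ isoF f) (hB : ((g : Matrix (Fin k) (Fin k) F) - 1) ^ n = 0)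
include hn hg hB

theorem disp_cube : ∀ x, ((g : A1) - 1) *ᵥ (((g : A1) - 1) *ᵥ (((g : A1) - 1) *ᵥ x)) = 0 := fun x => by
  have h3 : ((g : A1) - 1) ^ 3 = 0 := pow_eq_zero_of_le hn hB
  rw [mulVec_mulVec, mulVec_mulVec, ← pow_three', h3, zero_mulVec]

theorem disp_adj (x y : W1) :
    f (((g : A1) - 1) *ᵥ (((g : A1) - 1) *ᵥ x)) y = f x (((g : A1) - 1) *ᵥ (((g : A1) - 1) *ᵥ y)) := by
  set B := (g : A1) - 1
  have h0 := disp_cube hf hn hg hB
  have a1 : f (B *ᵥ (B *ᵥ x)) y + f (B *ᵥ x) (B *ᵥ y) + f (B *ᵥ (B *ᵥ x)) (B *ᵥ y) = 0 := disp_iso hf hg _ _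
  have a2 : f (B *ᵥ x) (B *ᵥ y) + f x (B *ᵥ (B *ᵥ y)) + f (B *ᵥ x) (B *ᵥ (B *ᵥ y)) = 0 := disp_iso hf hg _ _
  have a3 := disp_iso hf hg (B *ᵥ (B *ᵥ x)) y
  have a4 := disp_iso hf hg x (B *ᵥ (B *ᵥ y))
  rw [h0, hf.zeroL, hf.zeroL, zero_add, add_zero] at a3
  rw [h0, hf.zeroR, hf.zeroR, add_zero, add_zero] at a4
  rw [a3, add_zero] at a1
  rw [a4, add_zero] at a2
  linear_combination a1 - a2

theorem disp_self (x : W1) :
    f (((g : A1) - 1) *ᵥ (((g : A1) - 1) *ᵥ x)) x = 2 * f (((g : A1) - 1) *ᵥ x) x := by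
  set B := (g : A1) - 1
  have h0 := disp_cube hf hn hg hB
  have a1 : f (B *ᵥ (B *ᵥ x)) x + f (B *ᵥ x) (B *ᵥ x) + f (B *ᵥ (B *ᵥ x)) (B *ᵥ x) = 0 := disp_iso hf hg _ _
  have a0 := disp_iso hf hg x x
  have a3 := disp_iso hf hg (B *ᵥ (B *ᵥ x)) x
  rw [h0, hf.zeroL, hf.zeroL, zero_add, add_zero] at a3
  rw [a3, add_zero] at a1
  rw [hf.comm (B *ᵥ x) x] at a0
  linear_combination a1 - a0

/-- The powers of a unipotent isometry at an isotropic vector. -/
theorem pow_self {x : W1} (hx : f x x = 0) :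
    f ((g : A1) *ᵥ x) x = f (((g : A1) - 1) *ᵥ x) x ∧
      f ((g : A1) *ᵥ ((g : A1) *ᵥ x)) x = 4 * f (((g : A1) - 1) *ᵥ x) x ∧
      f ((g : A1) *ᵥ ((g : A1) *ᵥ ((g : A1) *ᵥ x))) x = 9 * f (((g : A1) - 1) *ᵥ x) x := by
  have h := disp_self hf hn hg hB x
  have h0 := disp_cube hf hn hg hB x
  have h0' := congrArg (fun z => f z x) h0
  simp only [sub_mulVec, one_mulVec, mulVec_sub, hf.subL, hf.zeroL, hx] at h h0' ⊢
  exact ⟨by ring, by linear_combination h, by linear_combination h0' + 3 * h⟩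

end unipotent

/-- In dimension three: nilpotent displacements have cube zero and the line killed is one-dimensional. -/
theorem three_cube (hk : k = 3) {B : A1} {n : ℕ} (hB : B ^ n = 0) : B ^ 3 = 0 := by
  have h := (Matrix.isNilpotent_charpoly_sub_pow_of_isNilpotent (M := B) ⟨n, hB⟩).eq_zero
  rw [Fintype.card_fin, sub_eq_zero] at h
  have h2 := Matrix.aeval_self_charpoly B
  rw [h, map_pow, Polynomial.aeval_X] at h2
  exact (congrArg (B ^ ·) hk.symm).trans h2

theorem three_kernel (hk : k = 3) (hf : Sym f) {g : G1} (hg : g ∈ isoF f) {n : ℕ}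
    (hB : ((g : A1) - 1) ^ n = 0) (hne : (g : A1) - 1 ≠ 0) :
    Module.finrank F (LinearMap.ker ((g : A1) - 1).mulVecLin) ≤ 1 := by
  have h := LinearMap.finrank_range_add_finrank_ker ((g : A1) - 1).mulVecLin
  have hr := Cfsg.Agent.Lib.TensorOrthMax.Fusion.two_le_rank_orth hf (B := (g : A1) - 1) (fun x y => by
    have := disp_iso hf hg x y
    simp only [hf.addL, hf.addR]
    linear_combination this) ⟨n, hB⟩ hne
  rw [Module.finrank_fin_fun] at h
  omega

/-- An isotropic vector on which a non-trivial unipotent isometry in dimension three moves, with the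
line it fixes. -/
theorem three_vector [Finite F] (hk : k = 3) (hf : Sym f) {g : G1} (hg : g ∈ isoF f) {n : ℕ}
    (hB : ((g : A1) - 1) ^ n = 0) (hne : (g : A1) - 1 ≠ 0) :
    ∃ x w : W1, f x x = 0 ∧ f x w = 1 ∧ w ≠ 0 ∧ (g : A1) *ᵥ w = w ∧ f (((g : A1) - 1) *ᵥ x) x ≠ 0 := by
  set B := (g : A1) - 1
  have h3 : B ^ 3 = 0 := three_cube hk hB
  have h0 := disp_cube hf le_rfl hg h3
  have hker : Module.finrank F (LinearMap.ker B.mulVecLin) ≤ 1 := three_kernel hk hf hg hB hne
  have hBB : B * B ≠ 0 := fun e => by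
    have hle : LinearMap.range B.mulVecLin ≤ LinearMap.ker B.mulVecLin := by
      rintro _ ⟨y, rfl⟩
      show B *ᵥ (B *ᵥ y) = 0
      rw [mulVec_mulVec, e, zero_mulVec]
    have hr := Cfsg.Agent.Lib.TensorOrthMax.Fusion.two_le_rank_orth hf (B := B) (fun x y => by
      have := disp_iso hf hg x y
      simp only [hf.addL, hf.addR]
      linear_combination this) ⟨n, hB⟩ hne
    have := Submodule.finrank_mono hle
    omega
  obtain ⟨y, hy⟩ := Cfsg.Agent.Lib.TensorOrthMax.Fusion.mulVec_sq_ne hBB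
  set w := B *ᵥ (B *ᵥ y)
  have hww : f w w = 0 := by
    show f (B *ᵥ (B *ᵥ y)) w = 0
    rw [disp_adj hf le_rfl hg h3 y w]
    show f y (B *ᵥ (B *ᵥ (B *ᵥ (B *ᵥ y)))) = 0
    rw [h0, hf.zeroR]
  obtain ⟨x, hxx, hxw⟩ := hf.exists_hyperbolic hy hww
  have hgw : (g : A1) *ᵥ w = w := by
    have : B *ᵥ w = 0 := h0 y
    rwa [sub_mulVec, one_mulVec, sub_eq_zero] at this
  refine ⟨x, w, hxx, hxw, hy, hgw, fun e => ?_⟩
  have hne' : f (B *ᵥ (B *ᵥ x)) y ≠ 0 := by
    rw [disp_adj hf le_rfl hg h3, hxw]; exact one_ne_zero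
  obtain ⟨β, hβ⟩ : ∃ β : F, B *ᵥ (B *ᵥ x) = β • w := by
    have hspan : Submodule.span F {w} = LinearMap.ker B.mulVecLin :=
      Submodule.eq_of_le_of_finrank_le (Submodule.span_le.2 (Set.singleton_subset_iff.2 (h0 y)))
        (by rw [finrank_span_singleton hy]; exact hker)
    have hmem : B *ᵥ (B *ᵥ x) ∈ Submodule.span F {w} := by rw [hspan]; exact h0 x
    obtain ⟨β, hβ⟩ := Submodule.mem_span_singleton.1 hmem
    exact ⟨β, hβ.symm⟩
  have h := disp_self hf le_rfl hg h3 x
  rw [hβ, hf.smulL, hf.comm x w, hxw, mul_one, e, mul_zero] at h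
  exact hne' (by rw [hβ, h, zero_smul, hf.zeroL])

/-! ### the displacement of an Eichler element -/

theorem eN_three (hf : Sym f) {v z : W1} (hv : f v v = 0) (hz : f z v = 0) :
    eN f v z * eN f v z * eN f v z = 0 :=
  Matrix.mulVec_injective (funext fun w => by
    rw [← mulVec_mulVec, ← mulVec_mulVec, eN_comp hf hv hz hz, zero_mulVec, eN_mulVec hf v z w]
    simp only [hf.subL, hf.smulL, hv, hz]
    simp)

theorem eN_ranks [Finite F] (hf : Sym f) {v z : W1} (hs : Seed f v z) (hzz : f z z ≠ 0) :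
    (eN f v z).rank = 2 ∧ (eN f v z * eN f v z).rank = 1 := by
  constructor
  · rw [Matrix.rank, show LinearMap.range (eN f v z).mulVecLin = plane v z from
      le_antisymm (by rintro _ ⟨w, rfl⟩; exact eN_mem hf v z w) (eN_range hf hs), finrank_plane hs.ne hs.indep]
  · have e : ∀ w, (eN f v z * eN f v z) *ᵥ w = -(f w v * f z z) • v := fun w => by
      rw [← mulVec_mulVec, eN_comp hf hs.iso hs.orth hs.orth]
    rw [Matrix.rank, show LinearMap.range (eN f v z * eN f v z).mulVecLin = Submodule.span F {v} from ?_,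
      finrank_span_singleton hs.ne]
    refine le_antisymm ?_ (Submodule.span_le.2 (Set.singleton_subset_iff.2 ?_))
    · rintro _ ⟨w, rfl⟩
      rw [Matrix.mulVecLin_apply, e]
      exact Submodule.smul_mem _ _ (Submodule.mem_span_singleton_self v)
    · obtain ⟨w, -, hw⟩ := hf.exists_hyperbolic hs.ne hs.iso
      refine ⟨-(f z z)⁻¹ • w, ?_⟩
      rw [Matrix.mulVecLin_apply, e, hf.smulL, hw]
      match_scalars
      field_simp

theorem seed_of (hf : Sym f) {v z : W1} (hv0 : v ≠ 0) (hv : f v v = 0) (hz : f z v = 0) (hzz : f z z ≠ 0) :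
    Seed f v z :=
  ⟨hv0, hv, hz, fun e => hzz (by obtain ⟨c, rfl⟩ := Submodule.mem_span_singleton.1 e; exact hf.iso_smul hv c)⟩

theorem rt_pow (hf : Sym f) (j : ι) {v z : W1} (hv : f v v = 0) (hz : f z v = 0) (n : ℕ) :
    rt f j v z ^ n = rt f j v ((n : F) • z) := by
  induction n with
  | zero => rw [pow_zero, Nat.cast_zero, zero_smul, rt_zero hf j hv]
  | succ n ih =>
    rw [pow_succ, ih, rt_mul hf j hv (by rw [hf.smulL, hz, mul_zero]) hz, Nat.cast_succ, add_smul, one_smul]

/-- What is known about a conjugate of an Eichler element. -/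
structure Conj (f : (Fin k → F) → (Fin k → F) → F) (p : ℕ) (y : GL (ι → Fin k) F) : Prop where
  pow : y ^ p = 1
  cube : ((y : Big) - 1) * ((y : Big) - 1) * ((y : Big) - 1) = 0
  rank1 : ((y : Big) - 1).rank = k ^ (Fintype.card ι - 1) * 2
  rank2 : (((y : Big) - 1) * ((y : Big) - 1)).rank = k ^ (Fintype.card ι - 1)

theorem conj_facts [Finite F] (P : Par f) {p : ℕ} [CharP F p] (x : GG) (j : ι) {v z : W1} (hv0 : v ≠ 0)
    (hv : f v v = 0) (hz : f z v = 0) (hzz : f z z ≠ 0) : Conj f p (x * rt f j v z * x⁻¹) := by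
  have hf := P.sym
  set N := eN f v z
  have hd : ((x * rt f j v z * x⁻¹ : GG) : Big) - 1 = (x : Big) * oneM j N * ((x⁻¹ : GG) : Big) := by
    rw [Units.val_mul, Units.val_mul, coe_rt hf j hv hz, mul_add, add_mul, mul_one, ← Units.val_mul,
      mul_inv_cancel, Units.val_one, add_sub_cancel_left]
  have hmul : ∀ D E : A1, (x : Big) * oneM j D * ((x⁻¹ : GG) : Big) * ((x : Big) * oneM j E * ((x⁻¹ : GG) : Big)) =
      (x : Big) * oneM j (D * E) * ((x⁻¹ : GG) : Big) := fun D E => by
    calc _ = (x : Big) * oneM j D * (((x⁻¹ : GG) : Big) * (x : Big)) * oneM j E * ((x⁻¹ : GG) : Big) := by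
          simp only [Matrix.mul_assoc]
      _ = _ := by rw [← Units.val_mul, inv_mul_cancel, Units.val_one, mul_one, Matrix.mul_assoc (x : Big), oneM_mul]
  have hrk : ∀ D : A1, ((x : Big) * oneM j D * ((x⁻¹ : GG) : Big)).rank = k ^ (Fintype.card ι - 1) * D.rank := fun D => by
    rw [Matrix.rank_mul_eq_left_of_det_ne_zero _ _ (GeneralLinearGroup.det_ne_zero _),
      Matrix.rank_mul_eq_right_of_det_ne_zero _ _ (GeneralLinearGroup.det_ne_zero _), rank_oneM]
  obtain ⟨r1, r2⟩ := eN_ranks hf (seed_of hf hv0 hv hz hzz) hzz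
  refine ⟨?_, ?_, ?_, ?_⟩
  · rw [conj_pow, rt_pow hf j hv hz, CharP.cast_eq_zero, zero_smul, rt_zero hf j hv, mul_one, mul_inv_cancel]
  · rw [hd, hmul, hmul, eN_three hf hv hz, oneM_zero, mul_zero, zero_mul]
  · rw [hd, hrk, r1]
  · rw [hd, hmul, hrk, r2, mul_one]

theorem pair_value (hf : Sym f) {j l : ι} (hjl : j ≠ l) (w w' : ι → W1)
    (hw : ∀ i, i ≠ j → i ≠ l → f (w' i) (w i) = 1) (r : ι → W1) (hr : ∀ i, i ≠ j → i ≠ l → r i = w i) :
    Bt f (pv w') (pv r) = f (w' j) (r j) * f (w' l) (r l) := by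
  rw [Bt_pv hf, ← Finset.mul_prod_erase Finset.univ _ (Finset.mem_univ j),
    ← Finset.mul_prod_erase (Finset.univ.erase j) _ (Finset.mem_erase.2 ⟨hjl.symm, Finset.mem_univ l⟩),
    Finset.prod_eq_one fun i hi => ?_, mul_one]
  have h1 := Finset.ne_of_mem_erase hi
  have h2 := Finset.ne_of_mem_erase (Finset.mem_of_mem_erase hi)
  rw [hr i h2 h1, hw i h2 h1]

theorem one_of_base {a : ι → G1} {l : ι} (h : ∀ i, i ≠ l → (a i : A1) - 1 = 0) :
    (ptGL a : GG).val = oneM l (a l : A1) := by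
  rw [coe_ptGL, oneM]
  congr 1
  funext i
  by_cases hi : i = l
  · rw [hi, Function.update_self]
  · rw [Function.update_of_ne hi, Pi.one_apply, ← sub_eq_zero, h i hi]

theorem zero_of_fix {g : G1} {w : W1} (hw : (g : A1) *ᵥ w = w) : ((g : A1) - 1) *ᵥ w = 0 := by
  rw [sub_mulVec, one_mulVec, hw, sub_self]

theorem fix_of_nil (hk : 3 ≤ k) {g : G1} {n : ℕ} (h : ((g : A1) - 1) ^ n = 0) :
    ∃ w : W1, w ≠ 0 ∧ (g : A1) *ᵥ w = w := by
  classical
  set B := (g : A1) - 1
  have hu : (Pi.single ⟨0, by omega⟩ 1 : W1) ≠ 0 := by simp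
  set u : W1 := Pi.single ⟨0, by omega⟩ 1
  have hex : ∃ i, B ^ i *ᵥ u = 0 := ⟨n, by rw [h, zero_mulVec]⟩
  set i := Nat.find hex
  have hi : B ^ i *ᵥ u = 0 := Nat.find_spec hex
  have hi0 : i ≠ 0 := fun e => hu (by rw [e, pow_zero, one_mulVec] at hi; exact hi)
  refine ⟨B ^ (i - 1) *ᵥ u, Nat.find_min hex (by omega), ?_⟩
  have h2 : B *ᵥ (B ^ (i - 1) *ᵥ u) = 0 := by
    rw [mulVec_mulVec, ← pow_succ', show i - 1 + 1 = i by omega, hi]
  rwa [sub_mulVec, one_mulVec, sub_eq_zero] at h2

variable [Fintype F] (P : Par f)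
include P

/-- A single conjugate acts on one factor, in dimension at least four or characteristic not three. -/
theorem fusion_one (h4 : 4 ≤ k ∨ (3 : F) ≠ 0) (x : GG) (j : ι) {v z : W1} (hv0 : v ≠ 0) (hv : f v v = 0)
    (hz : f z v = 0) (hzz : f z z ≠ 0) (h : x * rt f j v z * x⁻¹ ∈ SI ι f) :
    ∃ (l : ι) (b : A1), ((x * rt f j v z * x⁻¹ : GG) : Big) = oneM l b := by
  classical
  have hf := P.sym
  have hk := P.hk
  obtain ⟨p, hp⟩ := CharP.exists F
  haveI : Fact p.Prime := ⟨CharP.char_is_prime F p⟩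
  have C := conj_facts P (p := p) x j hv0 hv hz hzz
  set y := x * rt f j v z * x⁻¹
  obtain ⟨⟨a, π, hy⟩, hyiso⟩ := h
  have hp2 : p ≠ 2 := fun e => hf.two (by
    have := CharP.cast_eq_zero F p; rw [e] at this; exact_mod_cast this)
  have hpp := (Fact.out : p.Prime)
  have hπp : π ^ p = 1 := by
    have hpow : ∀ n, ∃ a' : ι → G1, y ^ n = ptGL a' * pmGL (π ^ n) := fun n => by
      induction n with
      | zero => exact ⟨1, by rw [pow_zero, pow_zero, map_one, map_one, mul_one]⟩
      | succ n ih =>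
        obtain ⟨a', ha'⟩ := ih
        exact ⟨_, by rw [pow_succ, ha', hy, tw_mul, pow_succ]⟩
    obtain ⟨a', ha'⟩ := hpow p
    exact (TensorPowerMax.Roots.tw_eq_one hk (ha'.symm.trans C.pow)).1
  have hπ : π = 1 := by
    by_cases hp3 : p = 3
    · have h3 : (3 : F) = 0 := by
        have := CharP.cast_eq_zero F p; rw [hp3] at this; exact_mod_cast this
      refine perm_one_three (a := a) (h4.resolve_right (not_not.2 h3)) h3 ?_ ?_
      · rw [← hy, ← hp3]; exact C.pow
      · rw [← hy]; exact C.rank2.le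
    · refine perm_one_big hk (p := p) ?_ ?_ ?_ hπp (by rw [← hy]; exact C.cube)
      · have := hpp.two_le
        by_contra hc
        have : p = 4 := by omega
        rw [this] at hpp
        exact absurd hpp (by decide)
      · exact fun e => hp2 ((Nat.prime_dvd_prime_iff_eq Nat.prime_two hpp).1 e).symm
      · exact fun e => hp3 ((Nat.prime_dvd_prime_iff_eq Nat.prime_three hpp).1 e).symm
  subst hπ
  rw [map_one, mul_one] at hy
  obtain ⟨b, hb, hb'⟩ := normalise P (a := a) (hy ▸ hyiso) (hy ▸ C.pow)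
  rw [← hb] at hy
  have hnil : ∀ i, ((b i : A1) - 1) ^ p = 0 := fun i => disp_pow (hb' i).2
  haveI : Nonempty ι := ⟨j⟩
  by_cases hone : ∃ l, ∀ i, i ≠ l → (b i : A1) - 1 = 0
  · obtain ⟨l, hl⟩ := hone
    exact ⟨l, _, by rw [hy, one_of_base hl]⟩
  exfalso
  push Not at hone
  obtain ⟨l, -, hl⟩ := hone j
  obtain ⟨i, hil, hi⟩ := hone l
  rcases Nat.lt_or_ge k 4 with hk3 | hk4
  · -- dimension three: the cube of the displacement
    have hk3 : k = 3 := by omega
    have h3 : (3 : F) ≠ 0 := h4.resolve_left (by omega)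
    obtain ⟨xl, wl, hxl, hxwl, -, hgwl, hl'⟩ := three_vector hk3 hf (hb' l).1 (hnil l) hl
    obtain ⟨xi, wi, hxi, hxwi, -, hgwi, hi'⟩ := three_vector hk3 hf (hb' i).1 (hnil i) hi
    choose wf hwf using fun m => fix_of_nil hk (hnil m)
    choose wf' hwf' using fun m => hf.sf.exists_one (hwf m).1
    set s : ι → W1 := fun m => if m = l then xl else if m = i then xi else wf m
    set s' : ι → W1 := fun m => if m = l then xl else if m = i then xi else wf' m
    have hval : ∀ r : ι → W1, (∀ m, m ≠ l → m ≠ i → r m = wf m) → Bt f (pv s') (pv r) = f xl (r l) * f xi (r i) := by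
      intro r hr
      rw [pair_value hf hil.symm wf s' (fun m h1 h2 => by simp only [s', if_neg h1, if_neg h2]; exact hwf' m) r hr]
      simp only [s', if_pos, if_neg hil]
    have hsl : s l = xl ∧ s i = xi := ⟨if_pos rfl, by simp only [s, if_neg hil, if_pos]⟩
    have hso : ∀ m, m ≠ l → m ≠ i → s m = wf m := fun m h1 h2 => by simp only [s, if_neg h1, if_neg h2]
    have e := congrArg (fun z => Bt f (pv s') z) (cube_expand (y : Big) (pv s))
    rw [C.cube] at e
    simp only [hy, coe_ptGL, pt_mulVec, zero_mulVec, Bt_zeroR, Bt_subR, Bt_addR, Bt_smulR] at e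
    obtain ⟨q1, q2, q3⟩ := pow_self hf le_rfl (hb' l).1 (three_cube hk3 (hnil l)) hxl
    obtain ⟨q1', q2', q3'⟩ := pow_self hf le_rfl (hb' i).1 (three_cube hk3 (hnil i)) hxi
    rw [hval _ fun m h1 h2 => by simp only [hso m h1 h2, (hwf m).2],
      hval _ fun m h1 h2 => by simp only [hso m h1 h2, (hwf m).2],
      hval _ fun m h1 h2 => by simp only [hso m h1 h2, (hwf m).2],
      hval _ hso] at e
    simp only [hsl.1, hsl.2, hxl, hf.comm (_ *ᵥ _) xl, hf.comm (_ *ᵥ _) xi] at e q1 q2 q3 q1' q2' q3'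
    rw [q1, q2, q3, q1', q2', q3'] at e
    have h36 : (2 : F) * 2 * 3 * 3 * (f (((b l : A1) - 1) *ᵥ xl) xl * f (((b i : A1) - 1) *ᵥ xi) xi) = 0 := by
      linear_combination -e
    have h2 := hf.two
    simp [h2, h3, hl', hi'] at h36
  · -- rank
    set bb : ι → A1 := fun m => (b m : A1)
    set R : Matrix ({m // m ≠ l} → Fin k) ({m // m ≠ l} → Fin k) F := pt fun m : {m // m ≠ l} => bb m.1
    have hRp : R ^ p = 1 := by
      rw [pt_pow, ← pt_one]
      congr 1
      funext m
      exact (hb' m.1).2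
    have hR1 : R - 1 ≠ 0 := fun e => hi (by
      rw [sub_eq_zero] at e
      obtain ⟨d, hd⟩ := scalar_factor (a := fun m : {m // m ≠ l} => b m.1) (c := (1 : F))
        (by rw [one_smul]; exact e) ⟨i, hil⟩
      have hdp := (hb' i).2
      rw [show (b i : A1) = d • 1 from hd, smul_pow, one_pow] at hdp
      have hd1 : d = 1 := frobenius_inj F p (by
        rw [frobenius_def, frobenius_def, one_pow]
        have := congrFun (congrFun hdp ⟨0, by omega⟩) ⟨0, by omega⟩
        simpa using this)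
      rw [show (b i : A1) = d • 1 from hd, hd1, one_smul, sub_self])
    have hRn : (R - 1) ^ p = 0 := by
      rw [sub_one_pow_char (F := F), hRp, sub_self]
    have hrl := Cfsg.Agent.Lib.TensorOrthMax.Fusion.two_le_rank_orth hf (B := (b l : A1) - 1) (fun x y => by
      have := disp_iso hf (hb' l).1 x y
      simp only [hf.addL, hf.addR]
      linear_combination this) ⟨p, hnil l⟩ hl
    have hlt := rank_prod hR1 hRn (hnil l) hrl hk4 (by
      by_cases hk5 : 5 ≤ k
      · exact Or.inl hk5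
      · exact Or.inr (sq_ne_four hf P (by omega) (hb' l).1 ⟨p, hnil l⟩ hl))
    have hsp : sp l ((y : Big) - 1) = (1 + (R - 1)) ⊗ₖ (1 + ((b l : A1) - 1)) - 1 := by
      rw [map_sub, map_one, hy, coe_ptGL, sp_pt, add_sub_cancel, add_sub_cancel]
    have hrk : (sp l ((y : Big) - 1)).rank = ((y : Big) - 1).rank := rank_reindex _ _ _
    rw [← hsp, hrk, C.rank1, TensorPowerMax.Roots.card_rest] at hlt
    omega

/-- Along a whole root family some conjugate acts on one factor. -/
theorem fusion_all (x : GG) (j : ι) {v z : W1} (hv0 : v ≠ 0) (hv : f v v = 0)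
    (hz : f z v = 0) (hzz : f z z ≠ 0) (h : ∀ c : F, x * rt f j v (c • z) * x⁻¹ ∈ SI ι f) :
    ∃ c : F, c ≠ 0 ∧ ∃ (l : ι) (b : A1), ((x * rt f j v (c • z) * x⁻¹ : GG) : Big) = oneM l b := by
  classical
  have hf := P.sym
  have hk := P.hk
  have hzc : ∀ c : F, f (c • z) v = 0 := fun c => by rw [hf.smulL, hz, mul_zero]
  have hzzc : ∀ c : F, c ≠ 0 → f (c • z) (c • z) ≠ 0 := fun c hc => by
    rw [hf.smulL, hf.smulR]; exact mul_ne_zero hc (mul_ne_zero hc hzz)
  by_cases h4 : 4 ≤ k ∨ (3 : F) ≠ 0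
  · exact ⟨1, one_ne_zero, fusion_one P h4 x j hv0 hv (hzc 1) (hzzc 1 one_ne_zero) (h 1)⟩
  push Not at h4
  have hk3 : k = 3 := by omega
  have h3 : (3 : F) = 0 := h4.2
  obtain ⟨e, he, he1⟩ := P.big.resolve_right (by omega)
  haveI : Fact (Nat.Prime 3) := ⟨Nat.prime_three⟩
  obtain ⟨p, hp⟩ := CharP.exists F
  obtain rfl : p = 3 :=
    ((Nat.prime_dvd_prime_iff_eq (CharP.char_is_prime F p) Nat.prime_three).1
      ((CharP.cast_eq_zero_iff F p 3).1 (by exact_mod_cast h3)))
  set y : F → GG := fun c => x * rt f j v (c • z) * x⁻¹ with hydef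
  have hmul : ∀ c d, y c * y d = y (c + d) := fun c d => by
    simp only [hydef, add_smul, ← rt_mul hf j hv (hzc c) (hzc d)]
    group
  choose a π hy using fun c => (h c).1
  have hπadd : ∀ c d, π (c + d) = π c * π d := fun c d => by
    have h1 : ptGL (a c * a d ∘ (π c).symm) * pmGL (π c * π d) = ptGL (a (c + d)) * pmGL (π (c + d)) := by
      rw [← tw_mul, ← hy, ← hy, ← hy]; exact hmul c d
    have h2 : ptGL ((a (c + d))⁻¹ * (a c * a d ∘ (π c).symm)) * pmGL (π c * π d) = pmGL (π (c + d)) := by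
      rw [map_mul ptGL, map_inv, mul_assoc, h1, inv_mul_cancel_left]
    have h3 : ptGL ((a (c + d))⁻¹ * (a c * a d ∘ (π c).symm)) * pmGL (π c * π d * (π (c + d))⁻¹) = 1 := by
      rw [map_mul pmGL, ← mul_assoc, h2, map_inv, mul_inv_cancel]
    exact (mul_inv_eq_one.1 (TensorPowerMax.Roots.tw_eq_one hk h3).1).symm
  have hπ0 : π 0 = 1 := by have := hπadd 0 0; rwa [add_zero, left_eq_mul] at this
  have hπneg : ∀ c, π (-c) = (π c)⁻¹ := fun c =>
    eq_inv_of_mul_eq_one_right (by rw [← hπadd, add_neg_cancel, hπ0])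
  have hπ3 : ∀ c, π c * π c * π c = 1 := fun c => by
    rw [← hπadd, ← hπadd, show c + c + c = 0 by linear_combination c * h3, hπ0]
  have C : ∀ c, c ≠ 0 → Conj f 3 (y c) := fun c hc => conj_facts P x j hv0 hv (hzc c) (hzzc c hc)
  -- the squared displacements are proportional
  have hsq : ∀ c d : F, c ^ 2 • (((y d : GG) : Big) - 1) * (((y d : GG) : Big) - 1) =
      d ^ 2 • (((y c : GG) : Big) - 1) * (((y c : GG) : Big) - 1) := by
    have hone : ∀ c : F, (((y c : GG) : Big) - 1) * (((y c : GG) : Big) - 1) =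
        c ^ 2 • ((x : Big) * oneM j (eN f v z * eN f v z) * ((x⁻¹ : GG) : Big)) := by
      intro c
      have hd : ((y c : GG) : Big) - 1 = (x : Big) * oneM j (eN f v (c • z)) * ((x⁻¹ : GG) : Big) := by
        rw [hydef, Units.val_mul, Units.val_mul, coe_rt hf j hv (hzc c), mul_add, add_mul, mul_one, ← Units.val_mul,
          mul_inv_cancel, Units.val_one, add_sub_cancel_left]
      have hN : eN f v (c • z) * eN f v (c • z) = c ^ 2 • (eN f v z * eN f v z) :=
        Matrix.mulVec_injective (funext fun w => by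
          rw [smul_mulVec, ← mulVec_mulVec, ← mulVec_mulVec, eN_comp hf hv (hzc c) (hzc c), eN_comp hf hv hz hz,
            hf.smulL, hf.smulR]
          module)
      rw [hd, show (x : Big) * oneM j (eN f v (c • z)) * ((x⁻¹ : GG) : Big) *
          ((x : Big) * oneM j (eN f v (c • z)) * ((x⁻¹ : GG) : Big)) =
          (x : Big) * (oneM j (eN f v (c • z)) * oneM j (eN f v (c • z))) * ((x⁻¹ : GG) : Big) by
        calc _ = (x : Big) * oneM j (eN f v (c • z)) * (((x⁻¹ : GG) : Big) * (x : Big)) *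
              oneM j (eN f v (c • z)) * ((x⁻¹ : GG) : Big) := by simp only [Matrix.mul_assoc]
          _ = _ := by rw [← Units.val_mul, inv_mul_cancel, Units.val_one, mul_one, Matrix.mul_assoc (x : Big)],
        oneM_mul, hN, oneM_smul, Matrix.mul_smul, Matrix.smul_mul]
    intro c d
    rw [smul_mul_assoc, smul_mul_assoc, hone, hone, smul_smul, smul_smul, mul_comm]
  have hall : ∀ c, π c = 1 := by
    by_contra hc
    push Not at hc
    obtain ⟨c0, hc0⟩ := hc
    have hc00 : c0 ≠ 0 := fun e' => hc0 (by rw [e', hπ0])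
    obtain ⟨d, hd, hd1, hd2⟩ : ∃ d, π d ≠ 1 ∧ d ≠ c0 ∧ d ≠ -c0 := by
      have he' : e ≠ 1 ∧ e ≠ -1 := ⟨fun h' => he1 (by rw [h', one_mul]), fun h' => he1 (by rw [h']; ring)⟩
      by_cases h' : π (e * c0) = 1
      · refine ⟨c0 + e * c0, by rw [hπadd, h', mul_one]; exact hc0, fun h'' => ?_, fun h'' => ?_⟩
        · exact mul_ne_zero he hc00 (by linear_combination h'')
        · refine he'.1 (mul_right_cancel₀ hc00 ?_)
          linear_combination h'' - c0 * h3
      · exact ⟨_, h', fun h'' => he'.1 (mul_right_cancel₀ hc00 (by linear_combination h'')),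
          fun h'' => he'.2 (mul_right_cancel₀ hc00 (by linear_combination h''))⟩
    have hd0 : c0 ^ 2 ≠ 0 := pow_ne_zero 2 hc00
    have rel : ∀ d', d' ^ 2 = d ^ 2 →
        ((((ptGL (a d') * pmGL (π d') : GG)) : Big) - 1) * ((((ptGL (a d') * pmGL (π d') : GG)) : Big) - 1) =
        (d ^ 2 / c0 ^ 2) • (((((ptGL (a c0) * pmGL (π c0) : GG)) : Big) - 1) *
          ((((ptGL (a c0) * pmGL (π c0) : GG)) : Big) - 1)) := fun d' hd' => by
      have h2 := hsq c0 d'
      rw [smul_mul_assoc, smul_mul_assoc, hd', show y d' = _ from hy d', show y c0 = _ from hy c0] at h2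
      rw [div_eq_inv_mul, ← smul_smul, ← h2, inv_smul_smul₀ hd0]
    refine hc0 (perm_one_pair hk (hπ3 c0) (hπ3 d) ?_ hd (c := d ^ 2 / c0 ^ 2) ?_ (rel d rfl) (a (-d)) ?_)
    · rw [← hπadd, ← hπadd, add_comm]
    · rw [Ne, div_eq_one_iff_eq hd0, sq_eq_sq_iff_eq_or_eq_neg]
      exact fun h' => h'.elim hd1 hd2
    · have := rel (-d) (neg_sq d)
      rwa [hπneg] at this
  have hyb : ∀ c, ∃ b : ι → G1, y c = ptGL b ∧ ∀ i, b i ∈ isoF f ∧ (b i : A1) ^ 3 = 1 := fun c => by
    by_cases hc : c = 0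
    · refine ⟨1, ?_, fun i => ⟨one_mem _, by simp⟩⟩
      rw [map_one, hydef]
      simp [hc, rt_zero hf j hv]
    have h1 : y c = ptGL (a c) := by rw [← mul_one (ptGL (a c)), ← map_one pmGL, ← hall c]; exact hy c
    obtain ⟨b, hb, hb'⟩ := normalise P (a := a c) (h1 ▸ (h c).2) (h1 ▸ (C c hc).pow)
    exact ⟨b, by rw [h1, hb], hb'⟩
  choose b hb hb' using hyb
  have hnil : ∀ c i, ((b c i : A1) - 1) ^ 3 = 0 := fun c i => disp_pow (hb' c i).2
  haveI : Nonempty ι := ⟨j⟩
  by_cases hone : ∃ l, ∀ i, i ≠ l → (b 1 i : A1) - 1 = 0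
  · obtain ⟨l, hl⟩ := hone
    exact ⟨1, one_ne_zero, l, _, by
      show ((y 1 : GG) : Big) = _
      rw [hb 1, one_of_base hl]⟩
  exfalso
  push Not at hone
  obtain ⟨l, -, hl⟩ := hone j
  obtain ⟨i, hil, hi⟩ := hone l
  -- commuting, so a common fixed vector in every factor
  have hcommon : ∀ m, ∃ w : W1, w ≠ 0 ∧ (b 1 m : A1) *ᵥ w = w ∧ (b e m : A1) *ᵥ w = w := by
    intro m
    by_cases hm : (b 1 m : A1) - 1 = 0
    · obtain ⟨w, hw, hw'⟩ := fix_of_nil hk (hnil e m)
      exact ⟨w, hw, by rw [sub_eq_zero.1 hm, one_mulVec], hw'⟩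
    obtain ⟨w, hw, hw'⟩ := fix_of_nil hk (hnil 1 m)
    have hcm : ptGL ((b e)⁻¹ * (b 1)⁻¹ * b e * b 1) = (1 : GG) := by
      rw [map_mul, map_mul, map_mul, map_inv, map_inv, ← hb, ← hb, mul_assoc, hmul, add_comm, ← hmul]
      group
    obtain ⟨d, hd⟩ := scalar_factor (a := (b e)⁻¹ * (b 1)⁻¹ * b e * b 1) (c := (1 : F))
      (by rw [← coe_ptGL, hcm, Units.val_one, one_smul]) m
    have hcom : (b e m : A1) * (b 1 m : A1) = d • ((b 1 m : A1) * (b e m : A1)) := by
      have e1 : b e m * b 1 m = b 1 m * b e m * ((b e m)⁻¹ * (b 1 m)⁻¹ * b e m * b 1 m) := by group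
      rw [← Units.val_mul, e1, Units.val_mul]
      rw [show (((b e m)⁻¹ * (b 1 m)⁻¹ * b e m * b 1 m : G1) : A1) = d • 1 from hd, Matrix.mul_smul, mul_one,
        Units.val_mul]
    set u := (b e m : A1) *ᵥ w
    have hu : u = d • ((b 1 m : A1) *ᵥ u) := by
      have := congrArg (fun X : A1 => X *ᵥ w) hcom
      simpa [← mulVec_mulVec, hw', smul_mulVec] using this
    have hu0 : u ≠ 0 := gl_ne_zero _ hw
    have hd1 : d = 1 := by
      have hit : ∀ n : ℕ, u = d ^ n • ((b 1 m : A1) ^ n *ᵥ u) := fun n => by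
        induction n with
        | zero => simp
        | succ n ih =>
          conv_lhs => rw [ih]
          conv_lhs => arg 2; arg 2; rw [hu]
          rw [mulVec_smul, mulVec_mulVec, smul_smul, ← pow_succ, ← pow_succ]
      have h' := hit 3
      rw [(hb' 1 m).2, one_mulVec] at h'
      have : (d ^ 3 - 1) • u = 0 := by rw [sub_smul, one_smul, ← h', sub_self]
      have hd3 : d ^ 3 = 1 := sub_eq_zero.1 ((smul_eq_zero.1 this).resolve_right hu0)
      exact frobenius_inj F 3 (by rw [frobenius_def, frobenius_def, one_pow, hd3])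
    rw [hd1, one_smul] at hu
    have hspan : LinearMap.ker ((b 1 m : A1) - 1).mulVecLin = Submodule.span F {w} :=
      (Submodule.eq_of_le_of_finrank_le (Submodule.span_le.2 (Set.singleton_subset_iff.2 (zero_of_fix hw')))
        (by rw [finrank_span_singleton hw]; exact three_kernel hk3 hf (hb' 1 m).1 (hnil 1 m) hm)).symm
    have hmem : u ∈ Submodule.span F {w} := by rw [← hspan]; exact zero_of_fix hu.symm
    obtain ⟨t, ht⟩ := Submodule.mem_span_singleton.1 hmem
    have ht3 : w = t ^ 3 • w := by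
      have hit : ∀ n : ℕ, (b e m : A1) ^ n *ᵥ w = t ^ n • w := fun n => by
        induction n with
        | zero => simp
        | succ n ih => rw [pow_succ', ← mulVec_mulVec, ih, mulVec_smul, show (b e m : A1) *ᵥ w = t • w from ht.symm,
            smul_smul, ← pow_succ]
      rw [← hit 3, (hb' e m).2, one_mulVec]
    have ht1 : t = 1 := by
      have : (t ^ 3 - 1) • w = 0 := by rw [sub_smul, one_smul, ← ht3, sub_self]
      exact frobenius_inj F 3 (by
        rw [frobenius_def, frobenius_def, one_pow, sub_eq_zero.1 ((smul_eq_zero.1 this).resolve_right hw)])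
    rw [ht1, one_smul] at ht
    exact ⟨w, hw, hw', ht.symm⟩
  choose wf hwf using hcommon
  choose wf' hwf' using fun m => hf.sf.exists_one (hwf m).1
  -- the squares on one factor
  have hfac : ∀ m x' y', e ^ 2 * f x' (((b 1 m : A1) - 1) *ᵥ (((b 1 m : A1) - 1) *ᵥ y')) =
      f x' (((b e m : A1) - 1) *ᵥ (((b e m : A1) - 1) *ᵥ y')) := by
    intro m x' y'
    have hX : ∀ c, (∀ n, (b c n : A1) *ᵥ wf n = wf n) →
        Bt f (pv (Function.update wf' m x')) (((((y c : GG) : Big) - 1) * (((y c : GG) : Big) - 1)) *ᵥ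
          pv (Function.update wf m y')) = f x' (((b c m : A1) - 1) *ᵥ (((b c m : A1) - 1) *ᵥ y')) := by
      intro c hc
      have hv' : ∀ r : ι → W1, (∀ n, n ≠ m → r n = wf n) →
          Bt f (pv (Function.update wf' m x')) (pv r) = f x' (r m) := by
        intro r hr
        rw [Bt_pv hf, ← Finset.mul_prod_erase Finset.univ _ (Finset.mem_univ m), Function.update_self,
          Finset.prod_eq_one fun n hn => ?_, mul_one]
        rw [Function.update_of_ne (Finset.ne_of_mem_erase hn), hr n (Finset.ne_of_mem_erase hn), hwf']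
      rw [sq_expand, hb c, coe_ptGL, pt_mulVec, pt_mulVec]
      simp only [Bt_addR, Bt_subR]
      rw [hv' _ fun n hn => by rw [Function.update_of_ne hn, hc, hc],
        hv' _ fun n hn => by rw [Function.update_of_ne hn, hc],
        hv' _ fun n hn => by rw [Function.update_of_ne hn]]
      simp only [Function.update_self, sub_mulVec, one_mulVec, mulVec_sub, hf.subR]
      ring
    have h2 := congrArg (fun X : Big => Bt f (pv (Function.update wf' m x')) (X *ᵥ pv (Function.update wf m y')))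
      (hsq 1 e)
    simp only [smul_mul_assoc, smul_mulVec, Bt_smulR] at h2
    rw [hX 1 fun n => (hwf n).2.1, hX e fun n => (hwf n).2.2] at h2
    rw [← h2]; ring
  obtain ⟨xl, -, hxl, -, -, -, hl'⟩ := three_vector hk3 hf (hb' 1 l).1 (hnil 1 l) hl
  obtain ⟨xi, -, hxi, -, -, -, hi'⟩ := three_vector hk3 hf (hb' 1 i).1 (hnil 1 i) hi
  have hκ : ∀ m x', e ^ 2 * f (((b 1 m : A1) - 1) *ᵥ x') x' = f (((b e m : A1) - 1) *ᵥ x') x' := fun m x' => by
    have h2 := hfac m x' x'
    have d1 := disp_self (n := 3) hf le_rfl (hb' 1 m).1 (hnil 1 m) x'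
    have de := disp_self (n := 3) hf le_rfl (hb' e m).1 (hnil e m) x'
    rw [hf.comm] at d1 de
    refine mul_left_cancel₀ hf.two ?_
    linear_combination h2 - e ^ 2 * d1 + de
  set s : ι → W1 := Function.update (Function.update wf i xi) l xl
  set s' : ι → W1 := Function.update (Function.update wf' i xi) l xl
  have hval : ∀ c, (∀ n, (b c n : A1) *ᵥ wf n = wf n) →
      Bt f (pv s') (((((y c : GG) : Big) - 1) * (((y c : GG) : Big) - 1)) *ᵥ pv s) =
        14 * (f (((b c l : A1) - 1) *ᵥ xl) xl * f (((b c i : A1) - 1) *ᵥ xi) xi) := by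
    intro c hc
    have hv' : ∀ r : ι → W1, (∀ n, n ≠ l → n ≠ i → r n = wf n) → Bt f (pv s') (pv r) = f (r l) xl * f (r i) xi := by
      intro r hr
      rw [pair_value hf hil.symm wf s' (fun n h1 h2 => by
        simp only [s', Function.update_of_ne h1, Function.update_of_ne h2]; exact hwf' n) r hr]
      simp only [s', Function.update_self, Function.update_of_ne hil, hf.comm (r l) xl, hf.comm (r i) xi]
    have hso : ∀ n, n ≠ l → n ≠ i → s n = wf n := fun n h1 h2 => by
      simp only [s, Function.update_of_ne h1, Function.update_of_ne h2]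
    rw [sq_expand, hb c, coe_ptGL, pt_mulVec, pt_mulVec]
    simp only [Bt_addR, Bt_subR]
    rw [hv' _ fun n h1 h2 => by rw [hso n h1 h2, hc, hc], hv' _ fun n h1 h2 => by rw [hso n h1 h2, hc], hv' _ hso]
    obtain ⟨q1, q2, -⟩ := pow_self hf le_rfl (hb' c l).1 (hnil c l) hxl
    obtain ⟨q1', q2', -⟩ := pow_self hf le_rfl (hb' c i).1 (hnil c i) hxi
    simp only [s, Function.update_self, Function.update_of_ne hil, q1, q2, q1', q2', hxl, hxi]
    ring
  have h2 := congrArg (fun X : Big => Bt f (pv s') (X *ᵥ pv s)) (hsq 1 e)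
  simp only [smul_mul_assoc, smul_mulVec, Bt_smulR] at h2
  rw [hval 1 fun n => (hwf n).2.1, hval e fun n => (hwf n).2.2, ← hκ l, ← hκ i] at h2
  set Q := f (((b 1 l : A1) - 1) *ᵥ xl) xl * f (((b 1 i : A1) - 1) *ᵥ xi) xi
  have hQ : (2 : F) * e * e * (e * e - 1) * Q = 0 := by
    linear_combination h2 - 4 * e * e * (e * e - 1) * Q * h3
  have hQ0 : Q ≠ 0 := mul_ne_zero hl' hi'
  simp [hf.two, he, hQ0, sub_eq_zero, he1] at hQ

end Cfsg.Agent.Lib.TensorPowerOrth.Fusion
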