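import Cfsg.Agent.Lib.TensorPowerOrth.Roots
import Cfsg.Agent.Lib.TensorPowerMax.BlockTo

/-!
Products of a matrix of the factors other than one with a matrix of that factor.
-/

set_option autoImplicit false
set_option linter.unusedSectionVars false

namespace Cfsg.Agent.Lib.TensorPowerOrth.Kron

open Matrix Kronecker
open Cfsg.Agent.Lib.Subspaces.Transvection Cfsg.Agent.Lib.Subspaces.FormVec
  Cfsg.Agent.Lib.TensorPowerMax.Basic Cfsg.Agent.Lib.TensorOrthMax.Side
  Cfsg.Agent.Lib.TensorPowerOrth.Form Cfsg.Agent.Lib.TensorPowerOrth.Roots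
open Cfsg.Agent.Lib.TensorSympMax.Basic (ctr_add_vec)

variable {ι : Type} [Fintype ι] [DecidableEq ι] {k : ℕ} {F : Type*} [Field F]

local notation "A1" => Matrix (Fin k) (Fin k) F
local notation "Big" => Matrix (ι → Fin k) (ι → Fin k) F
local notation "GG" => GL (ι → Fin k) F
local notation "W1" => Fin k → F
local notation "Vec" => (ι → Fin k) → F

/-- A matrix of the other factors times a matrix of the factor `j`. -/
def kr (j : ι) (X : Matrix ({i // i ≠ j} → Fin k) ({i // i ≠ j} → Fin k) F) (Y : Matrix (Fin k) (Fin k) F) :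
    Matrix (ι → Fin k) (ι → Fin k) F :=
  (sp j).symm (X ⊗ₖ Y)

variable (j : ι) (X X' : Matrix ({i // i ≠ j} → Fin k) ({i // i ≠ j} → Fin k) F) (Y Y' : Matrix (Fin k) (Fin k) F)

theorem sp_kr : sp j (kr j X Y) = X ⊗ₖ Y := (sp j).apply_symm_apply _

theorem kr_mul : kr j X Y * kr j X' Y' = kr j (X * X') (Y * Y') := by
  rw [kr, kr, kr, ← map_mul, ← Matrix.mul_kronecker_mul]

theorem kr_add_left : kr j (X + X') Y = kr j X Y + kr j X' Y := by rw [kr, kr, kr, add_kronecker, map_add]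

theorem kr_add_right : kr j X (Y + Y') = kr j X Y + kr j X Y' := by rw [kr, kr, kr, kronecker_add, map_add]

theorem kr_smul_left (c : F) : kr j (c • X) Y = c • kr j X Y := by rw [kr, kr, smul_kronecker, map_smul]

theorem kr_smul_right (c : F) : kr j X (c • Y) = c • kr j X Y := by rw [kr, kr, kronecker_smul, map_smul]

theorem kr_zero_left : kr j (0 : Matrix ({i // i ≠ j} → Fin k) ({i // i ≠ j} → Fin k) F) Y = 0 := by
  rw [kr, zero_kronecker, map_zero]

theorem kr_zero_right : kr j X (0 : A1) = 0 := by rw [kr, kronecker_zero, map_zero]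

theorem kr_one_left : kr j (1 : Matrix ({i // i ≠ j} → Fin k) ({i // i ≠ j} → Fin k) F) Y = oneM j Y := by
  rw [kr, ← sp_oneM_self, AlgEquiv.symm_apply_apply]

theorem kr_one_one : kr j (1 : Matrix ({i // i ≠ j} → Fin k) ({i // i ≠ j} → Fin k) F) (1 : A1) = 1 := by
  rw [kr_one_left, oneM_one]

theorem kr_oneM_ne {i : ι} (h : i ≠ j) (D : A1) : kr j (oneM (⟨i, h⟩ : {i // i ≠ j}) D) 1 = oneM i D := by
  rw [kr, ← sp_oneM_of_ne h, AlgEquiv.symm_apply_apply]

theorem kr_ins (w : W1) (u : ({i // i ≠ j} → Fin k) → F) :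
    kr j X Y *ᵥ ins j w u = ins j (Y *ᵥ w) (X *ᵥ u) := by
  have h := TensorPowerMax.Roots.sp_mulVec j (kr j X Y) (ins j w u)
  rw [sp_kr, TensorPowerMax.Roots.ins_comp, TensorPowerMax.Side.kron_mulVec_tens,
    ← TensorPowerMax.Roots.ins_comp] at h
  ext x
  have h1 := congrFun h (split j x)
  simpa using h1.symm

theorem kr_inj {Y : A1} (hY : Y ≠ 0) (h : kr j X Y = kr j X' Y) : X = X' := by
  obtain ⟨w, hw⟩ : ∃ w, Y *ᵥ w ≠ 0 := by
    by_contra hc
    push Not at hc
    exact hY (Matrix.mulVec_injective (funext fun w => by rw [hc, zero_mulVec]))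
  refine Matrix.mulVec_injective (funext fun u => ins_injective hw ?_)
  rw [← kr_ins j X Y, ← kr_ins j X' Y, h]

/-- Vectors are expanded through one factor. -/
theorem ins_sum (x : Vec) : x = ∑ a, ins j (Pi.single a 1) (ctr j (Pi.single a 1) x) := by
  refine ctr_ext (j := j) fun φ => ?_
  rw [map_sum]
  simp only [ctr_ins, dotProduct_single, mul_one]
  ext r
  simp [ctr, Finset.sum_apply, Pi.single_apply]

/-- Matrices are compared on the tensors with one pure factor. -/
theorem mat_ext_ins {A B : Big} (h : ∀ w u, A *ᵥ ins j w u = B *ᵥ ins j w u) : A = B := by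
  refine Matrix.mulVec_injective (funext fun x => ?_)
  rw [ins_sum j x, Matrix.mulVec_sum, Matrix.mulVec_sum]
  exact Finset.sum_congr rfl fun a _ => h _ _

variable {f : (Fin k → F) → (Fin k → F) → F}

theorem Bt_kr (hf : Sym f) {μ ν : F} (hX : ∀ u u', Bt f (X *ᵥ u) (X *ᵥ u') = μ * Bt f u u')
    (hY : ∀ w w', f (Y *ᵥ w) (Y *ᵥ w') = ν * f w w') (x y : Vec) :
    Bt f (kr j X Y *ᵥ x) (kr j X Y *ᵥ y) = μ * ν * Bt f x y := by
  rw [ins_sum j x, ins_sum j y]
  simp only [Matrix.mulVec_sum, Bt_sumL, Bt_sumR, kr_ins, Bt_ins_ins hf, hX, hY, Finset.mul_sum]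
  exact Finset.sum_congr rfl fun a _ => Finset.sum_congr rfl fun b _ => by ring

/-- The lift of an invertible matrix of the other factors. -/
def liftG (j : ι) : GL ({i // i ≠ j} → Fin k) F →* GL (ι → Fin k) F where
  toFun C := (spU j).symm (TensorPowerMax.Side.kronGL C 1)
  map_one' := by rw [TensorPowerMax.BlockTo.kronGL_one, map_one]
  map_mul' A B := by rw [← map_mul, TensorPowerMax.BlockTo.kronGL_mul, mul_one]

theorem coe_liftG (C : GL ({i // i ≠ j} → Fin k) F) : (liftG j C : Big) = kr j (C : Matrix _ _ F) 1 := by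
  refine (sp j).injective ?_
  rw [sp_kr, ← coe_spU]
  show (spU j ((spU j).symm (TensorPowerMax.Side.kronGL C 1))).val = _
  rw [MulEquiv.apply_symm_apply]
  rfl

theorem liftG_stab {C : GL ({i // i ≠ j} → Fin k) F} (hC : C ∈ stab {i // i ≠ j} k F) :
    liftG j C ∈ stab ι k F :=
  TensorPowerMax.BlockTo.mem_stab_of_kron hC (b := 1) ((spU j).apply_symm_apply _)

theorem liftG_iso (hf : Sym f) {C : GL ({i // i ≠ j} → Fin k) F} (hC : C ∈ isoB {i // i ≠ j} f) :
    liftG j C ∈ isoB ι f := fun x y => by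
  rw [coe_liftG, Bt_kr j _ _ hf (μ := 1) (ν := 1) (fun u u' => by rw [one_mul, hC]) (fun w w' => by
    rw [one_mulVec, one_mulVec, one_mul]), one_mul, one_mul]

theorem liftG_SI (hf : Sym f) {C : GL ({i // i ≠ j} → Fin k) F} (hC : C ∈ SI {i // i ≠ j} f) :
    liftG j C ∈ SI ι f :=
  ⟨liftG_stab j hC.1, liftG_iso j hf hC.2⟩

end Cfsg.Agent.Lib.TensorPowerOrth.Kron
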