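import Cfsg.Agent.Lib.TensorPowerOrth.Spread
import Cfsg.Agent.Lib.TensorPowerOrth.Core
import Cfsg.Agent.Lib.TensorPowerOrth.BlockTo
import Cfsg.Agent.Lib.TensorOrthMax.OrthMain

/-!
The stabiliser of a tensor power of a symmetric form is maximal in the orthogonal group of odd characteristic.
-/

set_option autoImplicit false
set_option linter.unusedSectionVars false

namespace Cfsg.Agent.Lib.TensorPowerOrth.Main

open Matrix
open scoped commutatorElement
open Cfsg.Agent.Lib.Subspaces.Transvection Cfsg.Agent.Lib.Subspaces.FormVec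
  Cfsg.Agent.Lib.TensorPowerMax.Basic Cfsg.Agent.Lib.TensorOrthMax.Side
  Cfsg.Agent.Lib.TensorPowerOrth.Form Cfsg.Agent.Lib.TensorPowerOrth.Frame Cfsg.Agent.Lib.TensorPowerOrth.Roots
  Cfsg.Agent.Lib.TensorPowerOrth.Upper

variable {k : ℕ} {F : Type*} [Field F] [Fintype F] {f : (Fin k → F) → (Fin k → F) → F}

/-- An overgroup stabilises the decomposition or contains all Eichler maps. -/
theorem dichotomy (N : ℕ) : ∀ (ι : Type) [Fintype ι] [DecidableEq ι], Fintype.card ι = N →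
    ∀ M : Subgroup (GL (ι → Fin k) F), Setting f M → M ≤ stab ι k F ∨ Full f M := by
  induction N using Nat.strong_induction_on with
  | _ N ih =>
    intro ι _ _ hN M S
    have IH : Lower ι f := fun κ _ _ hκ M' S' => ih (Fintype.card κ) (hN ▸ hκ) κ rfl M' S'
    by_cases h : Block.NoRad f M
    · exact Or.inl (Core.core S (BlockTo.blockTo S h IH))
    · exact Or.inr (Spread.full_of_rad S IH h)

variable {ι : Type} [Fintype ι] [DecidableEq ι]

/-- The criterion. -/
theorem maximal_of {Q : (ι → F) → F} (hQ : Cfsg.Geo.IsNondegenerateQuadraticForm Q) (h2 : (2 : F) ≠ 0)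
    (hn : 5 ≤ Fintype.card ι) (t : ℕ) (hk : 3 ≤ k) (ht : 2 ≤ t) (hbig : 4 ≤ k ∨ 4 ≤ Fintype.card F)
    (e : ι ≃ (Fin t → Fin k)) (P : GL ι F)
    (f₁ : (Fin k → F) → (Fin k → F) → F) (hf₁ : Cfsg.Geo.IsSymmetricForm f₁)
    (hminus : k = 4 → ¬ Cfsg.Geo.IsPlusTypeOn (fun v : Fin k → F => f₁ v v) ⊤)
    (hT : Cfsg.Geo.IsTensorPowerFormStructure id (QuadraticMap.polar Q) f₁ e P) :
    Cfsg.Geo.IsMaximalIn (Cfsg.Geo.omegaGL Q)
      (Cfsg.Geo.tensorWreathSubgroup k t e P ⊓ Cfsg.Geo.omegaGL Q) := by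
  classical
  have hb := hQ.polar_bilinear
  have hself := Cfsg.Agent.Lib.Subspaces.OrthForm.B_self hQ
  have hQ0 : ∀ {p}, QuadraticMap.polar Q p p = 0 → Q p = 0 := fun {p} h => by
    rw [hself] at h
    exact (mul_eq_zero.1 h).resolve_left h2
  have hhalf : ∀ w, QuadraticMap.polar Q w w / 2 = Q w := fun w => by rw [hself]; field_simp
  have hsym : Sym f₁ :=
    ⟨{ invol := fun _ => rfl, lin := isLinearLeft_of_bilinear hf₁.bilinear
       swap := fun x y => by rw [RingHom.id_apply, one_mul]; exact (hf₁.symm x y).symm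
       nondeg := fun v hv => (hf₁.nondegenerate v hv).1 }, h2⟩
  have hpar : Par f₁ :=
    { sym := hsym, hk := hk
      big := hbig.symm.imp TensorOrthMax.OrthMain.exists_sq_ne id
      four := fun h4 v s hv hvv hss hsv => by
        by_contra hn'
        refine hminus h4 ⟨TensorOrthMax.Side.plane v s, le_top,
          fun x hx => hsym.iso_plane hvv hss hsv hx hx, ?_⟩
        rw [finrank_plane hv hn', finrank_top, Module.finrank_fintype_fun_eq_card, Fintype.card_fin, h4] }
  obtain ⟨c, hc, hcT⟩ := hT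
  set φ : GL (Fin t → Fin k) F ≃* GL ι F :=
    (Cfsg.Geo.glReindex (F := F) e.symm).trans (MulAut.conj P) with hφ
  -- coordinates
  let T : ((Fin t → Fin k) → F) →ₗ[F] (ι → F) :=
    (Matrix.mulVecLin (P : Matrix ι ι F)).comp (LinearMap.funLeft F F e)
  have hTapp : ∀ z, T z = (P : Matrix ι ι F) *ᵥ (z ∘ e) := fun z => rfl
  have hTinj : Function.Injective T := fun a b h => by
    have := gl_mulVec_injective P (show (P : Matrix ι ι F) *ᵥ (a ∘ e) = _ *ᵥ (b ∘ e) from h)
    funext p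
    simpa using congrFun this (e.symm p)
  have hTsurj : Function.Surjective T := fun x =>
    ⟨(((P⁻¹ : GL ι F) : Matrix ι ι F) *ᵥ x) ∘ e.symm, by
      rw [hTapp]
      conv_rhs => rw [← gl_mulVec_inv P x]
      congr 1
      funext i; simp⟩
  have hφT : ∀ g z, (φ g : Matrix ι ι F) *ᵥ T z =
      T ((g : Matrix (Fin t → Fin k) (Fin t → Fin k) F) *ᵥ z) := by
    intro g z
    rw [hTapp, hTapp]
    show ((P * Cfsg.Geo.glReindex e.symm g * P⁻¹ : GL ι F) : Matrix ι ι F) *ᵥ _ = _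
    rw [gl_mul_mulVec, gl_mul_mulVec, gl_inv_mulVec]
    congr 1
    show (Matrix.reindexAlgEquiv F F e.symm) (g : Matrix (Fin t → Fin k) (Fin t → Fin k) F) *ᵥ _ = _
    rw [Matrix.coe_reindexAlgEquiv, Matrix.reindex_apply, Equiv.symm_symm, Matrix.submatrix_mulVec_equiv]
    congr 1
    congr 1
    funext p; simp
  have hB : ∀ x y, QuadraticMap.polar Q (T x) (T y) = c * Bt f₁ x y := fun x y => by
    rw [hTapp, hTapp, hcT]
    congr 1
    simp only [Bt, dotProduct, Matrix.mulVec, Finset.mul_sum, pt_apply, id_eq, mul_assoc]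
  have hiso : ∀ g : GL (Fin t → Fin k) F, φ g ∈ Cfsg.isometryGroup F Q ↔ g ∈ isoB (Fin t) f₁ := by
    intro g
    constructor
    · intro hg x y
      refine mul_left_cancel₀ hc ?_
      have h : ∀ u, Q ((φ g : Matrix ι ι F) *ᵥ u) = Q u := fun u => hg u 0
      rw [← hB, ← hB, ← hφT, ← hφT]
      simp only [QuadraticMap.polar]
      rw [← mulVec_add, h, h, h]
    · intro hg u _
      obtain ⟨u, rfl⟩ := hTsurj u
      show Q ((φ g : Matrix ι ι F) *ᵥ T u) = Q (T u)
      rw [hφT, ← hhalf, hB, hg, ← hB, hhalf]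
  have hmem : ∀ x : GL (Fin t → Fin k) F,
      φ x ∈ Cfsg.Geo.tensorWreathSubgroup k t e P ↔ x ∈ stab (Fin t) k F := by
    intro x
    rw [← stab_eq]
    constructor
    · rintro ⟨y, ⟨z, hz, rfl⟩, hy⟩
      have : φ z = φ x := hy
      rwa [← φ.injective this]
    · exact fun hx => ⟨_, ⟨x, hx, rfl⟩, rfl⟩
  -- the Eichler maps in the coordinates
  have hsieg : ∀ {p w : (Fin t → Fin k) → F}, Bt f₁ p p = 0 → Bt f₁ w p = 0 → ∀ z,
      (Cfsg.Agent.Lib.Subspaces.OrthForm.sieg Q (T p) (T (c⁻¹ • w)) : Matrix ι ι F) *ᵥ T z =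
        T (phiB f₁ p w z) := by
    intro p w hp hw z
    rw [Cfsg.Agent.Lib.Subspaces.OrthForm.sieg_mulVec hQ (hQ0 (by rw [hB, hp, mul_zero]))
      (by rw [hB, Bt_smulL, hw, mul_zero, mul_zero]), ← hhalf]
    simp only [hB, Bt_smulL, Bt_smulR]
    simp only [phiB, map_sub, map_add, map_smul]
    match_scalars <;> field_simp <;> ring
  refine ⟨lt_of_le_of_ne inf_le_right fun heq => ?_, fun M hM hMle => ?_⟩
  · -- an Eichler map at a pure vector
    obtain ⟨v, v', Fm⟩ := exists_frame hpar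
    obtain ⟨z, hz, hzz⟩ := Frame.exists_aniso hpar Fm
    let a : Fin t := ⟨0, by omega⟩
    let b : Fin t := ⟨1, by omega⟩
    have hab : a ≠ b := by simp [a, b]
    set s : Fin t → Fin k → F := fun i => if i = a then z else if i = b then v else v'
    set p := pv fun _ : Fin t => v
    have hp : Bt f₁ p p = 0 := by rw [Bt_pv hsym]; exact Finset.prod_eq_zero (Finset.mem_univ a) Fm.vv
    have hsp : Bt f₁ (pv s) p = 0 := by
      rw [Bt_pv hsym]; exact Finset.prod_eq_zero (Finset.mem_univ a) (by simp [s, hz.1])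
    have hss : Bt f₁ (pv s) (pv s) = 0 := by
      rw [Bt_pv hsym]; exact Finset.prod_eq_zero (Finset.mem_univ b) (by simp [s, hab.symm, Fm.vv])
    have hg : Cfsg.Agent.Lib.Subspaces.OrthForm.sieg Q (T p) (T (c⁻¹ • pv s)) ∈ Cfsg.Geo.omegaGL Q :=
      Cfsg.Agent.Lib.Subspaces.OmegaGL.sieg_mem_omega hQ hn (hQ0 (by rw [hB, hp, mul_zero]))
        (by rw [hB, Bt_smulL, hsp, mul_zero, mul_zero])
    rw [← heq, Subgroup.mem_inf] at hg
    set g := φ.symm (Cfsg.Agent.Lib.Subspaces.OrthForm.sieg Q (T p) (T (c⁻¹ • pv s)))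
    obtain ⟨r, π, hr⟩ := (hmem g).1 (by rw [φ.apply_symm_apply]; exact hg.1)
    have h1 : (g : Matrix (Fin t → Fin k) (Fin t → Fin k) F) *ᵥ pv (fun _ => v') = phiB f₁ p (pv s) (pv fun _ => v') :=
      hTinj (by rw [← hφT, φ.apply_symm_apply, hsieg hp hsp])
    have h3 : Bt f₁ (pv fun _ : Fin t => v') (pv s) = 0 := by
      rw [Bt_pv hsym]; exact Finset.prod_eq_zero (Finset.mem_univ a) (by simpa [s] using (hsym.comm z v').trans hz.2)
    have h4 : Bt f₁ (pv fun _ : Fin t => v') p = 1 := by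
      rw [Bt_pv hsym]; exact Finset.prod_eq_one fun _ _ => Fm.pair' hsym
    rw [hr, tw_mulVec, phiB, h3, h4, hss, one_smul, zero_smul, zero_div, zero_mul, zero_smul, sub_zero, sub_zero,
      ← one_smul F (pv fun _ : Fin t => v'), ← one_smul F (pv s)] at h1
    have hzne : z ≠ 0 := fun e => hzz (by rw [e, hsym.zeroL])
    refine not_pure_of_two one_ne_zero one_ne_zero h1.symm (fun _ => Fm.ne' hsym) (fun i => ?_) hab ?_ ?_ ?_
    · simp only [s]
      split_ifs
      exacts [hzne, Fm.ne hsym, Fm.ne' hsym]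
    · intro h
      obtain ⟨d, hd⟩ := Submodule.mem_span_singleton.1 h
      simp only [s, if_pos] at hd
      exact hzz (by rw [← hd, hsym.smulL, hsym.smulR, Fm.v'v', mul_zero, mul_zero])
    · intro h
      obtain ⟨d, hd⟩ := Submodule.mem_span_singleton.1 h
      simp only [s, if_pos] at hd
      have h5 := Fm.pair' hsym
      rw [← hd, hsym.smulL, hz.1, mul_zero] at h5
      exact zero_ne_one h5
    · intro h
      obtain ⟨d, hd⟩ := Submodule.mem_span_singleton.1 h
      simp only [s, if_neg hab.symm, if_pos] at hd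
      have h5 := Fm.pair
      rw [← hd, hsym.smulL, Fm.v'v', mul_zero] at h5
      exact zero_ne_one h5
  · set M' := M.comap φ.toMonoidHom with hM'
    have hΩ : Cfsg.Geo.omegaGL Q ≤ Cfsg.isometryGroup F Q := by
      rintro _ ⟨x, -, rfl⟩
      exact x.2
    have hin : ∀ g : GL (Fin t → Fin k) F, g ∈ stab (Fin t) k F → φ g ∈ Cfsg.Geo.omegaGL Q → g ∈ M' :=
      fun g h1 h2 => hM ⟨(hmem g).2 h1, h2⟩
    have S : Setting f₁ M' :=
      { par := hpar
        hι := by rw [Fintype.card_fin]; exact ht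
        iso := fun g hg => (hiso g).1 (hΩ (hMle (show φ g ∈ M from hg)))
        sq := fun g hg => hin _ (mul_mem hg.1 hg.1) (by
          rw [map_mul]; exact TensorOrthMax.Main.sq_mem_omega hQ h2 ((hiso g).2 hg.2))
        comm := fun g hg h hh => hin _ (mul_mem (mul_mem (mul_mem hg.1 hh.1) (inv_mem hg.1)) (inv_mem hh.1)) (by
          rw [map_mul, map_mul, map_mul, map_inv, map_inv]
          exact ⟨⁅(⟨φ g, (hiso g).2 hg.2⟩ : Cfsg.isometryGroup F Q), ⟨φ h, (hiso h).2 hh.2⟩⁆,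
            Subgroup.commutator_mem_commutator (Subgroup.mem_top _) (Subgroup.mem_top _), rfl⟩) }
    rcases dichotomy _ (Fin t) rfl M' S with hle | hall
    · refine Or.inl (le_antisymm (fun x hx => ⟨?_, hMle hx⟩) hM)
      have := (hmem _).2 (hle (show φ.symm x ∈ M' by show φ (φ.symm x) ∈ M; rwa [φ.apply_symm_apply]))
      rwa [φ.apply_symm_apply] at this
    · refine Or.inr (le_antisymm hMle (Cfsg.Agent.Lib.Subspaces.OmegaGL.omega_le hQ hn fun u w hu hw => ?_))
      obtain ⟨p, rfl⟩ := hTsurj u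
      obtain ⟨w, rfl⟩ := hTsurj w
      have hp : Bt f₁ p p = 0 := (mul_eq_zero.1 (by rw [← hB, hself, hu, mul_zero])).resolve_left hc
      have hwp : Bt f₁ (c • w) p = 0 := by
        rw [Bt_smulL, ← hB]; exact hw
      obtain ⟨g, hg, hgy⟩ := hall p (c • w) hp hwp
      have he : Cfsg.Agent.Lib.Subspaces.OrthForm.sieg Q (T p) (T w) = φ g := gl_ext fun x => by
        obtain ⟨x, rfl⟩ := hTsurj x
        rw [hφT, hgy, ← hsieg hp hwp, inv_smul_smul₀ hc]
      rw [he]; exact hg

end Cfsg.Agent.Lib.TensorPowerOrth.Main
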