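import Cfsg.Agent.Lib.TensorPowerOrth.Vanish

/-!
Radical elements other than root elements give central elements.
-/

set_option autoImplicit false
set_option linter.unusedSectionVars false
set_option linter.style.haveILetI false

namespace Cfsg.Agent.Lib.TensorPowerOrth.NoCentral

open Matrix
open Cfsg.Agent.Lib.Subspaces.Transvection Cfsg.Agent.Lib.Subspaces.FormVec
  Cfsg.Agent.Lib.TensorPowerMax.Basic Cfsg.Agent.Lib.TensorOrthMax.Side Cfsg.Agent.Lib.TensorOrthMax.Setup
  Cfsg.Agent.Lib.TensorPowerOrth.Form Cfsg.Agent.Lib.TensorPowerOrth.Frame Cfsg.Agent.Lib.TensorPowerOrth.Roots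
  Cfsg.Agent.Lib.TensorPowerOrth.Skew Cfsg.Agent.Lib.TensorPowerOrth.Kron Cfsg.Agent.Lib.TensorPowerOrth.Block
  Cfsg.Agent.Lib.TensorPowerOrth.Upper Cfsg.Agent.Lib.TensorPowerOrth.Slot Cfsg.Agent.Lib.TensorPowerOrth.Slice
  Cfsg.Agent.Lib.TensorPowerOrth.Rad Cfsg.Agent.Lib.TensorPowerOrth.Steps Cfsg.Agent.Lib.TensorPowerOrth.Tuples
  Cfsg.Agent.Lib.TensorPowerOrth.Pairing

variable {ι : Type} [Fintype ι] [DecidableEq ι] {k : ℕ} {F : Type*} [Field F]

local notation "A1" => Matrix (Fin k) (Fin k) F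
local notation "Big" => Matrix (ι → Fin k) (ι → Fin k) F
local notation "GG" => GL (ι → Fin k) F
local notation "W1" => Fin k → F

variable {f : (Fin k → F) → (Fin k → F) → F} {M : Subgroup (GL (ι → Fin k) F)} {v v' : Fin k → F}

theorem stable_logs (S : Setting f M) (NC : NoC f M) (Fm : Fr f v v') {a j : ι} (h : a ≠ j) :
    Stable f M a (logs (j := j) S.sym Fm.vv NC Fm) := fun g _ hg _ hX =>
  Lg.conj S.sym (S.iso hg) hg (maps_ne h (Fm.ne S.sym) g) hX

/-- Away from its block the slices of a logarithm are scalars plus skew matrices. -/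
theorem skew_slices [Fintype F] (S : Setting f M) (NC : NoC f M) (Fm : Fr f v v') {j : ι} {L : Big}
    (hL : Lg f M j v L) {a : ι} (ha : a ≠ j) : ∀ r s, ∃ c : F, sl a r s L - c • 1 ∈ skew S.sym := by
  intro r s
  refine split_skew S.par fun u huu => ?_
  by_contra hne
  obtain ⟨Y, hY, hYE, hY0, -⟩ := toE S Fm (stable_logs S NC Fm ha) (G := logs (j := j) S.sym Fm.vv NC Fm) hL huu hne
  obtain ⟨C, hC⟩ := kr_of_slices a (Y := vecMulVec v (formVec f v)) (X := Y) fun r' s' => by
    obtain ⟨c, hc⟩ := Submodule.mem_span_singleton.1 (mem_SlIn.1 hYE r' s')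
    exact ⟨c, hc.symm⟩
  obtain ⟨-, x, hx, hxe⟩ := hY
  have h2 : Y * Y = 0 := by rw [hC, kr_mul, E_sq S.sym Fm.vv, kr_zero_right]
  have hC0 := NC x hx a v (Fm.ne S.sym) Fm.vv C (by rw [hxe, ex, h2, smul_zero, add_zero, hC])
  exact hY0 (by rw [hC, hC0, kr_zero_left])

/-- A logarithm with scalar slices away from its block belongs to a root element. -/
theorem root_of_scalar [Fintype F] (S : Setting f M) (Fm : Fr f v v') {j : ι} {L : Big} (hL : RadL f j v L)
    (h : ∀ a, a ≠ j → L ∈ SlIn a (Submodule.span F {(1 : A1)})) {x : GG} (hx : (x : Big) = ex L) :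
    ∃ z, f z v = 0 ∧ x = rt f j v z := by
  classical
  have hf := S.sym
  haveI := S.rest_nonempty j
  have hcomm : ∀ (a : ι) (D : A1), a ≠ j → oneM a D * L = L * oneM a D := fun a D ha => sl_ext a fun r s => by
    obtain ⟨c, hc⟩ := Submodule.mem_span_singleton.1 (mem_SlIn.1 (h a ha) r s)
    rw [sl_mul_left, sl_mul_right, ← hc, Matrix.mul_smul, Matrix.smul_mul, mul_one, one_mul]
  have hC : ∀ b c, ∃ d : F, Matrix.of (fun r s => sl j r s L b c) =
      d • (1 : Matrix ({i // i ≠ j} → Fin k) ({i // i ≠ j} → Fin k) F) := by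
    intro b c
    refine Alg.scalar_of_commute fun i D => ?_
    ext r s
    have h1 := congrArg (fun X : Big => sl j r s X b c) (hcomm i.1 D i.2)
    rw [sl_mul_left_ne i.2, sl_mul_right_ne i.2] at h1
    simp only [Matrix.sum_apply, Matrix.smul_apply, smul_eq_mul] at h1
    simp only [Matrix.mul_apply, Matrix.of_apply, Subtype.coe_eta]
    rw [Finset.sum_congr rfl fun x _ => mul_comm (sl j r x L b c) _]
    exact h1.symm
  choose d hd using hC
  set K : A1 := Matrix.of d
  have hLK : L = kr j 1 K := sl_ext j fun r s => by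
    ext b c
    have h1 := congrFun (congrFun (hd b c) r) s
    simp only [Matrix.of_apply, Matrix.smul_apply, smul_eq_mul] at h1
    rw [sl_kr, Matrix.smul_apply, smul_eq_mul, h1, mul_comm]
    rfl
  rw [kr_one_left] at hLK
  have hK : K ∈ skew hf := by
    obtain ⟨u', hu'⟩ : ∃ u', Bt f (fun _ : {i // i ≠ j} → Fin k => (1 : F)) u' ≠ 0 := by
      by_contra hne
      push Not at hne
      exact one_ne_zero (congrFun (Bt_nondeg hf fun x => by rw [Bt_comm hf]; exact (by
        have := hne x; exact this) : (fun _ : {i // i ≠ j} → Fin k => (1 : F)) = 0) (Classical.arbitrary _))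
    intro x y
    have h1 := hL.skew (ins j x fun _ => 1) (ins j y u')
    rw [hLK, TensorPowerMax.Roots.oneM_mulVec_ins, TensorPowerMax.Roots.oneM_mulVec_ins, Bt_ins_ins hf,
      Bt_ins_ins hf, ← add_mul, mul_eq_zero] at h1
    exact h1.resolve_right hu'
  have hsl : ∀ r s, ∃ c : F, sl j r s L - c • 1 ∈ skew hf := fun r s => ⟨0, by
    rw [zero_smul, sub_zero, hLK, ← kr_one_left, sl_kr]; exact Submodule.smul_mem _ _ hK⟩
  obtain ⟨z, hz, hzK⟩ : ∃ z, f z v = 0 ∧ K = wd f v z := by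
    refine (mem_Wsp hf).1 ?_
    have := mem_SlIn.1 (rad_slices S.par Fm hL hsl) (fun _ => ⟨0, by have := S.hk; omega⟩) fun _ => ⟨0, by have := S.hk; omega⟩
    rwa [hLK, ← kr_one_left, sl_kr, Matrix.one_apply_eq, one_smul] at this
  refine ⟨-z, by rw [hf.negL, hz, neg_zero], Units.ext ?_⟩
  rw [coe_rt hf j Fm.vv (by rw [hf.negL, hz, neg_zero]), eN_eq hf Fm.vv (by rw [hf.negL, hz, neg_zero]),
    wd_negR hf, neg_neg, neg_mul_neg, oneM_add, oneM_smul, ← oneM_mul, ← hzK, ← hLK, hx, ex, add_assoc]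

/-- Radical elements other than root elements give central elements. -/
theorem exists_central [Fintype F] (S : Setting f M) (h : ¬ NoRad f M) : ¬ NoC f M := by
  classical
  intro NC
  refine h fun x hx j v hv hvv hR => ?_
  by_contra hno
  have hf := S.sym
  obtain ⟨v', Fm⟩ := exists_frame_of S.par hv hvv
  obtain ⟨L0, hL0, hxe⟩ := exists_log hf hvv (S.iso hx) hR
  have hlg : Lg f M j v L0 := ⟨hL0, x, hx, hxe⟩
  obtain ⟨a, ha, hns⟩ : ∃ a, a ≠ j ∧ L0 ∉ SlIn a (Submodule.span F {(1 : A1)}) := by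
    by_contra hc
    push Not at hc
    exact hno (root_of_scalar S Fm hL0 hc hxe)
  obtain ⟨Y, hY, hYa, hY0, -⟩ := toW S Fm (stable_logs S NC Fm ha) (G := logs (j := j) S.sym Fm.vv NC Fm) hlg
    (skew_slices S NC Fm hlg ha) hns
  have hat : ∀ {X : Big} {b : ι}, Lg f M j v X → X ∈ SlIn b (Wsp f v) → Lg f M b v X := fun {X b} hX hXb =>
    ⟨radL_of_Wsp hf Fm hX.1.skew hXb, hX.2⟩
  have hYj : Y ∈ SlIn j (Wsp f v) :=
    rad_slices S.par Fm hY.1 (skew_slices S NC Fm (hat hY hYa) (Ne.symm ha))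
  -- reduce the remaining factors one by one
  have key : ∀ T : Finset ι, ∃ X : Big, Lg f M j v X ∧ X ≠ 0 ∧ X ∈ SlIn j (Wsp f v) ∧ X ∈ SlIn a (Wsp f v) ∧
      ∀ l ∈ T, X ∈ SlIn l (Wsp f v) ∨ X ∈ SlIn l (Submodule.span F {(1 : A1)}) := by
    intro T
    induction T using Finset.induction_on with
    | empty => exact ⟨Y, hY, hY0, hYj, hYa, fun l hl => absurd hl (Finset.notMem_empty l)⟩
    | insert l T _ ih =>
      obtain ⟨X, hX, hX0, hXj, hXa, hXT⟩ := ih
      by_cases hsc : X ∈ SlIn l (Submodule.span F {(1 : A1)})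
      · refine ⟨X, hX, hX0, hXj, hXa, fun i hi => ?_⟩
        rcases Finset.mem_insert.1 hi with rfl | hi
        · exact Or.inr hsc
        · exact hXT i hi
      by_cases hlj : l = j
      · refine ⟨X, hX, hX0, hXj, hXa, fun i hi => ?_⟩
        rcases Finset.mem_insert.1 hi with rfl | hi
        · exact Or.inl (hlj ▸ hXj)
        · exact hXT i hi
      by_cases hla : l = a
      · refine ⟨X, hX, hX0, hXj, hXa, fun i hi => ?_⟩
        rcases Finset.mem_insert.1 hi with rfl | hi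
        · exact Or.inl (hla ▸ hXa)
        · exact hXT i hi
      obtain ⟨Z, hZ, hZl, hZ0, hkeep⟩ := toW S Fm (stable_logs S NC Fm hlj) (G := logs (j := j) S.sym Fm.vv NC Fm)
        hX (skew_slices S NC Fm hX hlj) hsc
      refine ⟨Z, hZ, hZ0, hkeep j hlj _ hXj, hkeep a hla _ hXa, fun i hi => ?_⟩
      by_cases hil : i = l
      · exact Or.inl (hil ▸ hZl)
      rcases hXT i (Finset.mem_of_mem_insert_of_ne hi hil) with h1 | h1
      · exact Or.inl (hkeep i (Ne.symm hil) _ h1)
      · exact Or.inr (hkeep i (Ne.symm hil) _ h1)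
  obtain ⟨X, hX, hX0, hXj, hXa, hXall⟩ := key Finset.univ
  refine hX0 (Vanish.eq_zero S NC Fm (S := Finset.univ.filter fun l => X ∈ SlIn l (Wsp f v))
    ⟨fun b hb => hat hX (Finset.mem_filter.1 hb).2, fun l hl => (Finset.mem_filter.1 hl).2,
      fun l hl => (hXall l (Finset.mem_univ l)).resolve_left fun e => hl (Finset.mem_filter.2 ⟨Finset.mem_univ l, e⟩)⟩ ?_)
  exact Finset.one_lt_card.2 ⟨j, Finset.mem_filter.2 ⟨Finset.mem_univ j, hXj⟩, a,
    Finset.mem_filter.2 ⟨Finset.mem_univ a, hXa⟩, Ne.symm ha⟩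

end Cfsg.Agent.Lib.TensorPowerOrth.NoCentral
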