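import Cfsg.Agent.Lib.TensorPowerOrth.Tuples

/-!
Logarithms radical at several factors with root slices there and scalar slices elsewhere vanish when they
commute with their conjugates.
-/

set_option autoImplicit false
set_option linter.unusedSectionVars false

namespace Cfsg.Agent.Lib.TensorPowerOrth.Pairing

open Matrix
open Cfsg.Agent.Lib.Subspaces.Transvection Cfsg.Agent.Lib.Subspaces.FormVec
  Cfsg.Agent.Lib.TensorPowerMax.Basic Cfsg.Agent.Lib.TensorOrthMax.Side Cfsg.Agent.Lib.TensorOrthMax.Setup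
  Cfsg.Agent.Lib.TensorPowerOrth.Form Cfsg.Agent.Lib.TensorPowerOrth.Frame Cfsg.Agent.Lib.TensorPowerOrth.Roots
  Cfsg.Agent.Lib.TensorPowerOrth.Skew Cfsg.Agent.Lib.TensorPowerOrth.Kron Cfsg.Agent.Lib.TensorPowerOrth.Block
  Cfsg.Agent.Lib.TensorPowerOrth.Upper Cfsg.Agent.Lib.TensorPowerOrth.Slot Cfsg.Agent.Lib.TensorPowerOrth.Slice
  Cfsg.Agent.Lib.TensorPowerOrth.Rad Cfsg.Agent.Lib.TensorPowerOrth.Steps Cfsg.Agent.Lib.TensorPowerOrth.Tuples
open Cfsg.Agent.Lib.TensorSympMax.Quad (Maps)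

variable {ι : Type} [Fintype ι] [DecidableEq ι] {k : ℕ} {F : Type*} [Field F]

local notation "A1" => Matrix (Fin k) (Fin k) F
local notation "Big" => Matrix (ι → Fin k) (ι → Fin k) F
local notation "GG" => GL (ι → Fin k) F
local notation "G1" => GL (Fin k) F
local notation "W1" => Fin k → F
local notation "Vec" => (ι → Fin k) → F

variable {f : (Fin k → F) → (Fin k → F) → F}

/-- The data: a logarithm with root slices at the factors in `S` and scalar slices at the others. -/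
structure Pure (f : (Fin k → F) → (Fin k → F) → F) (M : Subgroup (GL (ι → Fin k) F)) (v : Fin k → F)
    (S : Finset ι) (L : Matrix (ι → Fin k) (ι → Fin k) F) : Prop where
  lg : ∀ b ∈ S, Lg f M b v L
  ins : ∀ l ∈ S, L ∈ SlIn l (Wsp f v)
  out : ∀ l ∉ S, L ∈ SlIn l (Submodule.span F {(1 : Matrix (Fin k) (Fin k) F)})

/-- The test vector: `v'` at the factors in `S`, a fixed vector elsewhere. -/
def base (S : Finset ι) (v' e : Fin k → F) : ι → Fin k → F := fun l => if l ∈ S then v' else e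

variable {M : Subgroup (GL (ι → Fin k) F)} {v v' : Fin k → F} {S : Finset ι} {L : Matrix (ι → Fin k) (ι → Fin k) F}

theorem base_in {e : W1} {l : ι} (h : l ∈ S) : base S v' e l = v' := if_pos h

theorem base_out {e : W1} {l : ι} (h : l ∉ S) : base S v' e l = e := if_neg h

/-- At a factor in `S`, maps agreeing on the orthogonal of the frame agree on the image of the test vector. -/
theorem slot_congr (hf : Sym f) (Fm : Fr f v v') {l : ι} (hL : L ∈ SlIn l (Wsp f v)) {A B : A1}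
    (h : ∀ y, Per f v v' y → A *ᵥ y = B *ᵥ y) {s : ι → W1} (hs : s l = v') :
    oneM l A *ᵥ (L *ᵥ pv s) = oneM l B *ᵥ (L *ᵥ pv s) := by
  rw [mulVec_mulVec, mulVec_mulVec, ← ins_pv l s, hs]
  refine mulVec_congr l (fun r c => ?_) _
  obtain ⟨z, hz, e⟩ := (mem_Wsp hf).1 (mem_SlIn.1 hL r c)
  rw [sl_mul_left, sl_mul_left, ← mulVec_mulVec, ← mulVec_mulVec, e]
  refine h _ ⟨?_, ?_⟩ <;> simp only [wd_mulVec hf, hf.subL, hf.smulL, hz, Fm.vv, Fm.pair, Fm.pair' hf,
    hf.comm z v'] <;> ring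

/-- Reflections and Weyl elements agree on the image of the test vector. -/
theorem tuple_congr (hf : Sym f) (Fm : Fr f v v') (hins : ∀ l ∈ S, L ∈ SlIn l (Wsp f v)) (A B : ι → A1)
    {T : Finset ι} (hTS : T ⊆ S) (h : ∀ l ∈ T, ∀ y, Per f v v' y → A l *ᵥ y = B l *ᵥ y) {s : ι → W1}
    (hs : ∀ l ∈ S, s l = v') :
    pt (fun l => if l ∈ T then A l else 1) *ᵥ (L *ᵥ pv s) = pt (fun l => if l ∈ T then B l else 1) *ᵥ (L *ᵥ pv s) := by
  induction T using Finset.induction_on with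
  | empty => simp
  | insert l T hl ih =>
    have hlS : l ∈ S := hTS (Finset.mem_insert_self l T)
    have ih' := ih (fun i hi => hTS (Finset.mem_insert_of_mem hi)) fun i hi => h i (Finset.mem_insert_of_mem hi)
    have e : ∀ C : ι → A1, Function.update (fun i => if i ∈ insert l T then C i else 1) l 1 =
        fun i => if i ∈ T then C i else 1 := fun C => funext fun i => by
      by_cases hi : i = l
      · subst hi; simp [hl]
      · simp [hi]
    rw [pt_split' l (fun i => if i ∈ insert l T then A i else 1),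
      pt_split l (fun i => if i ∈ insert l T then B i else 1)]
    simp only [e, if_pos (Finset.mem_insert_self l T)]
    have hcomm : pt (fun i => if i ∈ T then A i else 1) * oneM l (B l) =
        oneM l (B l) * pt (fun i => if i ∈ T then A i else 1) := by
      rw [oneM, pt_mul, pt_mul]
      congr 1
      funext i
      by_cases hi : i = l
      · subst hi; simp [hl]
      · simp [hi]
    calc (pt (fun i => if i ∈ T then A i else 1) * oneM l (A l)) *ᵥ (L *ᵥ pv s)
        = pt (fun i => if i ∈ T then A i else 1) *ᵥ (oneM l (B l) *ᵥ (L *ᵥ pv s)) := by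
          rw [← mulVec_mulVec, slot_congr hf Fm (hins l hlS) (h l (Finset.mem_insert_self l T)) (hs l hlS)]
      _ = oneM l (B l) *ᵥ (pt (fun i => if i ∈ T then A i else 1) *ᵥ (L *ᵥ pv s)) := by
          rw [mulVec_mulVec, hcomm, ← mulVec_mulVec]
      _ = _ := by rw [ih', mulVec_mulVec]

/-- A Weyl element of one factor. -/
theorem exists_weyl (S0 : Setting f M) (Fm : Fr f v v') {z : W1} (hz : Per f v v' z) (hzz : f z z ≠ 0) (a : ι) :
    ∃ g : G1, g ∈ isoF f ∧ oneGL a g ∈ M ∧ (∃ μ : F, μ ≠ 0 ∧ (g : A1) *ᵥ v = μ • v') ∧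
      (∃ μ : F, μ ≠ 0 ∧ (g : A1) *ᵥ v' = μ • v) ∧
      ∀ y, Per f v v' y → (g : A1) *ᵥ y = y - (2 * f y z / f z z) • z := by
  have hf := S0.sym
  have hz' : f ((2 / f z z) • z) v' = 0 := by rw [hf.smulL, hz.2, mul_zero]
  obtain ⟨e1, e2, e3⟩ := weyl hf Fm hz hzz
  refine ⟨_, mul_mem (mul_mem (er_iso hf Fm.vv hz.1) (er_iso hf Fm.v'v' hz')) (er_iso hf Fm.vv hz.1), ?_,
    ⟨_, neg_ne_zero.2 (div_ne_zero hf.two hzz), e1⟩, ⟨_, neg_ne_zero.2 (div_ne_zero hzz hf.two), e2⟩, e3⟩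
  rw [← oneGL_mul, ← oneGL_mul]
  exact mul_mem (mul_mem (S0.rt_mem a Fm.vv hz.1) (S0.rt_mem a Fm.v'v' hz')) (S0.rt_mem a Fm.vv hz.1)

theorem gl_inv_line {g : G1} {x y : W1} {μ : F} (hμ : μ ≠ 0) (h : (g : A1) *ᵥ x = μ • y) :
    (g⁻¹).val *ᵥ y = μ⁻¹ • x := by
  refine gl_mulVec_injective g ?_
  show (g : A1) *ᵥ _ = (g : A1) *ᵥ _
  rw [gl_mulVec_inv, mulVec_smul, h, inv_smul_smul₀ hμ]

/-- The image of the test vector is orthogonal to its images under Weyl elements. -/
theorem orth (S0 : Setting f M) (NC : NoC f M) (Fm : Fr f v v') {e : W1} (hP : Pure f M v S L) {L' : Big}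
    {T : Finset ι} (hTS : T ⊆ S) {b : ι} (hb : b ∈ S) (hbT : b ∉ T) {l0 : ι} (hl0 : l0 ∈ T)
    (hL' : Lg f M b v L') (hins' : ∀ l ∈ T, L' ∈ SlIn l (Wsp f v)) {g : ι → G1} (hg : ∀ l, g l ∈ isoF f)
    (hgM : ∀ l, oneGL l (g l) ∈ M) (hg1 : ∀ l ∈ T, ∃ μ : F, μ ≠ 0 ∧ (g l : A1) *ᵥ v = μ • v')
    (hg2 : ∀ l ∈ T, ∃ μ : F, μ ≠ 0 ∧ (g l : A1) *ᵥ v' = μ • v) :
    Bt f (L *ᵥ pv (base S v' e))
      (pt (fun l => if l ∈ T then (g l : A1) else 1) *ᵥ (L' *ᵥ pv (base S v' e))) = 0 := by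
  classical
  have hf := S0.sym
  set gT : ι → G1 := fun l => if l ∈ T then g l else 1 with hgT
  set G : GG := ptGL gT
  have hcoe : (G : Big) = pt fun l => if l ∈ T then (g l : A1) else 1 := by
    rw [coe_ptGL]; congr 1; funext l; simp only [gT]; split_ifs <;> simp
  have hGM : G ∈ M := ptGL_mem fun l => by
    simp only [gT]; split_ifs
    · exact hgM l
    · rw [oneGL_one]; exact one_mem _
  have hGi : G ∈ isoB ι f := ptGL_iso1 hf fun l => by
    simp only [gT]; split_ifs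
    · exact hg l
    · exact one_mem _
  have hmaps : Maps G b v b v := maps_tuple (Fm.ne hf) (μ := 1) (by simp [gT, hbT])
  set L'' : Big := (G : Big) * L' * ((G⁻¹ : GG) : Big)
  have hL'' : Lg f M b v L'' := Lg.conj hf hGi hGM hmaps hL'
  have hcomm := Lg.comm hf Fm.vv NC Fm (hP.lg b hb) hL''
  set p := pv (base S v' e)
  have hl0S := hTS hl0
  have hkill1 : L *ᵥ ((G : Big) *ᵥ p) = 0 := by
    obtain ⟨μ, hμ, hμv⟩ := hg2 l0 hl0
    refine RadL.kill hf Fm.vv (radL_of_Wsp hf Fm (hP.lg b hb).1.skew (hP.ins l0 hl0S)) ?_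
    rw [hcoe, pt_mulVec, ← ins_pv l0]
    simp only [if_pos hl0, base_in hl0S, hμv, ins_smul]
    exact Submodule.smul_mem _ _ (LinearMap.mem_range_self _ _)
  have hkill2 : L'' *ᵥ p = 0 := by
    obtain ⟨μ, hμ, hμv⟩ := hg1 l0 hl0
    have h0 : L' *ᵥ (((G⁻¹ : GG) : Big) *ᵥ p) = 0 := by
      refine RadL.kill hf Fm.vv (radL_of_Wsp hf Fm hL'.1.skew (hins' l0 hl0)) ?_
      rw [show G⁻¹ = ptGL gT⁻¹ from (map_inv ptGL gT).symm, coe_ptGL, pt_mulVec, ← ins_pv l0]
      simp only [Pi.inv_apply, gT, if_pos hl0, base_in hl0S, gl_inv_line hμ hμv, ins_smul]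
      exact Submodule.smul_mem _ _ (LinearMap.mem_range_self _ _)
    rw [← mulVec_mulVec, ← mulVec_mulVec, h0, mulVec_zero]
  have hGL : (G : Big) *ᵥ (L' *ᵥ p) = L'' *ᵥ ((G : Big) *ᵥ p) := by
    simp only [L'', ← mulVec_mulVec, gl_inv_mulVec]
  have h1 := (hP.lg b hb).1.skew p (L'' *ᵥ ((G : Big) *ᵥ p))
  have h2 : Bt f p (L *ᵥ (L'' *ᵥ ((G : Big) *ᵥ p))) = 0 := by
    rw [mulVec_mulVec, hcomm, ← mulVec_mulVec, hkill1, mulVec_zero, Bt_zeroR]
  rw [← hcoe, hGL]
  linear_combination h1 - h2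

theorem conj_lg (hf : Sym f) (Fm : Fr f v v') {a b : ι} (hba : b ≠ a) {g : G1} (hg : g ∈ isoF f) {K : GG}
    (hK : K ∈ M) (hKi : K ∈ isoB ι f) (he : K = oneGL a g) (hP : Lg f M b v L) :
    Lg f M b v ((K : Big) * L * ((K⁻¹ : GG) : Big)) :=
  Lg.conj hf hKi hK (he ▸ maps_ne (Ne.symm hba) (Fm.ne hf) g) hP

/-- All pairings of the image of the test vector with its images under reflections vanish. -/
theorem refl_orth (S0 : Setting f M) (NC : NoC f M) (Fm : Fr f v v') {e : W1} (hP : Pure f M v S L)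
    (hS : 3 ≤ S.card) {z : ι → W1} (hz : ∀ l, Per f v v' (z l)) (hzz : ∀ l, f (z l) (z l) ≠ 0)
    {R : ι → A1} (hR : ∀ l x, R l *ᵥ x = x - (2 * f x (z l) / f (z l) (z l)) • z l) {T : Finset ι} (hT : T ⊆ S) :
    Bt f (L *ᵥ pv (base S v' e)) (pt (fun l => if l ∈ T then R l else 1) *ᵥ (L *ᵥ pv (base S v' e))) = 0 := by
  classical
  have hf := S0.sym
  set s0 := base S v' e
  have hs0 : ∀ l ∈ S, s0 l = v' := fun l hl => base_in hl
  set Ψ := L *ᵥ pv s0 with hΨ
  have hW : ∀ w : ι → W1, (∀ l, Per f v v' (w l)) → (∀ l, f (w l) (w l) ≠ 0) → ∃ g : ι → G1,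
      (∀ l, g l ∈ isoF f) ∧ (∀ l, oneGL l (g l) ∈ M) ∧ (∀ l, ∃ μ : F, μ ≠ 0 ∧ (g l : A1) *ᵥ v = μ • v') ∧
      (∀ l, ∃ μ : F, μ ≠ 0 ∧ (g l : A1) *ᵥ v' = μ • v) ∧
      ∀ l y, Per f v v' y → (g l : A1) *ᵥ y = y - (2 * f y (w l) / f (w l) (w l)) • w l := by
    intro w hw hww
    choose g h1 h2 h3 h4 h5 using fun l => exists_weyl S0 Fm (hw l) (hww l) l
    exact ⟨g, h1, h2, h3, h4, h5⟩
  obtain ⟨g, hg, hgM, hg1, hg2, hgy⟩ := hW z hz hzz
  have hgR : ∀ {T0 : Finset ι}, T0 ⊆ S → ∀ {L' : Big}, (∀ l ∈ S, L' ∈ SlIn l (Wsp f v)) →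
      pt (fun l => if l ∈ T0 then (g l : A1) else 1) *ᵥ (L' *ᵥ pv s0) =
        pt (fun l => if l ∈ T0 then R l else 1) *ᵥ (L' *ᵥ pv s0) := fun h L' h' =>
    tuple_congr hf Fm h' _ _ h (fun l _ y hy => by rw [hgy l y hy, hR]) hs0
  by_cases hTe : T = ∅
  · -- two reflections at one vector cancel
    obtain ⟨a, ha, b, hb, hab⟩ := Finset.one_lt_card.1 (show 1 < S.card by omega)
    obtain ⟨c, hc, hca, hcb⟩ : ∃ c ∈ S, c ≠ a ∧ c ≠ b := by
      by_contra hne
      push Not at hne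
      have : S ⊆ {a, b} := fun i hi => by
        by_cases hia : i = a
        · simp [hia]
        · simp [hne i hi hia]
      have := Finset.card_le_card this
      have := Finset.card_le_two (a := a) (b := b)
      omega
    obtain ⟨r, hr, hri, hrx⟩ := exists_refl hf (hzz a)
    set H : GG := oneGL a r * oneGL b r⁻¹
    have hH : H ∈ M := S0.pair_mem (Ne.symm hab) hr
    have hHi : H ∈ isoB ι f := S0.iso hH
    have hrv : (r : A1) *ᵥ v = (1 : F) • v := by rw [hrx, hf.comm (z a) v, (hz a).1, mul_zero, zero_div, zero_smul, sub_zero, one_smul]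
    have hrv' : (r : A1) *ᵥ v' = v' := by rw [hrx, hf.comm (z a) v', (hz a).2, mul_zero, zero_div, zero_smul, sub_zero]
    set L' : Big := (H : Big) * L * ((H⁻¹ : GG) : Big)
    have hL'lg : Lg f M c v L' := Lg.conj hf hHi hH (by
      rw [show H = ptGL (Function.update (1 : ι → G1) a r * Function.update (1 : ι → G1) b r⁻¹) by rw [map_mul]; rfl]
      exact maps_tuple (Fm.ne hf) (μ := 1) (by simp [hca, hcb])) (hP.lg c hc)
    have hHw : L' = (oneGL a r : Big) * ((oneGL b r⁻¹ : Big) * L * ((oneGL b r⁻¹)⁻¹).val) * ((oneGL a r)⁻¹).val := by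
      simp only [L', H, Units.val_mul, _root_.mul_inv_rev, mul_assoc]
    have hins' : ∀ l ∈ S, L' ∈ SlIn l (Wsp f v) := fun l hl => by
      have h1 : (oneGL b r⁻¹ : Big) * L * ((oneGL b r⁻¹)⁻¹).val ∈ SlIn l (Wsp f v) := by
        by_cases hlb : b = l
        · subst hlb
          refine mem_SlIn.2 fun x y => ?_
          rw [sl_conj]
          exact Wsp_conj hf (inv_mem hr) one_ne_zero (by rw [hri]; exact hrv) (mem_SlIn.1 (hP.ins b hl) x y)
        · exact SlIn.conj_ne hlb (hP.ins l hl) _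
      rw [hHw]
      by_cases hla : a = l
      · subst hla
        refine mem_SlIn.2 fun x y => ?_
        rw [sl_conj]
        exact Wsp_conj hf hr one_ne_zero hrv (mem_SlIn.1 h1 x y)
      · exact SlIn.conj_ne hla h1 _
    set w : ι → W1 := fun _ => z a
    obtain ⟨g', hg', hgM', hg1', hg2', hgy'⟩ := hW w (fun _ => hz a) (fun _ => hzz a)
    have h0 := orth (e := e) S0 NC Fm hP (T := {a, b}) (by simp [Finset.insert_subset_iff, ha, hb]) hc
      (by simp [hca, hcb]) (Finset.mem_insert_self a {b}) hL'lg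
      (fun l hl => hins' l (by rcases Finset.mem_insert.1 hl with rfl | hl'; exacts [ha, by rwa [Finset.mem_singleton.1 hl']]))
      hg' hgM' (fun l _ => hg1' l) fun l _ => hg2' l
    have hHp : L' *ᵥ pv s0 = (H : Big) *ᵥ Ψ := by
      simp only [L', ← mulVec_mulVec]
      congr 2
      refine gl_mulVec_injective H ?_
      show (H : Big) *ᵥ _ = (H : Big) *ᵥ _
      rw [gl_mulVec_inv, show H = ptGL (Function.update (1 : ι → G1) a r * Function.update (1 : ι → G1) b r⁻¹) by rw [map_mul]; rfl,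
        coe_ptGL, pt_mulVec]
      congr 1
      funext l
      rw [Pi.mul_apply, hri]
      by_cases hla : l = a
      · subst hla; simp [hab, hs0 l ha, hrv']
      by_cases hlb : l = b
      · subst hlb; simp [hla, hs0 l hb, hrv']
      simp [hla, hlb]
    have hRR : (H : Big) = pt (fun l => if l ∈ ({a, b} : Finset ι) then (r : A1) else 1) := by
      rw [show H = ptGL (Function.update (1 : ι → G1) a r * Function.update (1 : ι → G1) b r⁻¹) by rw [map_mul]; rfl, coe_ptGL]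
      congr 1
      funext l
      rw [Pi.mul_apply, hri]
      by_cases hla : l = a
      · subst hla; simp [hab]
      by_cases hlb : l = b
      · subst hlb; simp [hla]
      simp [hla, hlb]
    rw [tuple_congr hf Fm hins' _ (fun _ => (r : A1)) (by simp [Finset.insert_subset_iff, ha, hb])
      (fun l _ y hy => by rw [hgy' l y hy, hrx]) hs0, hHp, ← hRR, ← gl_mul_mulVec] at h0
    have hHH : H * H = 1 := by
      rw [show H = ptGL (Function.update (1 : ι → G1) a r * Function.update (1 : ι → G1) b r⁻¹) by rw [map_mul]; rfl, ← map_mul,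
        show (Function.update (1 : ι → G1) a r * Function.update (1 : ι → G1) b r⁻¹) *
          (Function.update (1 : ι → G1) a r * Function.update (1 : ι → G1) b r⁻¹) = 1 from funext fun l => by
            have hrr : r * r = 1 := by conv_lhs => arg 2; rw [← hri]
                                       exact mul_inv_cancel r
            rw [hri]
            by_cases hla : l = a
            · subst hla; simp [hab, hrr]
            by_cases hlb : l = b
            · subst hlb; simp [hla, hrr]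
            simp [hla, hlb], map_one]
    rw [hHH, Units.val_one, one_mulVec] at h0
    subst hTe
    simpa [pt_one, show (fun _ : ι => (1 : A1)) = 1 from rfl] using h0
  obtain ⟨l0, hl0⟩ := Finset.nonempty_iff_ne_empty.2 hTe
  by_cases hTS : T = S
  swap
  · obtain ⟨b, hb, hbT⟩ : ∃ b ∈ S, b ∉ T := by
      by_contra hne
      push Not at hne
      exact hTS (Finset.Subset.antisymm hT hne)
    have h0 := orth (e := e) S0 NC Fm hP hT hb hbT hl0 (hP.lg b hb) (fun l hl => hP.ins l (hT hl)) hg hgM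
      (fun l _ => hg1 l) fun l _ => hg2 l
    rwa [hgR hT hP.ins] at h0
  subst hTS
  obtain ⟨a, ha, b, hb, hab⟩ := Finset.one_lt_card.1 (show 1 < T.card by omega)
  set T0 := (T.erase a).erase b
  obtain ⟨c, hc⟩ : T0.Nonempty := Finset.card_pos.1 (by
    rw [Finset.card_erase_of_mem (Finset.mem_erase.2 ⟨hab.symm, hb⟩), Finset.card_erase_of_mem ha]; omega)
  obtain ⟨r, hr, hri, hrx⟩ := exists_refl hf (hzz a)
  obtain ⟨rb, hrb, -, hrbx⟩ := exists_refl hf (hzz b)
  obtain ⟨ga, hga, hgaM, ⟨μ1, hμ1, hga1⟩, ⟨μ2, hμ2, hga2⟩, hgay⟩ := exists_weyl S0 Fm (hz a) (hzz a) b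
  obtain ⟨gb, hgb, hgbM, ⟨ν1, hν1, hgb1⟩, ⟨ν2, hν2, hgb2⟩, hgby⟩ := exists_weyl S0 Fm (hz b) (hzz b) b
  have hrv : (r : A1) *ᵥ v = v := by rw [hrx, hf.comm (z a) v, (hz a).1, mul_zero, zero_div, zero_smul, sub_zero]
  have hrv' : (r : A1) *ᵥ v' = v' := by rw [hrx, hf.comm (z a) v', (hz a).2, mul_zero, zero_div, zero_smul, sub_zero]
  set gc : ι → G1 := Function.update (1 : ι → G1) a r * Function.update (1 : ι → G1) b (gb * ga * r⁻¹)
  set K : GG := ptGL gc
  have hK : K ∈ M := by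
    have e1 : K = oneGL b (gb * ga) * (oneGL a r * oneGL b r⁻¹) := by
      rw [← mul_assoc, ← oneGL_comm hab, mul_assoc, oneGL_mul]
      simp only [K, gc, map_mul]
      rfl
    rw [e1]
    exact mul_mem (by rw [← oneGL_mul]; exact mul_mem hgbM hgaM) (S0.pair_mem (Ne.symm hab) hr)
  have hKi : K ∈ isoB ι f := S0.iso hK
  have hgcb : gc b = gb * ga * r⁻¹ := by simp [gc, hab.symm]
  have hgca : gc a = r := by simp [gc, hab]
  have hgcl : ∀ l, l ≠ a → l ≠ b → gc l = 1 := fun l h1 h2 => by simp [gc, h1, h2]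
  have hbv : (gc b : A1) *ᵥ v = (μ1 * ν2) • v := by
    rw [hgcb, hri, gl_mul_mulVec, gl_mul_mulVec, hrv, hga1, mulVec_smul, hgb2, smul_smul]
  have hbv' : (gc b : A1) *ᵥ v' = (μ2 * ν1) • v' := by
    rw [hgcb, hri, gl_mul_mulVec, gl_mul_mulVec, hrv', hga2, mulVec_smul, hgb1, smul_smul]
  have hgcs : ∀ l, gc l ∈ isoF f ∧ ∃ μ : F, μ ≠ 0 ∧ (gc l : A1) *ᵥ v = μ • v := fun l => by
    by_cases hla : l = a
    · subst hla; rw [hgca]; exact ⟨hr, 1, one_ne_zero, by rw [one_smul, hrv]⟩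
    by_cases hlb : l = b
    · subst hlb; exact ⟨hgcb ▸ mul_mem (mul_mem hgb hga) (inv_mem hr), _, mul_ne_zero hμ1 hν2, hbv⟩
    rw [hgcl l hla hlb]
    exact ⟨one_mem _, 1, one_ne_zero, by simp⟩
  set L' : Big := (K : Big) * L * ((K⁻¹ : GG) : Big)
  have haT0 : a ∉ T0 := by simp [T0]
  have hbT0 : b ∉ T0 := by simp [T0]
  have hins' : ∀ l ∈ T, L' ∈ SlIn l (Wsp f v) := fun l hl => by
    obtain ⟨hi, μ, hμ, hμv⟩ := hgcs l
    have e1 : (K : Big) = oneM l (gc l : A1) * pt (Function.update (fun i => (gc i : A1)) l 1) := by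
      rw [coe_ptGL, ← pt_split l (fun i => (gc i : A1))]
    have e2 : ((K⁻¹ : GG) : Big) = pt (Function.update (fun i => ((gc i)⁻¹).val) l 1) * oneM l ((gc l)⁻¹).val := by
      rw [show K⁻¹ = ptGL gc⁻¹ from (map_inv ptGL gc).symm, coe_ptGL, ← pt_split' l (fun i => ((gc i)⁻¹).val)]
      rfl
    refine mem_SlIn.2 fun x y => ?_
    simp only [L', e1, e2, ← mul_assoc]
    rw [mul_assoc (oneM l _), mul_assoc (oneM l _), sl_mul_right, sl_mul_left]
    refine Wsp_conj hf hi hμ hμv ?_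
    rw [pt_kr l, pt_kr l, Function.update_self, Function.update_self]
    obtain ⟨C, hC⟩ : ∃ C : Submodule F A1, C = Wsp f v := ⟨_, rfl⟩
    rw [← hC]
    refine kr_slices (X := L) (fun x y => hC ▸ mem_SlIn.1 (hP.ins l hl) x y) _ _ x y
  have hKlg : Lg f M a v L' := Lg.conj hf hKi hK (maps_tuple (Fm.ne hf) (μ := 1)
    (by rw [hgca, hrv, one_smul])) (hP.lg a ha)
  have h0 := orth (e := e) S0 NC Fm hP (T := T0) ((Finset.erase_subset _ _).trans (Finset.erase_subset _ _)) ha haT0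
    hc hKlg (fun l hl => hins' l (Finset.mem_of_mem_erase (Finset.mem_of_mem_erase hl))) hg hgM (fun l _ => hg1 l)
    fun l _ => hg2 l
  rw [hgR ((Finset.erase_subset _ _).trans (Finset.erase_subset _ _)) hins'] at h0
  have hKp : ((K⁻¹ : GG) : Big) *ᵥ pv s0 = (μ2 * ν1)⁻¹ • pv s0 := by
    refine gl_mulVec_injective K ?_
    show (K : Big) *ᵥ _ = (K : Big) *ᵥ _
    rw [gl_mulVec_inv, mulVec_smul, coe_ptGL, pt_mulVec]
    have e3 : (fun i => (gc i : A1) *ᵥ s0 i) = Function.update s0 b ((μ2 * ν1) • v') := funext fun i => by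
      by_cases hlb : i = b
      · subst hlb; rw [Function.update_self, hs0 i hb, hbv']
      rw [Function.update_of_ne hlb]
      by_cases hla : i = a
      · subst hla; rw [hgca, hs0 i ha, hrv']
      simp [hgcl i hla hlb]
    rw [e3, pv_update_smul, ← hs0 b hb, Function.update_eq_self, inv_smul_smul₀ (mul_ne_zero hμ2 hν1)]
  have hL'p : L' *ᵥ pv s0 = (μ2 * ν1)⁻¹ • ((K : Big) *ᵥ Ψ) := by
    simp only [L', ← mulVec_mulVec, hKp, mulVec_smul, Ψ]
  rw [hL'p, mulVec_smul, Bt_smulR, mul_eq_zero] at h0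
  replace h0 := h0.resolve_left (inv_ne_zero (mul_ne_zero hμ2 hν1))
  have hKR : (K : Big) *ᵥ Ψ = pt (fun l => if l ∈ ({a, b} : Finset ι) then R l else 1) *ᵥ Ψ := by
    have e1 : (K : Big) = pt (fun l => if l ∈ ({a, b} : Finset ι) then (gc l : A1) else 1) := by
      rw [coe_ptGL]
      congr 1
      funext l
      by_cases hla : l = a
      · subst hla; simp
      by_cases hlb : l = b
      · subst hlb; simp
      simp [hla, hlb, hgcl l hla hlb]
    rw [e1]
    refine tuple_congr hf Fm hP.ins _ _ (by simp [Finset.insert_subset_iff, ha, hb]) (fun l hl y hy => ?_) hs0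
    rcases Finset.mem_insert.1 hl with rfl | hl
    · rw [hgca, hrx, hR]
    obtain rfl := Finset.mem_singleton.1 hl
    rw [hgcb, hR, gl_mul_mulVec, gl_mul_mulVec]
    have hy1 : Per f v v' ((r⁻¹).val *ᵥ y) := by
      rw [hri, hrx]; exact per_sub hf hy (per_smul hf _ (hz a))
    rw [hgay _ hy1, ← hrx, gl_mulVec_inv, hgby y hy]
  rw [hKR, mulVec_mulVec, pt_mul] at h0
  have eT : ((fun l => if l ∈ T0 then R l else 1) * fun l => if l ∈ ({a, b} : Finset ι) then R l else 1) =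
      fun l => if l ∈ T then R l else 1 := funext fun l => by
    rw [Pi.mul_apply]
    by_cases hla : l = a
    · subst hla; simp [haT0, ha]
    by_cases hlb : l = b
    · subst hlb; simp [hbT0, hb]
    simp [T0, hla, hlb]
  rw [eT] at h0
  exact h0
where
  kr_slices {l : ι} {U : Submodule F A1} {X : Big} (h : ∀ x y, sl l x y X ∈ U)
      (C D : Matrix ({i // i ≠ l} → Fin k) ({i // i ≠ l} → Fin k) F) (x y : {i // i ≠ l} → Fin k) :
      sl l x y (kr l C 1 * X * kr l D 1) ∈ U := by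
    have e : sl l x y (kr l C 1 * X * kr l D 1) = ∑ x', ∑ y', (C x x' * D y' y) • sl l x' y' X := by
      ext i j
      simp only [sl_apply, map_mul, sp_kr, Matrix.sum_apply, Matrix.smul_apply, smul_eq_mul, Matrix.mul_apply,
        Fintype.sum_prod_type, kroneckerMap_apply, Matrix.one_apply, mul_ite, mul_one, mul_zero, ite_mul, zero_mul,
        Finset.sum_ite_eq, Finset.sum_ite_eq', Finset.mem_univ, if_true, Finset.sum_mul]
      rw [Finset.sum_comm]
      exact Finset.sum_congr rfl fun x' _ => Finset.sum_congr rfl fun y' _ => by ring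
    rw [e]
    exact Submodule.sum_mem _ fun x' _ => Submodule.sum_mem _ fun y' _ => Submodule.smul_mem _ _ (h x' y')

end Cfsg.Agent.Lib.TensorPowerOrth.Pairing
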