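import Cfsg.Agent.Lib.TensorPowerOrth.Eich

/-!
Commutators of unipotent elements given by pure tensors, producing Eichler maps of the product form.
-/

set_option autoImplicit false
set_option linter.unusedSectionVars false

namespace Cfsg.Agent.Lib.TensorPowerOrth.Patterns

open Matrix
open Cfsg.Agent.Lib.Subspaces.Transvection Cfsg.Agent.Lib.Subspaces.FormVec
  Cfsg.Agent.Lib.TensorPowerMax.Basic Cfsg.Agent.Lib.TensorOrthMax.Side Cfsg.Agent.Lib.TensorOrthMax.Setup
  Cfsg.Agent.Lib.TensorPowerOrth.Form Cfsg.Agent.Lib.TensorPowerOrth.Frame Cfsg.Agent.Lib.TensorPowerOrth.Roots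
  Cfsg.Agent.Lib.TensorPowerOrth.Skew Cfsg.Agent.Lib.TensorPowerOrth.Kron Cfsg.Agent.Lib.TensorPowerOrth.Upper
  Cfsg.Agent.Lib.TensorPowerOrth.Tuples Cfsg.Agent.Lib.TensorPowerOrth.Slot
  Cfsg.Agent.Lib.TensorPowerOrth.Pairing Cfsg.Agent.Lib.TensorPowerOrth.Eich

variable {ι : Type} [Fintype ι] [DecidableEq ι] {k : ℕ} {F : Type*} [Field F]

local notation "A1" => Matrix (Fin k) (Fin k) F
local notation "Big" => Matrix (ι → Fin k) (ι → Fin k) F
local notation "GG" => GL (ι → Fin k) F
local notation "W1" => Fin k → F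

theorem pt_zero_slot {Y : ι → A1} (l : ι) (h : Y l = 0) : pt Y = 0 := by
  ext x y
  rw [pt_apply, Matrix.zero_apply]
  exact Finset.prod_eq_zero (Finset.mem_univ l) (by rw [h]; rfl)

variable {M : Subgroup (GL (ι → Fin k) F)}

/-- The commutator of two quadratic-nilpotent unipotent elements. -/
theorem comm_sq {x y : GG} (hx : x ∈ M) (hy : y ∈ M) {X Y : Big} (ex1 : (x : Big) = 1 + X) (ey : (y : Big) = 1 + Y)
    (hX : X * X = 0) (hY : Y * Y = 0) (hXYX : X * Y * X = 0) (hYXY : Y * X * Y = 0) :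
    ∃ z ∈ M, (z : Big) = 1 + (X * Y - Y * X) := by
  refine ⟨x * y * x⁻¹ * y⁻¹, mul_mem (mul_mem (mul_mem hx hy) (inv_mem hx)) (inv_mem hy), ?_⟩
  have hinv : ∀ {g : GG} {Z : Big}, (g : Big) = 1 + Z → Z * Z = 0 → ((g⁻¹ : GG) : Big) = 1 - Z := by
    intro g Z e hZ
    have h1 : (g : Big) * (1 - Z) = 1 := by rw [e, add_mul, mul_sub, mul_sub, hZ, one_mul, one_mul, mul_one]; abel
    calc ((g⁻¹ : GG) : Big) = ((g⁻¹ : GG) : Big) * ((g : Big) * (1 - Z)) := by rw [h1, mul_one]
      _ = _ := by rw [← mul_assoc, Units.inv_mul, one_mul]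
  rw [Units.val_mul, Units.val_mul, Units.val_mul, ex1, ey, hinv ex1 hX, hinv ey hY]
  have a1 : ∀ Z : Big, X * (X * Z) = 0 := fun Z => by rw [← mul_assoc, hX, zero_mul]
  have a2 : ∀ Z : Big, Y * (Y * Z) = 0 := fun Z => by rw [← mul_assoc, hY, zero_mul]
  have a3 : ∀ Z : Big, X * (Y * (X * Z)) = 0 := fun Z => by rw [← mul_assoc, ← mul_assoc, hXYX, zero_mul]
  have a4 : X * (Y * X) = 0 := by rw [← mul_assoc, hXYX]
  have a5 : Y * (X * Y) = 0 := by rw [← mul_assoc, hYXY]
  simp only [mul_add, add_mul, mul_sub, sub_mul, one_mul, mul_one, mul_assoc, a1, a2, a3, a4, a5, hX, hY,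
    mul_zero, sub_zero, add_zero]
  abel

variable {f : (Fin k → F) → (Fin k → F) → F} (hf : Sym f)
include hf

/-- An element given by the two tuples of an Eichler map. -/
theorem eich_of_tuples {x : GG} (hx : x ∈ M) {p q : ι → W1} {a : F} (hqp : Bt f (pv q) (pv p) = 0)
    (hqq : Bt f (pv q) (pv q) = 0)
    (e : (x : Big) = 1 + a • (pt (fun l => vecMulVec (q l) (formVec f (p l))) -
      pt (fun l => vecMulVec (p l) (formVec f (q l))))) :
    Eich f M (pv p) (a • pv q) := by
  refine ⟨by rw [Bt_smulL, hqp, mul_zero], x, hx, fun y => ?_⟩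
  rw [e, add_mulVec, one_mulVec, smul_mulVec, sub_mulVec, rank_one_tuple hf, rank_one_tuple hf, phiB]
  simp only [Bt_smulL, Bt_smulR, hqq, mul_zero, zero_div, zero_mul, zero_smul, sub_zero]
  module

variable {v v' : Fin k → F}

/-- Conjugating the rank-one square. -/
theorem conj_E {g : GL (Fin k) F} (hg : g ∈ isoF f) {μ : F} (hgv : (g : A1) *ᵥ v = μ • v') :
    (g : A1) * vecMulVec v (formVec f v) * (g⁻¹).val = (μ * μ) • vecMulVec v' (formVec f v') := by
  refine Matrix.mulVec_injective (funext fun y => ?_)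
  rw [← mulVec_mulVec, ← mulVec_mulVec, smul_mulVec, E_mulVec hf, E_mulVec hf, mulVec_smul, hgv]
  have e : f ((g⁻¹).val *ᵥ y) v = f y ((g : A1) *ᵥ v) := by rw [← hg, gl_mulVec_inv]
  rw [e, hgv, hf.smulR]
  module

theorem mul_vec (a b c d : W1) :
    vecMulVec a (formVec f b) * vecMulVec c (formVec f d) = f c b • vecMulVec a (formVec f d) := by
  refine Matrix.mulVec_injective (funext fun y => ?_)
  rw [← mulVec_mulVec, smul_mulVec]
  simp only [vecMulVec_mulVec, hf.dot, op_smul_eq_smul, hf.smulL]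
  module

variable [Fintype F]

/-- A central element whose tensor is pure gives an Eichler map. -/
theorem of_pattern (S0 : Setting f M) (Fm : Fr f v v') {j : ι} {Sw : Finset ι} (hj : j ∉ Sw) (hSw : Sw.Nonempty)
    {y : ι → W1} (hy : ∀ l, Per f v v' (y l)) (hyy : ∀ l, f (y l) (y l) ≠ 0) {c : F} (hc : c ≠ 0) {x : GG}
    (hx : x ∈ M) (e : (x : Big) = 1 + c • pt (fun l => if l ∈ Sw then wd f v (y l) else vecMulVec v (formVec f v))) :
    ∃ a : F, a ≠ 0 ∧ Eich f M (allV v) (a • pv fun l => if l ∈ Sw then v else v') := by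
  classical
  obtain ⟨z, hz, hzz⟩ := exists_aniso S0.par Fm
  choose g hg hgM hg1 hg2 hgy using fun l => exists_weyl S0 Fm hz hzz l
  choose μ hμ hμv using hg1
  set gS : ι → GL (Fin k) F := fun l => if l ∈ Sw then 1 else g l
  set G : GG := ptGL gS
  have hGM : G ∈ M := ptGL_mem fun l => by
    simp only [gS]; split_ifs
    · rw [oneGL_one]; exact one_mem _
    · exact hgM l
  set E : A1 := vecMulVec v (formVec f v)
  set E' : A1 := vecMulVec v' (formVec f v')
  set Y : ι → A1 := fun l => if l ∈ Sw then wd f v (y l) else E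
  set Y' : ι → A1 := fun l => if l ∈ Sw then wd f v (y l) else E'
  set κ : F := ∏ l, if l ∈ Sw then (1 : F) else μ l * μ l
  have hκ : κ ≠ 0 := Finset.prod_ne_zero_iff.2 fun l _ => by
    split_ifs
    · exact one_ne_zero
    · exact mul_ne_zero (hμ l) (hμ l)
  have hconj : ((G * x * G⁻¹ : GG) : Big) = 1 + (c * κ) • pt Y' := by
    rw [Units.val_mul, Units.val_mul, e, mul_add, add_mul, mul_one, Units.mul_inv, Matrix.mul_smul, Matrix.smul_mul,
      show G⁻¹ = ptGL gS⁻¹ from (map_inv ptGL gS).symm, coe_ptGL, coe_ptGL, pt_mul, pt_mul,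
      ← smul_smul, ← pt_smul]
    congr 3
    funext l
    simp only [Pi.mul_apply, Pi.inv_apply, gS, Y', Y]
    split_ifs
    · simp
    · exact conj_E hf (hg l) (hμv l)
  obtain ⟨l0, hl0⟩ := hSw
  have hW3 : ∀ l ∈ Sw, ∀ A B : A1, A = wd f v (y l) → B = wd f v (y l) → A * B * A = 0 := fun l _ A B hA hB => by
    rw [hA, hB, Alg.wd_sq hf Fm.vv (hy l).1, Matrix.smul_mul, (E_wd hf Fm.vv (hy l).1).1, smul_zero]
  have hEE : E * E = 0 := E_sq hf Fm.vv
  have hE'E' : E' * E' = 0 := E_sq hf Fm.v'v'
  obtain ⟨w, hw, hwe⟩ := comm_sq (X := c • pt Y) (Y := (c * κ) • pt Y') hx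
    (mul_mem (mul_mem hGM hx) (inv_mem hGM)) e hconj
    (by rw [Matrix.smul_mul, Matrix.mul_smul, pt_mul, pt_zero_slot j (by simp [Y, hj, hEE]), smul_zero, smul_zero])
    (by rw [Matrix.smul_mul, Matrix.mul_smul, pt_mul, pt_zero_slot j (by simp [Y', hj, hE'E']), smul_zero, smul_zero])
    (by simp only [Matrix.smul_mul, Matrix.mul_smul, pt_mul]
        rw [pt_zero_slot l0 (hW3 l0 hl0 _ _ (if_pos hl0) (if_pos hl0))]
        simp only [smul_zero])
    (by simp only [Matrix.smul_mul, Matrix.mul_smul, pt_mul]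
        rw [pt_zero_slot l0 (hW3 l0 hl0 _ _ (if_pos hl0) (if_pos hl0))]
        simp only [smul_zero])
  set q : ι → W1 := fun l => if l ∈ Sw then v else v'
  set σ : ι → F := fun l => if l ∈ Sw then -(f (y l) (y l)) else 1
  have hσ : ∏ l, σ l ≠ 0 := Finset.prod_ne_zero_iff.2 fun l _ => by
    simp only [σ]; split_ifs
    · exact neg_ne_zero.2 (hyy l)
    · exact one_ne_zero
  have eA : pt Y * pt Y' = (∏ l, σ l) • pt (fun l => vecMulVec v (formVec f (q l))) := by
    rw [pt_mul, ← pt_smul]
    congr 1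
    funext l
    simp only [Pi.mul_apply, Y, Y', σ, q]
    split_ifs
    · exact Alg.wd_sq hf Fm.vv (hy l).1
    · rw [one_smul, mul_vec hf, Fm.pair' hf, one_smul]
  have eB : pt Y' * pt Y = (∏ l, σ l) • pt (fun l => vecMulVec (q l) (formVec f v)) := by
    rw [pt_mul, ← pt_smul]
    congr 1
    funext l
    simp only [Pi.mul_apply, Y, Y', σ, q]
    split_ifs
    · exact Alg.wd_sq hf Fm.vv (hy l).1
    · rw [one_smul, mul_vec hf, Fm.pair, one_smul]
  refine ⟨-(c * (c * κ) * ∏ l, σ l), neg_ne_zero.2 (mul_ne_zero (mul_ne_zero hc (mul_ne_zero hc hκ)) hσ),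
    eich_of_tuples hf hw (p := fun _ => v) (q := q) ?_ ?_ ?_⟩
  · rw [Bt_pv hf]; exact Finset.prod_eq_zero (Finset.mem_univ l0) (by simp [q, hl0, Fm.vv])
  · rw [Bt_pv hf]; exact Finset.prod_eq_zero (Finset.mem_univ l0) (by simp [q, hl0, Fm.vv])
  · rw [hwe, Matrix.smul_mul, Matrix.mul_smul, Matrix.smul_mul, Matrix.mul_smul, eA, eB]
    simp only [smul_smul]
    module

/-- Eichler maps of all the factors but one, lifted. -/
theorem lift_tuples {a : ι} (hfull : ∀ P Q : ({i // i ≠ a} → Fin k) → F, Bt f P P = 0 → Bt f Q P = 0 →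
      ∃ C : GL ({i // i ≠ a} → Fin k) F, liftG a C ∈ M ∧ ∀ y, (C.val) *ᵥ y = phiB f P Q y)
    {p q : ι → W1} {b : ι} (hb : b ≠ a) (hp : f (p b) (p b) = 0) {b' : ι} (hb' : b' ≠ a) (hq : f (q b') (q b') = 0)
    {b'' : ι} (hb'' : b'' ≠ a) (hqp : f (q b'') (p b'') = 0) :
    ∃ x ∈ M, (x : Big) = 1 + (pt (fun l => if l = a then 1 else vecMulVec (q l) (formVec f (p l))) -
      pt (fun l => if l = a then 1 else vecMulVec (p l) (formVec f (q l)))) := by
  classical
  set P : ({i // i ≠ a} → Fin k) → F := pv fun i => p i.1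
  set Q : ({i // i ≠ a} → Fin k) → F := pv fun i => q i.1
  obtain ⟨C, hC, hCy⟩ := hfull P Q (by rw [Bt_pv hf]; exact Finset.prod_eq_zero (Finset.mem_univ ⟨b, hb⟩) hp)
    (by rw [Bt_pv hf]; exact Finset.prod_eq_zero (Finset.mem_univ ⟨b'', hb''⟩) hqp)
  have hQQ : Bt f Q Q = 0 := by rw [Bt_pv hf]; exact Finset.prod_eq_zero (Finset.mem_univ ⟨b', hb'⟩) hq
  refine ⟨liftG a C, hC, ?_⟩
  have hCv : C.val = 1 + (pt (fun i : {i // i ≠ a} => vecMulVec (q i.1) (formVec f (p i.1))) -
      pt (fun i : {i // i ≠ a} => vecMulVec (p i.1) (formVec f (q i.1)))) :=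
    Matrix.mulVec_injective (funext fun y => by
      rw [hCy, add_mulVec, one_mulVec, sub_mulVec, rank_one_tuple hf, rank_one_tuple hf, phiB, hQQ]
      simp only [zero_div, zero_mul, zero_smul, sub_zero]
      module)
  have e : ∀ q' p' : ι → W1, pt (fun l => if l = a then (1 : A1) else vecMulVec (q' l) (formVec f (p' l))) =
      kr a (pt fun i : {i // i ≠ a} => vecMulVec (q' i.1) (formVec f (p' i.1))) 1 := fun q' p' => by
    rw [pt_kr a, if_pos rfl]
    congr 2
    funext i
    rw [if_neg i.2]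
  rw [coe_liftG, hCv, kr_add_left, kr_one_one, e, e, eq_sub_of_add_eq (show kr a
      (pt (fun i : {i // i ≠ a} => vecMulVec (q i.1) (formVec f (p i.1))) -
        pt (fun i : {i // i ≠ a} => vecMulVec (p i.1) (formVec f (q i.1)))) (1 : A1) +
      kr a (pt fun i : {i // i ≠ a} => vecMulVec (p i.1) (formVec f (q i.1))) 1 = _ by
    rw [← kr_add_left, sub_add_cancel])]

/-- Full groups on all the factors but one give the first family of Eichler maps. -/
theorem of_rest (S0 : Setting f M) (Fm : Fr f v v') {a : ι}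
    (hfull : ∀ P Q : ({i // i ≠ a} → Fin k) → F, Bt f P P = 0 → Bt f Q P = 0 →
      ∃ C : GL ({i // i ≠ a} → Fin k) F, liftG a C ∈ M ∧ ∀ y, (C.val) *ᵥ y = phiB f P Q y)
    (hcard : 2 ≤ Fintype.card {i // i ≠ a}) :
    ∃ d : ι, ∀ z, Per f v v' z → Eich f M (allV v) (pv (Function.update (fun _ => v) d z)) := by
  classical
  obtain ⟨⟨c, hca⟩, ⟨d, hda⟩, hcd⟩ := Fintype.one_lt_card_iff.1 hcard
  have hcd' : c ≠ d := fun e => hcd (Subtype.ext e)
  refine ⟨d, fun z hz => ?_⟩
  set z' := -z
  have hz' : Per f v v' z' := per_neg hf hz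
  obtain ⟨x', hx', ex'⟩ := lift_tuples hf hfull (p := fun _ => v) (q := Function.update (fun _ => v) d z') hca Fm.vv
    hca (by rw [Function.update_of_ne hcd', Fm.vv]) hca (by rw [Function.update_of_ne hcd', Fm.vv])
  obtain ⟨x0, hx0, ex0⟩ := lift_tuples hf hfull (p := fun _ => v) (q := Function.update (fun _ => v') d v) hda Fm.vv
    hda (by rw [Function.update_self, Fm.vv]) hda (by rw [Function.update_self, Fm.vv])
  set τ : Equiv.Perm ι := Equiv.swap a c * Equiv.swap a d
  set ρ : Equiv.Perm ι := τ * τ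
  have hρM : (pmGL ρ : GG) ∈ M := by
    rw [map_mul]; exact S0.sq _ ⟨pmGL_mem_stab τ, pmGL_iso hf τ⟩
  have hρ : ρ a = c ∧ ρ c = d ∧ ρ d = a ∧ ∀ l, l ≠ a → l ≠ c → l ≠ d → ρ l = l := by
    refine ⟨?_, ?_, ?_, fun l h1 h2 h3 => ?_⟩ <;>
      simp [ρ, τ, Equiv.Perm.mul_apply, Equiv.swap_apply_def, hca, hda, hcd', Ne.symm hca, Ne.symm hda,
        Ne.symm hcd', *]
  set E : A1 := vecMulVec v (formVec f v)
  set B : ι → A1 := fun l => if l = a then 1 else if l = d then wd f v z' else E
  have eB : (x' : Big) = 1 + pt B := by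
    rw [ex']
    have eu : ∀ D : A1, (fun l => if l = a then (1 : A1) else if l = d then D else E) =
        Function.update (fun l => if l = a then (1 : A1) else E) d D := fun D => funext fun l => by
      by_cases hl : l = d
      · subst hl; simp [hda]
      · simp [hl]
    have e1 : (fun l => if l = a then (1 : A1) else
        vecMulVec (Function.update (fun _ => v) d z' l) (formVec f v)) =
        fun l => if l = a then (1 : A1) else if l = d then vecMulVec z' (formVec f v) else E := funext fun l => by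
      by_cases hl : l = d
      · subst hl; simp [hda]
      · simp [hl, E]
    have e2 : (fun l => if l = a then (1 : A1) else
        vecMulVec v (formVec f (Function.update (fun _ => v) d z' l))) =
        fun l => if l = a then (1 : A1) else if l = d then vecMulVec v (formVec f z') else E := funext fun l => by
      by_cases hl : l = d
      · subst hl; simp [hda]
      · simp [hl, E]
    rw [e1, e2, eu, eu, ← pt_update_sub]
    simp only [B, eu]
    rfl
  set E21 : A1 := vecMulVec v' (formVec f v)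
  set E12 : A1 := vecMulVec v (formVec f v')
  set A : A1 → ι → A1 := fun D l => if l = c then 1 else if l = a then E else D
  have eA : ((pmGL ρ * x0 * (pmGL ρ)⁻¹ : GG) : Big) = 1 + (pt (A E21) - pt (A E12)) := by
    have hp : ∀ D : ι → A1, (pmGL ρ : GG).val * pt D * ((pmGL ρ)⁻¹ : GG).val = pt (D ∘ ρ.symm) := fun D => by
      rw [coe_pmGL, pm_mul_pt, mul_assoc, ← coe_pmGL, Units.mul_inv, mul_one]
    rw [Units.val_mul, Units.val_mul, ex0, mul_add, add_mul, mul_one, Units.mul_inv, mul_sub, sub_mul, hp, hp]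
    congr 3 <;>
    · funext l
      obtain ⟨i, rfl⟩ := ρ.surjective l
      rw [Function.comp_apply, Equiv.symm_apply_apply]
      obtain ⟨r1, r2, r3, r4⟩ := hρ
      by_cases hia : i = a
      · subst hia; simp [A, r1]
      by_cases hic : i = c
      · subst hic; simp [A, r2, hca, Ne.symm hcd', hda, hcd', E21, E12]
      by_cases hid : i = d
      · subst hid; simp [A, r3, hda, Ne.symm hca, E]
      simp [A, r4 i hia hic hid, hia, hic, hid, E21, E12]
  have hEE : E * E = 0 := E_sq hf Fm.vv
  have m1 : E21 * E = 0 := by simp only [E21, E, mul_vec hf, Fm.vv, zero_smul]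
  have m2 : E * E12 = 0 := by simp only [E12, E, mul_vec hf, Fm.vv, zero_smul]
  have m3 : E12 * E = E := by simp only [E12, E, mul_vec hf, Fm.pair, one_smul]
  have m4 : E * E21 = E := by simp only [E21, E, mul_vec hf, Fm.pair' hf, one_smul]
  have hwd : wd f v z' = vecMulVec z' (formVec f v) - vecMulVec v (formVec f z') := rfl
  have m5 : E21 * wd f v z' = 0 := by
    simp only [hwd, E21, mul_sub, mul_vec hf, hz'.1, Fm.vv, zero_smul, sub_zero]
  have m6 : E12 * wd f v z' = -vecMulVec v (formVec f z') := by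
    simp only [hwd, E12, mul_sub, mul_vec hf, hz'.2, Fm.pair, zero_smul, one_smul, zero_sub]
  have m7 : wd f v z' * E21 = vecMulVec z' (formVec f v) := by
    simp only [hwd, E21, sub_mul, mul_vec hf, hf.comm z' v', hz'.2, Fm.pair' hf, zero_smul, one_smul, sub_zero]
  have m8 : wd f v z' * E12 = 0 := by
    simp only [hwd, E12, sub_mul, mul_vec hf, hf.comm z' v, hz'.1, Fm.vv, zero_smul, sub_zero]
  have kill : ∀ D D', A D * A D' = fun l => if l = c then 1 else if l = a then 0 else D * D' := fun D D' =>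
    funext fun l => by simp only [Pi.mul_apply, A]; split_ifs <;> simp [hEE]
  have hAA : (pt (A E21) - pt (A E12)) * (pt (A E21) - pt (A E12)) = 0 := by
    simp only [sub_mul, mul_sub, pt_mul, kill]
    rw [pt_zero_slot a (by simp [Ne.symm hca]), pt_zero_slot a (by simp [Ne.symm hca]),
      pt_zero_slot a (by simp [Ne.symm hca]), pt_zero_slot a (by simp [Ne.symm hca])]
    simp
  have hBB : pt B * pt B = 0 := by rw [pt_mul, pt_zero_slot c (by simp [B, hca, hcd', hEE])]
  obtain ⟨w, hw, hwe⟩ := comm_sq (mul_mem (mul_mem hρM hx0) (inv_mem hρM)) hx' eA eB hAA hBB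
    (by
      simp only [sub_mul, mul_sub, pt_mul]
      rw [pt_zero_slot a (by simp [A, B, Ne.symm hca, hEE]), pt_zero_slot a (by simp [A, B, Ne.symm hca, hEE]),
        pt_zero_slot a (by simp [A, B, Ne.symm hca, hEE]), pt_zero_slot a (by simp [A, B, Ne.symm hca, hEE])]
      simp)
    (by
      simp only [sub_mul, mul_sub, pt_mul]
      rw [pt_zero_slot c (by simp [A, B, hca, hcd', hEE]), pt_zero_slot c (by simp [A, B, hca, hcd', hEE])]
      simp)
  have hU : ∀ D : A1, (fun l => if l = d then D else E) = Function.update (fun _ => E) d D := fun D =>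
    funext fun l => by by_cases hl : l = d <;> simp [hl]
  have p1 : A E21 * B = Function.update (A E21 * B) d 0 := by
    refine (Function.update_eq_self_iff.2 ?_).symm
    simp [A, B, Ne.symm hcd', hda, m5]
  have p2 : A E12 * B = fun l => if l = d then -vecMulVec v (formVec f z') else E := funext fun l => by
    by_cases hla : l = a
    · subst hla; simp [A, B, Ne.symm hca, Ne.symm hda]
    by_cases hlc : l = c
    · subst hlc; simp [A, B, hla, hcd']
    by_cases hld : l = d
    · subst hld; simp [A, B, hla, hlc, m6]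
    simp [A, B, hla, hlc, hld, m3]
  have p3 : B * A E21 = fun l => if l = d then vecMulVec z' (formVec f v) else E := funext fun l => by
    by_cases hla : l = a
    · subst hla; simp [A, B, Ne.symm hca, Ne.symm hda]
    by_cases hlc : l = c
    · subst hlc; simp [A, B, hla, hcd']
    by_cases hld : l = d
    · subst hld; simp [A, B, hla, hlc, m7]
    simp [A, B, hla, hlc, hld, m4]
  have key := eich_of_tuples hf hw (p := fun _ => v) (q := Function.update (fun _ => v) d z') (a := (-1 : F))
    (by rw [Bt_pv hf]; exact Finset.prod_eq_zero (Finset.mem_univ c) (by rw [Function.update_of_ne hcd', Fm.vv]))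
    (by rw [Bt_pv hf]; exact Finset.prod_eq_zero (Finset.mem_univ c) (by rw [Function.update_of_ne hcd', Fm.vv]))
    (by
      rw [hwe, sub_mul, mul_sub, pt_mul, pt_mul, pt_mul, pt_mul, p1, pt_zero_slot d (Function.update_self _ _ _),
        p2, p3, pt_zero_slot d (show (B * A E12) d = 0 by simp [A, B, hda, Ne.symm hcd', m8]), sub_zero, zero_sub,
        hU, hU, show (fun l => vecMulVec (Function.update (fun _ => v) d z' l) (formVec f v)) =
          Function.update (fun _ => E) d (vecMulVec z' (formVec f v)) from funext fun l => by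
            by_cases hl : l = d <;> simp [hl, E],
        show (fun l => vecMulVec v (formVec f (Function.update (fun _ => v) d z' l))) =
          Function.update (fun _ => E) d (vecMulVec v (formVec f z')) from funext fun l => by
            by_cases hl : l = d <;> simp [hl, E],
        show -vecMulVec v (formVec f z') = (-1 : F) • vecMulVec v (formVec f z') from (neg_one_smul F _).symm,
        pt_update_smul]
      module)
  have e : (-1 : F) • pv (Function.update (fun _ => v) d z') = pv (Function.update (fun _ => v) d z) := by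
    rw [← pv_update_smul, neg_one_smul, neg_neg]
  rwa [e] at key

end Cfsg.Agent.Lib.TensorPowerOrth.Patterns
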