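import Cfsg.Agent.Lib.TensorPowerOrth.Roots
import Cfsg.Agent.Lib.TensorOrthMax.Fusion

/-!
Conjugates of an Eichler element of one factor lying in the stabiliser fix every factor.
-/

set_option autoImplicit false
set_option linter.unusedSectionVars false
set_option linter.style.haveILetI false

namespace Cfsg.Agent.Lib.TensorPowerOrth.Perm

open Matrix
open Cfsg.Agent.Lib.Subspaces.Transvection Cfsg.Agent.Lib.Subspaces.FormVec
  Cfsg.Agent.Lib.TensorPowerMax.Basic

variable {ι : Type} [Fintype ι] [DecidableEq ι] {k : ℕ} {F : Type*} [Field F]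

local notation "A1" => Matrix (Fin k) (Fin k) F
local notation "Big" => Matrix (ι → Fin k) (ι → Fin k) F
local notation "GG" => GL (ι → Fin k) F
local notation "W1" => Fin k → F

/-- The rank of the identity tensored with a matrix. -/
theorem rank_kron_right {α : Type} [Fintype α] [DecidableEq α] (D : A1) :
    Matrix.rank (Matrix.kronecker (1 : Matrix α α F) D) = Fintype.card α * D.rank := by
  set e : Fin (Fintype.card α) × Fin k ≃ α × Fin k :=
    Equiv.prodCongr (Fintype.equivFin α).symm (Equiv.refl _)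
  rw [← rank_submatrix (Matrix.kronecker (1 : Matrix α α F) D) e e]
  have h := Cfsg.Agent.Lib.TensorOrthMax.Fusion.finrank_one_kron (m := Fintype.card α) D
  rw [show (Matrix.kronecker (1 : Matrix α α F) D).submatrix e e =
      Matrix.kronecker (1 : Matrix (Fin (Fintype.card α)) (Fin (Fintype.card α)) F) D by
    ext ⟨i, a⟩ ⟨i', b⟩
    simp [e, Matrix.one_apply]]
  exact h

/-- The rank of a matrix acting on one factor. -/
theorem rank_oneM (j : ι) (D : A1) : (oneM j D).rank = k ^ (Fintype.card ι - 1) * D.rank := by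
  rw [← TensorPowerMax.Roots.card_rest (ι := ι) j, ← rank_kron_right]
  have h : sp j (oneM j D) = Matrix.kronecker (1 : Matrix ({i // i ≠ j} → Fin k) _ F) D := sp_oneM_self j D
  rw [← h]
  show _ = (Matrix.reindex (split j) (split j) (oneM j D)).rank
  rw [rank_reindex]

/-- Vectors and functionals isolating two factors. -/
theorem isolate (hk : 3 ≤ k) {j l : ι} (hjl : j ≠ l) (u : W1) (hu : u ≠ 0) (a b : Fin 2 → W1) :
    ∃ (zj zl : W1) (ψ : ι → W1),
      (∀ i, ψ i ⬝ᵥ Function.update (Function.update (fun _ : ι => u) l zl) j zj i = 1) ∧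
      (∀ n, ψ j ⬝ᵥ a n = 0) ∧ ∀ n, ψ l ⬝ᵥ b n = 0 := by
  have key : ∀ c : Fin 2 → W1, ∃ z φ : W1, φ ⬝ᵥ z = 1 ∧ ∀ n, φ ⬝ᵥ c n = 0 := by
    intro c
    obtain ⟨z, hz, -⟩ := exists_common_zero_not_mem (Submodule.span F (Set.range c)) (![] : Fin 0 → W1) (by
      have : Module.finrank F (Submodule.span F (Set.range c)) ≤ 2 :=
        le_of_le_of_eq (finrank_range_le_card c) (Fintype.card_fin 2)
      rw [Fintype.card_fin]; omega)
    obtain ⟨φ, hφ, hφz⟩ := exists_functional hz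
    exact ⟨z, φ, hφz, fun n => hφ _ (Submodule.subset_span ⟨n, rfl⟩)⟩
  obtain ⟨zj, φj, hj, hja⟩ := key a
  obtain ⟨zl, φl, hl, hlb⟩ := key b
  obtain ⟨θ, hθ⟩ := exists_dot_eq_one hu
  refine ⟨zj, zl, Function.update (Function.update (fun _ => θ) l φl) j φj, fun i => ?_, fun n => ?_, fun n => ?_⟩
  · by_cases h1 : i = j
    · subst h1; rw [Function.update_self, Function.update_self, hj]
    by_cases h2 : i = l
    · subst h2; rw [Function.update_of_ne h1, Function.update_self, Function.update_of_ne h1, Function.update_self, hl]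
    · simp only [Function.update_of_ne h1, Function.update_of_ne h2, hθ]
  · rw [Function.update_self]; exact hja n
  · rw [Function.update_of_ne hjl.symm, Function.update_self]; exact hlb n

theorem sq_expand {α : Type} [Fintype α] [DecidableEq α] (X : Matrix α α F) (z : α → F) :
    ((X - 1) * (X - 1)) *ᵥ z = X *ᵥ (X *ᵥ z) - X *ᵥ z - X *ᵥ z + z := by
  rw [← mulVec_mulVec, sub_mulVec, one_mulVec, sub_mulVec, one_mulVec, mulVec_sub]
  abel

theorem cube_expand {α : Type} [Fintype α] [DecidableEq α] (X : Matrix α α F) (z : α → F) :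
    ((X - 1) * (X - 1) * (X - 1)) *ᵥ z =
      X *ᵥ (X *ᵥ (X *ᵥ z)) - (3 : F) • (X *ᵥ (X *ᵥ z)) + (3 : F) • (X *ᵥ z) - z := by
  simp only [← mulVec_mulVec, sub_mulVec, one_mulVec, mulVec_sub]
  module

/-- An element of order prime at least five whose displacement has cube zero fixes every factor. -/
theorem perm_one_big (hk : 3 ≤ k) {p : ℕ} (hp : 5 ≤ p) (hodd : ¬ 2 ∣ p) (hp3 : ¬ 3 ∣ p) {a : ι → GL (Fin k) F}
    {π : Equiv.Perm ι} (hπ : π ^ p = 1)
    (h : (((ptGL a * pmGL π : GG) : Big) - 1) * (((ptGL a * pmGL π : GG) : Big) - 1) *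
      (((ptGL a * pmGL π : GG) : Big) - 1) = 0) : π = 1 := by
  by_contra hne
  have _ := hp
  obtain ⟨j, hj⟩ : ∃ j, π j ≠ j := by
    by_contra hc
    push Not at hc
    exact hne (Equiv.ext hc)
  have hfix : ∀ n, (π ^ n) j = j → ∀ m, (π ^ (n * m)) j = j := fun n hn m => by
    induction m with
    | zero => rfl
    | succ m ih => rw [Nat.mul_succ, pow_add, Equiv.Perm.mul_apply, hn, ih]
  have hp1 : (π ^ p) j = j := by rw [hπ]; rfl
  have h2 : (π ^ 2) j ≠ j := fun e => hj (by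
    obtain ⟨m, hm⟩ : ∃ m, p = 2 * m + 1 := ⟨p / 2, by omega⟩
    have := hp1
    rw [hm, pow_succ', Equiv.Perm.mul_apply, hfix 2 e m] at this
    exact this)
  have h3 : (π ^ 3) j ≠ j := fun e => by
    obtain ⟨m, hm⟩ : ∃ m, p = 3 * m + 1 ∨ p = 3 * m + 2 := ⟨p / 3, by omega⟩
    have := hp1
    rcases hm with hm | hm
    · rw [hm, pow_succ', Equiv.Perm.mul_apply, hfix 3 e m] at this
      exact hj this
    · rw [hm, Nat.add_comm, pow_add, Equiv.Perm.mul_apply, hfix 3 e m] at this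
      exact h2 this
  have hjl : j ≠ π j := Ne.symm hj
  set u : W1 := Pi.single ⟨0, by omega⟩ 1
  have hu : u ≠ 0 := by simp [u]
  obtain ⟨zj, zl, ψ, hψ, hψj, hψl⟩ := isolate hk hjl u hu
    ![(a j : A1) *ᵥ u, (a j : A1) *ᵥ ((a (π.symm j) : A1) *ᵥ u)]
    ![(a (π j) : A1) *ᵥ ((a j : A1) *ᵥ ((a (π.symm j) : A1) *ᵥ u)), 0]
  set s := Function.update (Function.update (fun _ : ι => u) (π j) zl) j zj
  set S : Big := ((ptGL a * pmGL π : GG) : Big)
  have hS : ∀ r : ι → W1, S *ᵥ pv r = pv fun i => (a i : A1) *ᵥ r (π.symm i) := fun r => tw_mulVec a π r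
  have hs : ∀ i, i ≠ j → i ≠ π j → s i = u := fun i h1 h2 => by
    simp only [s, Function.update_of_ne h1, Function.update_of_ne h2]
  have e1 : π.symm j ≠ j := fun e => hj (by conv_lhs => rw [← e, Equiv.apply_symm_apply])
  have e2 : π.symm j ≠ π j := fun e => h2 (by
    rw [pow_two, Equiv.Perm.mul_apply, ← e, Equiv.apply_symm_apply])
  have e3 : π.symm (π.symm j) ≠ j := fun e => h2 (by
    rw [pow_two, Equiv.Perm.mul_apply]
    conv_lhs => rw [← e, Equiv.apply_symm_apply, Equiv.apply_symm_apply])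
  have e4 : π.symm (π.symm j) ≠ π j := fun e => h3 (by
    rw [pow_succ, pow_two, Equiv.Perm.mul_apply, Equiv.Perm.mul_apply, ← e, Equiv.apply_symm_apply,
      Equiv.apply_symm_apply])
  have hzero : ∀ (r : ι → W1) (i : ι), ψ i ⬝ᵥ r i = 0 → pv ψ ⬝ᵥ pv r = 0 := fun r i hi => by
    rw [pv_dot]; exact Finset.prod_eq_zero (Finset.mem_univ i) hi
  have key := congrArg (fun z => pv ψ ⬝ᵥ z) (cube_expand S (pv s))
  rw [show (S - 1) * (S - 1) * (S - 1) = 0 from h] at key
  simp only [zero_mulVec, dotProduct_zero, hS, dotProduct_sub, dotProduct_add, dotProduct_smul] at key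
  rw [hzero _ (π j) (by
      simp only [Equiv.symm_apply_apply]
      rw [hs _ e3 e4]; exact hψl 0),
    hzero _ j (by rw [hs _ e3 e4]; exact hψj 1), hzero _ j (by rw [hs _ e1 e2]; exact hψj 0),
    pv_dot, Finset.prod_eq_one fun i _ => hψ i] at key
  simp at key

/-- The tuples representing the free orbits of the rotation of three coordinates. -/
def reps (k : ℕ) : Finset (Fin k × Fin k × Fin k) :=
  Finset.univ.filter fun x => x.1 < x.2.1 ∧ x.1 ≤ x.2.2

theorem rot_not_mem {k : ℕ} {a b c : Fin k} (h : (a, b, c) ∈ reps k) :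
    (b, c, a) ∉ reps k ∧ (c, a, b) ∉ reps k := by
  simp only [reps, Finset.mem_filter, Finset.mem_univ, true_and] at h ⊢
  omega

theorem card_reps (k : ℕ) : 3 * (reps k).card + k = k ^ 3 := by
  classical
  set T : Finset (Fin k × Fin k × Fin k) := Finset.univ
  set r : Fin k × Fin k × Fin k ≃ Fin k × Fin k × Fin k :=
    { toFun := fun x => (x.2.1, x.2.2, x.1), invFun := fun x => (x.2.2, x.1, x.2.1)
      left_inv := fun _ => rfl, right_inv := fun _ => rfl }
  have hun : T = (reps k ∪ (reps k).map r.toEmbedding) ∪ (reps k).map (r.trans r).toEmbedding ∪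
      Finset.univ.image (fun a : Fin k => (a, a, a)) := by
    refine (Finset.eq_univ_iff_forall.2 fun x => ?_).symm
    obtain ⟨a, b, c⟩ := x
    simp only [Finset.mem_union, Finset.mem_map_equiv, Equiv.symm_trans_apply, reps, Finset.mem_filter,
      Finset.mem_univ, true_and, Finset.mem_image, Prod.mk.injEq, r, Equiv.coe_fn_symm_mk, Equiv.trans_apply]
    by_cases h : a = b ∧ b = c
    · exact Or.inr ⟨a, rfl, h.1, h.1.trans h.2⟩
    · left
      have h' : ¬ (a.1 = b.1 ∧ b.1 = c.1) := fun e => h ⟨Fin.ext e.1, Fin.ext e.2⟩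
      simp only [Fin.lt_def, Fin.le_def]
      omega
  have hcard : T.card = k ^ 3 := by simp [T]; ring
  rw [hun, Finset.card_union_of_disjoint, Finset.card_union_of_disjoint, Finset.card_union_of_disjoint,
    Finset.card_map, Finset.card_map, Finset.card_image_of_injective _ (fun a b e => congrArg Prod.fst e),
    Finset.card_univ, Fintype.card_fin] at hcard
  · omega
  all_goals
    rw [Finset.disjoint_left]
    rintro ⟨a, b, c⟩ h1 h2
    simp only [Finset.mem_union, Finset.mem_map_equiv, reps, Finset.mem_filter, Finset.mem_univ, true_and,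
      Finset.mem_image, Prod.mk.injEq, r, Equiv.coe_fn_symm_mk, Equiv.symm_trans_apply, Fin.lt_def, Fin.le_def,
      Fin.ext_iff] at h1 h2
  · omega
  · omega
  · obtain ⟨d, h3, h4, h5⟩ := h2
    omega

/-- A three-cycle of factors moves too much. -/
theorem perm_one_three (hk : 4 ≤ k) (h3 : (3 : F) = 0) {a : ι → GL (Fin k) F} {π : Equiv.Perm ι}
    (hy : (ptGL a * pmGL π : GG) ^ 3 = 1)
    (hr : ((((ptGL a * pmGL π : GG) : Big) - 1) * (((ptGL a * pmGL π : GG) : Big) - 1)).rank ≤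
      k ^ (Fintype.card ι - 1)) : π = 1 := by
  classical
  by_contra hne
  have h3' : ptGL (a * a ∘ π.symm * a ∘ (π * π).symm) * pmGL (π * π * π) = 1 := by
    rw [← tw_mul, ← tw_mul, ← hy, pow_succ, pow_two]
  obtain ⟨hπ, hscal⟩ := TensorPowerMax.Roots.tw_eq_one (by omega) h3'
  obtain ⟨j1, hj1⟩ : ∃ j, π j ≠ j := by
    by_contra hc
    push Not at hc
    exact hne (Equiv.ext hc)
  have hπ3 : ∀ i, π (π (π i)) = i := fun i => by
    rw [← Equiv.Perm.mul_apply, ← Equiv.Perm.mul_apply, hπ]; rfl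
  set j2 := π j1 with hj2
  set j3 := π j2 with hj3
  have e31 : π j3 = j1 := hπ3 j1
  have h12 : j1 ≠ j2 := Ne.symm hj1
  have h23 : j2 ≠ j3 := fun e => h12 (π.injective e)
  have h13 : j1 ≠ j3 := fun e => hj1 (by
    have := congrArg π e
    rw [e31] at this
    exact this)
  have s2 : π.symm j2 = j1 := π.symm_apply_apply j1
  have s3 : π.symm j3 = j2 := π.symm_apply_apply j2
  have s1 : π.symm j1 = j3 := by rw [← e31, Equiv.symm_apply_apply]
  have hpp : (π * π).symm j1 = j2 := by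
    show π.symm (π.symm j1) = j2
    rw [s1, s3]
  obtain ⟨c, hc⟩ := hscal j1
  rw [Pi.mul_apply, Pi.mul_apply, Function.comp_apply, Function.comp_apply, s1, hpp, Units.val_mul,
    Units.val_mul] at hc
  -- bases carried along the cycle
  let b : Fin k → W1 := fun x => Pi.single x 1
  let b2 : Fin k → W1 := fun x => (a j2 : A1) *ᵥ b x
  let b3 : Fin k → W1 := fun x => (a j3 : A1) *ᵥ b2 x
  have hb1 : ∀ x, (a j1 : A1) *ᵥ b3 x = c • b x := fun x => by
    simp only [b3, b2, mulVec_mulVec, ← Matrix.mul_assoc, hc, smul_mulVec, one_mulVec]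
  let φ : Fin k → W1 := fun x => Pi.single x 1
  let φ2 : Fin k → W1 := fun x => φ x ᵥ* (((a j2)⁻¹ : GL (Fin k) F) : A1)
  let φ3 : Fin k → W1 := fun x => φ2 x ᵥ* (((a j3)⁻¹ : GL (Fin k) F) : A1)
  have d1 : ∀ x y, φ x ⬝ᵥ b y = if x = y then 1 else 0 := fun x y => by
    simp [φ, b, Pi.single_apply, eq_comm]
  have d2 : ∀ x y, φ2 x ⬝ᵥ b2 y = if x = y then 1 else 0 := fun x y => by
    simp only [φ2, b2, ← dotProduct_mulVec, gl_inv_mulVec, d1]
  have d3 : ∀ x y, φ3 x ⬝ᵥ b3 y = if x = y then 1 else 0 := fun x y => by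
    simp only [φ3, b3, ← dotProduct_mulVec, gl_inv_mulVec, d2]
  let K := {i : ι // i ≠ j1 ∧ i ≠ j2 ∧ i ≠ j3}
  let D := ↥(reps k) × (K → Fin k)
  let sv : D → ι → W1 := fun x i =>
    if i = j1 then b x.1.1.1 else if i = j2 then b2 x.1.1.2.1 else if i = j3 then b3 x.1.1.2.2
    else if h : i ≠ j1 ∧ i ≠ j2 ∧ i ≠ j3 then b (x.2 ⟨i, h⟩) else 0
  let ψv : D → ι → W1 := fun x i =>
    if i = j1 then φ x.1.1.1 else if i = j2 then φ2 x.1.1.2.1 else if i = j3 then φ3 x.1.1.2.2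
    else if h : i ≠ j1 ∧ i ≠ j2 ∧ i ≠ j3 then φ (x.2 ⟨i, h⟩) else 0
  set S : Big := ((ptGL a * pmGL π : GG) : Big) with hSdef
  have hS : ∀ r : ι → W1, S *ᵥ pv r = pv fun i => (a i : A1) *ᵥ r (π.symm i) := fun r => tw_mulVec a π r
  have hsv : ∀ x, sv x j1 = b x.1.1.1 ∧ sv x j2 = b2 x.1.1.2.1 ∧ sv x j3 = b3 x.1.1.2.2 := fun x =>
    ⟨if_pos rfl, by simp only [sv, if_neg h12.symm, if_pos], by simp only [sv, if_neg h13.symm, if_neg h23.symm, if_pos]⟩
  have hψv : ∀ x, ψv x j1 = φ x.1.1.1 ∧ ψv x j2 = φ2 x.1.1.2.1 ∧ ψv x j3 = φ3 x.1.1.2.2 := fun x =>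
    ⟨if_pos rfl, by simp only [ψv, if_neg h12.symm, if_pos], by simp only [ψv, if_neg h13.symm, if_neg h23.symm, if_pos]⟩
  have hdual : ∀ x y : D, pv (ψv x) ⬝ᵥ pv (sv y) = if x = y then 1 else 0 := by
    intro x y
    rw [pv_dot]
    split_ifs with h
    · subst h
      refine Finset.prod_eq_one fun i _ => ?_
      simp only [ψv, sv]
      split_ifs with q1 q2 q3 q4
      · simp [d1]
      · simp [d2]
      · simp [d3]
      · simp [d1]
      · exact absurd ⟨q1, q2, q3⟩ q4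
    · by_cases hx1 : x.1 = y.1
      · obtain ⟨⟨i, hi⟩, hne2⟩ := Function.ne_iff.1 (fun e : x.2 = y.2 => h (Prod.ext hx1 e))
        refine Finset.prod_eq_zero (Finset.mem_univ i) ?_
        simp only [ψv, sv, if_neg hi.1, if_neg hi.2.1, if_neg hi.2.2, dif_pos hi, d1, if_neg hne2]
      · by_cases q1 : x.1.1.1 = y.1.1.1
        · by_cases q2 : x.1.1.2.1 = y.1.1.2.1
          · refine Finset.prod_eq_zero (Finset.mem_univ j3) ?_
            rw [(hψv x).2.2, (hsv y).2.2, d3, if_neg fun q3 => hx1 (Subtype.ext (Prod.ext q1 (Prod.ext q2 q3)))]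
          · refine Finset.prod_eq_zero (Finset.mem_univ j2) ?_
            rw [(hψv x).2.1, (hsv y).2.1, d2, if_neg q2]
        · refine Finset.prod_eq_zero (Finset.mem_univ j1) ?_
          rw [(hψv x).1, (hsv y).1, d1, if_neg q1]
  have hoff1 : ∀ x y : D, pv (ψv x) ⬝ᵥ (S *ᵥ pv (sv y)) = 0 := by
    intro x y
    rw [hS, pv_dot]
    have hy' := y.1.2
    have hx' := (rot_not_mem (k := k) (show (y.1.1.1, y.1.1.2.1, y.1.1.2.2) ∈ reps k from hy')).2
    by_cases q1 : x.1.1.1 = y.1.1.2.2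
    · by_cases q2 : x.1.1.2.1 = y.1.1.1
      · refine Finset.prod_eq_zero (Finset.mem_univ j3) ?_
        rw [(hψv x).2.2, s3, (hsv y).2.1]
        show φ3 _ ⬝ᵥ b3 _ = 0
        rw [d3, if_neg fun q3 => hx' (by rw [← q1, ← q2, ← q3]; exact x.1.2)]
      · refine Finset.prod_eq_zero (Finset.mem_univ j2) ?_
        rw [(hψv x).2.1, s2, (hsv y).1]
        show φ2 _ ⬝ᵥ b2 _ = 0
        rw [d2, if_neg q2]
    · refine Finset.prod_eq_zero (Finset.mem_univ j1) ?_
      rw [(hψv x).1, s1, (hsv y).2.2, hb1, dotProduct_smul, d1, if_neg q1, smul_zero]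
  have hoff2 : ∀ x y : D, pv (ψv x) ⬝ᵥ (S *ᵥ (S *ᵥ pv (sv y))) = 0 := by
    intro x y
    rw [hS, hS, pv_dot]
    have hy' := y.1.2
    have hx' := (rot_not_mem (k := k) (show (y.1.1.1, y.1.1.2.1, y.1.1.2.2) ∈ reps k from hy')).1
    by_cases q1 : x.1.1.1 = y.1.1.2.1
    · by_cases q2 : x.1.1.2.1 = y.1.1.2.2
      · refine Finset.prod_eq_zero (Finset.mem_univ j3) ?_
        simp only [s3, s2, (hψv x).2.2, (hsv y).1]
        show φ3 _ ⬝ᵥ b3 _ = 0
        rw [d3, if_neg fun q3 => hx' (by rw [← q1, ← q2, ← q3]; exact x.1.2)]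
      · refine Finset.prod_eq_zero (Finset.mem_univ j2) ?_
        simp only [s2, s1, (hψv x).2.1, (hsv y).2.2, hb1, mulVec_smul]
        show φ2 _ ⬝ᵥ (c • b2 _) = 0
        rw [dotProduct_smul, d2, if_neg q2, smul_zero]
    · refine Finset.prod_eq_zero (Finset.mem_univ j1) ?_
      simp only [s1, s3, (hψv x).1, (hsv y).2.1]
      show φ _ ⬝ᵥ ((a j1 : A1) *ᵥ b3 _) = 0
      rw [hb1, dotProduct_smul, d1, if_neg q1, smul_zero]
  have hval : ∀ x y : D, pv (ψv x) ⬝ᵥ (((S - 1) * (S - 1)) *ᵥ pv (sv y)) = if x = y then 1 else 0 := by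
    intro x y
    rw [sq_expand, dotProduct_add, dotProduct_sub, dotProduct_sub, hoff1, hoff2, hdual]
    simp
  have hli : LinearIndependent F (fun y : D => ((S - 1) * (S - 1)) *ᵥ pv (sv y)) := by
    rw [Fintype.linearIndependent_iff]
    intro g hg x
    have := congrArg (fun z => pv (ψv x) ⬝ᵥ z) hg
    simp only [dotProduct_sum, dotProduct_smul, hval, dotProduct_zero] at this
    rwa [Finset.sum_eq_single x (fun y _ hyx => by rw [if_neg (Ne.symm hyx), smul_zero]) (by simp), if_pos rfl,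
      smul_eq_mul, mul_one] at this
  have hrank : Fintype.card D ≤ ((S - 1) * (S - 1)).rank := by
    rw [← finrank_span_eq_card hli, Matrix.rank]
    refine Submodule.finrank_mono (Submodule.span_le.2 ?_)
    rintro _ ⟨y, rfl⟩
    exact ⟨_, rfl⟩
  have hK : Fintype.card K = Fintype.card ι - 3 := by
    rw [Fintype.card_subtype, show (Finset.univ.filter fun i => i ≠ j1 ∧ i ≠ j2 ∧ i ≠ j3) =
      Finset.univ \ {j1, j2, j3} by ext i; simp [not_or], Finset.card_sdiff_of_subset (Finset.subset_univ _),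
      Finset.card_univ, Finset.card_insert_of_notMem (by simp [h12, h13]),
      Finset.card_insert_of_notMem (by simp [h23]), Finset.card_singleton]
  rw [Fintype.card_prod, Fintype.card_coe, Fintype.card_fun, Fintype.card_fin, hK] at hrank
  have hn3 : 3 ≤ Fintype.card ι := by
    have := Finset.card_le_univ ({j1, j2, j3} : Finset ι)
    rwa [Finset.card_insert_of_notMem (by simp [h12, h13]), Finset.card_insert_of_notMem (by simp [h23]),
      Finset.card_singleton] at this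
  have hle := hrank.trans hr
  rw [show Fintype.card ι - 1 = 2 + (Fintype.card ι - 3) by omega, pow_add] at hle
  have hc' := card_reps k
  have hR : (reps k).card ≤ k ^ 2 := Nat.le_of_mul_le_mul_right hle (Nat.pow_pos (by omega))
  nlinarith

/-- Two commuting elements of order three with squared displacements proportional by a factor other
than one fix every factor. -/
theorem perm_one_pair (hk : 3 ≤ k) {a b : ι → GL (Fin k) F} {σ τ : Equiv.Perm ι}
    (hσ : σ * σ * σ = 1) (hτ : τ * τ * τ = 1) (hcomm : σ * τ = τ * σ) (hτ1 : τ ≠ 1) {c : F} (hc : c ≠ 1)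
    (hrel : ((((ptGL b * pmGL τ : GG) : Big) - 1) * (((ptGL b * pmGL τ : GG) : Big) - 1)) =
      c • ((((ptGL a * pmGL σ : GG) : Big) - 1) * (((ptGL a * pmGL σ : GG) : Big) - 1)))
    (b' : ι → GL (Fin k) F)
    (hrel' : ((((ptGL b' * pmGL τ⁻¹ : GG) : Big) - 1) * (((ptGL b' * pmGL τ⁻¹ : GG) : Big) - 1)) =
      c • ((((ptGL a * pmGL σ : GG) : Big) - 1) * (((ptGL a * pmGL σ : GG) : Big) - 1))) :
    σ = 1 := by
  classical
  by_contra hne
  obtain ⟨j, hj⟩ : ∃ j, σ j ≠ j := by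
    by_contra h
    push Not at h
    exact hne (Equiv.ext h)
  set u : W1 := Pi.single ⟨0, by omega⟩ 1
  have hu : u ≠ 0 := by simp [u]
  -- isolating the constant term
  have main : ∀ (b : ι → GL (Fin k) F) (τ : Equiv.Perm ι),
      ((((ptGL b * pmGL τ : GG) : Big) - 1) * (((ptGL b * pmGL τ : GG) : Big) - 1)) =
        c • ((((ptGL a * pmGL σ : GG) : Big) - 1) * (((ptGL a * pmGL σ : GG) : Big) - 1)) →
      ∀ (l : ι), j ≠ l → ∀ (d : Fin 4 → ι),
      (d 0 = j ∨ d 0 = l) → (d 1 = j ∨ d 1 = l) → (d 2 = j ∨ d 2 = l) → (d 3 = j ∨ d 3 = l) →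
      (σ.symm (d 0) ≠ j ∧ σ.symm (d 0) ≠ l) → (σ.symm (σ.symm (d 1)) ≠ j ∧ σ.symm (σ.symm (d 1)) ≠ l) →
      (τ.symm (d 2) ≠ j ∧ τ.symm (d 2) ≠ l) → (τ.symm (τ.symm (d 3)) ≠ j ∧ τ.symm (τ.symm (d 3)) ≠ l) →
      ∀ (A B : Fin 2 → W1),
      (∀ n, d n = j → ∃ m, A m = ![(a j : A1) *ᵥ u, (a j : A1) *ᵥ ((a (σ.symm j) : A1) *ᵥ u),
        (b j : A1) *ᵥ u, (b j : A1) *ᵥ ((b (τ.symm j) : A1) *ᵥ u)] n) →
      (∀ n, d n = l → ∃ m, B m = ![(a l : A1) *ᵥ u, (a l : A1) *ᵥ ((a (σ.symm l) : A1) *ᵥ u),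
        (b l : A1) *ᵥ u, (b l : A1) *ᵥ ((b (τ.symm l) : A1) *ᵥ u)] n) → False := by
    intro b τ hrel l hjl d d0 d1 d2 d3 g0 g1 g2 g3 A B hA hB
    obtain ⟨zj, zl, ψ, hψ, hψj, hψl⟩ := isolate hk hjl u hu A B
    set s := Function.update (Function.update (fun _ : ι => u) l zl) j zj
    have hs : ∀ i, i ≠ j → i ≠ l → s i = u := fun i h1 h2 => by
      simp only [s, Function.update_of_ne h1, Function.update_of_ne h2]
    have hzero : ∀ (r : ι → W1) (n : Fin 4), (d n = j ∨ d n = l) →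
        r (d n) = ![(a (d n) : A1) *ᵥ u, (a (d n) : A1) *ᵥ ((a (σ.symm (d n)) : A1) *ᵥ u),
          (b (d n) : A1) *ᵥ u, (b (d n) : A1) *ᵥ ((b (τ.symm (d n)) : A1) *ᵥ u)] n →
        pv ψ ⬝ᵥ pv r = 0 := fun r n hn hr => by
      rw [pv_dot]
      refine Finset.prod_eq_zero (Finset.mem_univ (d n)) ?_
      rw [hr]
      rcases hn with h | h <;> rw [h]
      · obtain ⟨m, hm⟩ := hA n h; rw [← hm]; exact hψj m
      · obtain ⟨m, hm⟩ := hB n h; rw [← hm]; exact hψl m
    have e1 := congrArg (fun X : Big => pv ψ ⬝ᵥ X *ᵥ pv s) hrel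
    simp only [smul_mulVec, dotProduct_smul, sq_expand, tw_mulVec, dotProduct_add, dotProduct_sub] at e1
    have hd : pv ψ ⬝ᵥ pv s = 1 := by rw [pv_dot]; exact Finset.prod_eq_one fun i _ => hψ i
    rw [hd, hzero _ 3 d3 (by rw [hs _ g3.1 g3.2]; rfl), hzero _ 2 d2 (by rw [hs _ g2.1 g2.2]; rfl),
      hzero _ 1 d1 (by rw [hs _ g1.1 g1.2]; rfl), hzero _ 0 d0 (by rw [hs _ g0.1 g0.2]; rfl)] at e1
    simp only [sub_zero, zero_add, smul_eq_mul, mul_one] at e1
    exact hc e1.symm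
  have hσ3 : ∀ i, σ (σ (σ i)) = i := fun i => by
    rw [← Equiv.Perm.mul_apply, ← Equiv.Perm.mul_apply, hσ]; rfl
  have hτ3 : ∀ i, τ (τ (τ i)) = i := fun i => by
    rw [← Equiv.Perm.mul_apply, ← Equiv.Perm.mul_apply, hτ]; rfl
  have hc' : ∀ i, σ (τ i) = τ (σ i) := fun i => by
    rw [← Equiv.Perm.mul_apply, hcomm, Equiv.Perm.mul_apply]
  have hσs : ∀ i, σ.symm i = σ (σ i) := fun i => by rw [Equiv.symm_apply_eq, hσ3]
  have hτs : ∀ i, τ.symm i = τ (τ i) := fun i => by rw [Equiv.symm_apply_eq, hτ3]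
  have s12 : σ (σ j) ≠ σ j := fun e => hj (σ.injective e)
  have s20 : σ (σ j) ≠ j := fun e => hj (by have := hσ3 j; rw [e] at this; exact this)
  by_cases hτj : τ j = j
  · obtain ⟨l, hl⟩ : ∃ l, τ l ≠ l := by
      by_contra h
      push Not at h
      exact hτ1 (Equiv.ext h)
    have hjl : j ≠ l := fun e => hl (by rw [← e, hτj])
    have hf1 : τ (σ j) = σ j := by rw [← hc', hτj]
    have hf2 : τ (σ (σ j)) = σ (σ j) := by rw [← hc', hf1]
    have l1 : τ (τ l) ≠ l := fun e => hl (by have := hτ3 l; rw [e] at this; exact this)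
    refine main b τ hrel l hjl ![j, j, l, l] (Or.inl rfl) (Or.inl rfl) (Or.inr rfl) (Or.inr rfl) ⟨?_, ?_⟩ ⟨?_, ?_⟩
      ⟨?_, ?_⟩ ⟨?_, ?_⟩ ![(a j : A1) *ᵥ u, (a j : A1) *ᵥ ((a (σ.symm j) : A1) *ᵥ u)]
      ![(b l : A1) *ᵥ u, (b l : A1) *ᵥ ((b (τ.symm l) : A1) *ᵥ u)] ?_ ?_
    · show σ.symm j ≠ j; rw [hσs]; exact s20
    · show σ.symm j ≠ l; rw [hσs]; exact fun e => hl (by rw [← e, hf2])
    · show σ.symm (σ.symm j) ≠ j; rw [hσs, hσs, hσ3]; exact hj
    · show σ.symm (σ.symm j) ≠ l; rw [hσs, hσs, hσ3]; exact fun e => hl (by rw [← e, hf1])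
    · show τ.symm l ≠ j; rw [hτs]
      exact fun e => hjl (τ.injective (τ.injective (by rw [hτj, hτj, e])))
    · show τ.symm l ≠ l; rw [hτs]; exact l1
    · show τ.symm (τ.symm l) ≠ j; rw [hτs, hτs, hτ3]
      exact fun e => hjl (τ.injective (by rw [hτj, e]))
    · show τ.symm (τ.symm l) ≠ l; rw [hτs, hτs, hτ3]; exact hl
    · intro n hn; fin_cases n
      · exact ⟨0, rfl⟩
      · exact ⟨1, rfl⟩
      · exact absurd hn.symm hjl
      · exact absurd hn.symm hjl
    · intro n hn; fin_cases n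
      · exact absurd hn hjl
      · exact absurd hn hjl
      · exact ⟨0, rfl⟩
      · exact ⟨1, rfl⟩
  by_cases h9 : τ j ≠ σ j ∧ τ j ≠ σ (σ j)
  · set l := σ (τ j) with hl
    have hjl : j ≠ l := fun e => h9.2 (σ.injective (by rw [hσ3, ← hl, ← e]))
    have q : τ.symm (σ (τ j)) = σ j := by rw [Equiv.symm_apply_eq, hc']
    have q2 : τ.symm (σ j) = σ (τ (τ j)) := by rw [Equiv.symm_apply_eq, ← hc', hτ3]
    refine main b τ hrel l hjl ![j, j, l, l] (Or.inl rfl) (Or.inl rfl) (Or.inr rfl) (Or.inr rfl) ⟨?_, ?_⟩ ⟨?_, ?_⟩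
      ⟨?_, ?_⟩ ⟨?_, ?_⟩ ![(a j : A1) *ᵥ u, (a j : A1) *ᵥ ((a (σ.symm j) : A1) *ᵥ u)]
      ![(b l : A1) *ᵥ u, (b l : A1) *ᵥ ((b (τ.symm l) : A1) *ᵥ u)] ?_ ?_
    · show σ.symm j ≠ j; rw [hσs]; exact s20
    · show σ.symm j ≠ σ (τ j); rw [hσs]; exact fun e => h9.1 (σ.injective e).symm
    · show σ.symm (σ.symm j) ≠ j; rw [hσs, hσs, hσ3]; exact hj
    · show σ.symm (σ.symm j) ≠ σ (τ j); rw [hσs, hσs, hσ3]; exact fun e => hτj (σ.injective e).symm
    · show τ.symm (σ (τ j)) ≠ j; rw [q]; exact hj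
    · show τ.symm (σ (τ j)) ≠ σ (τ j); rw [q]; exact fun e => hτj (σ.injective e).symm
    · show τ.symm (τ.symm (σ (τ j))) ≠ j; rw [q, q2]
      exact fun e => h9.1 (by have := congrArg τ e; rw [← hc', hτ3] at this; exact this.symm)
    · show τ.symm (τ.symm (σ (τ j))) ≠ σ (τ j); rw [q, q2]
      exact fun e => hτj (τ.injective (σ.injective e))
    · intro n hn; fin_cases n
      · exact ⟨0, rfl⟩
      · exact ⟨1, rfl⟩
      · exact absurd hn.symm hjl
      · exact absurd hn.symm hjl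
    · intro n hn; fin_cases n
      · exact absurd hn hjl
      · exact absurd hn hjl
      · exact ⟨0, rfl⟩
      · exact ⟨1, rfl⟩
  -- `τ` acts on the orbit of `j` as a power of `σ`
  have final : ∀ (b : ι → GL (Fin k) F) (τ : Equiv.Perm ι),
      ((((ptGL b * pmGL τ : GG) : Big) - 1) * (((ptGL b * pmGL τ : GG) : Big) - 1)) =
        c • ((((ptGL a * pmGL σ : GG) : Big) - 1) * (((ptGL a * pmGL σ : GG) : Big) - 1)) →
      (∀ i, σ (τ i) = τ (σ i)) → τ j = σ j → False := by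
    intro b τ hrel hc' ht
    have t1 : τ (σ j) = σ (σ j) := by rw [← hc', ht]
    have t2 : τ (σ (σ j)) = j := by rw [← hc', t1, hσ3]
    have u0 : τ.symm j = σ (σ j) := by rw [Equiv.symm_apply_eq, t2]
    have u1 : τ.symm (σ j) = j := by rw [Equiv.symm_apply_eq, ht]
    refine main b τ hrel (σ j) (Ne.symm hj) ![j, σ j, j, σ j] (Or.inl rfl) (Or.inr rfl) (Or.inl rfl) (Or.inr rfl)
      ⟨?_, ?_⟩ ⟨?_, ?_⟩ ⟨?_, ?_⟩ ⟨?_, ?_⟩ ![(a j : A1) *ᵥ u, (b j : A1) *ᵥ u]
      ![(a (σ j) : A1) *ᵥ ((a (σ.symm (σ j)) : A1) *ᵥ u), (b (σ j) : A1) *ᵥ ((b (τ.symm (σ j)) : A1) *ᵥ u)] ?_ ?_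
    · simp [hσs, s20]
    · simp [hσs, s12]
    · simp [hσs, hσ3, s20]
    · simp [hσs, hσ3, s12]
    · simp [u0, s20]
    · simp [u0, s12]
    · simp [u1, u0, s20]
    · simp [u1, u0, s12]
    · intro n hn; fin_cases n
      · exact ⟨0, rfl⟩
      · exact absurd hn hj
      · exact ⟨1, rfl⟩
      · exact absurd hn hj
    · intro n hn; fin_cases n
      · exact absurd hn.symm hj
      · exact ⟨0, rfl⟩
      · exact absurd hn.symm hj
      · exact ⟨1, rfl⟩
  push Not at h9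
  by_cases ht : τ j = σ j
  · exact final b τ hrel hc' ht
  have ht2 : τ j = σ (σ j) := h9 ht
  refine final b' τ⁻¹ hrel' (fun i => ?_) ?_
  · apply τ.injective
    rw [Equiv.Perm.inv_def, Equiv.apply_symm_apply, ← hc', Equiv.apply_symm_apply]
  · rw [Equiv.Perm.inv_def, Equiv.symm_apply_eq, ← hc', ht2, hσ3]

end Cfsg.Agent.Lib.TensorPowerOrth.Perm
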