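import Cfsg.Agent.Lib.TensorPowerOrth.Slice

/-!
Logarithms of the elements radical at a block, and their commutators.
-/

set_option autoImplicit false
set_option linter.unusedSectionVars false

namespace Cfsg.Agent.Lib.TensorPowerOrth.Rad

open Matrix
open Cfsg.Agent.Lib.Subspaces.Transvection Cfsg.Agent.Lib.Subspaces.FormVec
  Cfsg.Agent.Lib.TensorPowerMax.Basic Cfsg.Agent.Lib.TensorOrthMax.Side Cfsg.Agent.Lib.TensorOrthMax.Setup
  Cfsg.Agent.Lib.TensorPowerOrth.Form Cfsg.Agent.Lib.TensorPowerOrth.Frame Cfsg.Agent.Lib.TensorPowerOrth.Roots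
  Cfsg.Agent.Lib.TensorPowerOrth.Skew Cfsg.Agent.Lib.TensorPowerOrth.Kron Cfsg.Agent.Lib.TensorPowerOrth.Block
  Cfsg.Agent.Lib.TensorPowerOrth.Upper
open Cfsg.Agent.Lib.TensorSympMax.Quad (Maps)

variable {ι : Type} [Fintype ι] [DecidableEq ι] {k : ℕ} {F : Type*} [Field F]

local notation "A1" => Matrix (Fin k) (Fin k) F
local notation "Big" => Matrix (ι → Fin k) (ι → Fin k) F
local notation "GG" => GL (ι → Fin k) F
local notation "W1" => Fin k → F

/-- The logarithms of elements radical at a block. -/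
structure RadL (f : (Fin k → F) → (Fin k → F) → F) (j : ι) (v : Fin k → F)
    (L : Matrix (ι → Fin k) (ι → Fin k) F) : Prop where
  fix : ∀ u, L *ᵥ ins j v u = 0
  perp : ∀ y, Perp f j v y → L *ᵥ y ∈ block j v
  skew : ∀ a b, Bt f (L *ᵥ a) b + Bt f a (L *ᵥ b) = 0

/-- The exponential of a matrix with vanishing cube. -/
def ex (L : Matrix (ι → Fin k) (ι → Fin k) F) : Matrix (ι → Fin k) (ι → Fin k) F := 1 + L + (2 : F)⁻¹ • (L * L)

/-- The logarithms of the elements of a group radical at a block. -/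
def Lg (f : (Fin k → F) → (Fin k → F) → F) (M : Subgroup (GL (ι → Fin k) F)) (j : ι) (v : Fin k → F)
    (L : Matrix (ι → Fin k) (ι → Fin k) F) : Prop :=
  RadL f j v L ∧ ∃ x ∈ M, (x : Matrix (ι → Fin k) (ι → Fin k) F) = ex L

/-- No central element. -/
def NoC (f : (Fin k → F) → (Fin k → F) → F) (M : Subgroup (GL (ι → Fin k) F)) : Prop :=
  ∀ x ∈ M, ∀ (l : ι) (u : Fin k → F), u ≠ 0 → f u u = 0 →
    ∀ C, (x : Matrix (ι → Fin k) (ι → Fin k) F) = 1 + kr l C (vecMulVec u (formVec f u)) → C = 0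

variable {f : (Fin k → F) → (Fin k → F) → F} (hf : Sym f) {j : ι} {v : Fin k → F} (hv : f v v = 0)
include hf hv

theorem RadL.range {L : Big} (hL : RadL f j v L) (y : (ι → Fin k) → F) : Perp f j v (L *ᵥ y) := fun u => by
  have h := hL.skew (ins j v u) y
  rwa [hL.fix, Bt_zeroL, zero_add] at h

theorem RadL.kill {L : Big} (hL : RadL f j v L) {y : (ι → Fin k) → F} (hy : y ∈ block j v) : L *ᵥ y = 0 := by
  obtain ⟨u, rfl⟩ := hy
  exact hL.fix u

theorem RadL.triple {L L' L'' : Big} (h : RadL f j v L) (h' : RadL f j v L') (h'' : RadL f j v L'') :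
    L * (L' * L'') = 0 := by
  refine Matrix.mulVec_injective (funext fun y => ?_)
  rw [zero_mulVec, ← mulVec_mulVec, ← mulVec_mulVec, h.kill hf hv (h'.perp _ (h''.range hf hv y))]

theorem RadL.add {L L' : Big} (h : RadL f j v L) (h' : RadL f j v L') : RadL f j v (L + L') where
  fix u := by rw [add_mulVec, h.fix, h'.fix, add_zero]
  perp y hy := by rw [add_mulVec]; exact Submodule.add_mem _ (h.perp y hy) (h'.perp y hy)
  skew a b := by
    rw [add_mulVec, add_mulVec, Bt_addL, Bt_addR]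
    linear_combination h.skew a b + h'.skew a b

theorem RadL.neg {L : Big} (h : RadL f j v L) : RadL f j v (-L) where
  fix u := by rw [neg_mulVec, h.fix, neg_zero]
  perp y hy := by rw [neg_mulVec]; exact Submodule.neg_mem _ (h.perp y hy)
  skew a b := by
    rw [neg_mulVec, neg_mulVec, Bt_negL, Bt_negR]
    linear_combination -(h.skew a b)

/-- An element radical at a block is the exponential of such a matrix. -/
theorem exists_log {x : GG} (hx : x ∈ isoB ι f) (hR : Radical f j v x) :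
    ∃ L, RadL f j v L ∧ (x : Big) = ex L := by
  set N : Big := (x : Big) - 1
  have hN : ∀ y, N *ᵥ y = (x : Big) *ᵥ y - y := fun y => by rw [sub_mulVec, one_mulVec]
  have hfix : ∀ y ∈ block j v, N *ᵥ y = 0 := by
    rintro _ ⟨u, rfl⟩
    rw [hN, hR.fix, sub_self]
  have hblock : ∀ y, Perp f j v y → N *ᵥ y ∈ block j v := fun y hy => by rw [hN]; exact hR.perp y hy
  have hrange : ∀ y, Perp f j v (N *ᵥ y) := fun y u => by
    have h := hx (ins j v u) y
    rw [hR.fix] at h
    rw [hN, Bt_subR, h, sub_self]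
  have h3 : ∀ y, N *ᵥ (N *ᵥ (N *ᵥ y)) = 0 := fun y => hfix _ (hblock _ (hrange y))
  have hiso : ∀ a b, Bt f (N *ᵥ a) b + Bt f a (N *ᵥ b) + Bt f (N *ᵥ a) (N *ᵥ b) = 0 := fun a b => by
    have h := hx a b
    rw [hN, hN]
    simp only [Bt_subL, Bt_subR]
    linear_combination h
  have h2 := hf.two
  refine ⟨N - (2 : F)⁻¹ • (N * N), ⟨fun u => ?_, fun y hy => ?_, fun a b => ?_⟩, ?_⟩
  · rw [sub_mulVec, smul_mulVec, ← mulVec_mulVec, hfix _ (LinearMap.mem_range_self _ _), mulVec_zero, smul_zero,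
      sub_zero]
  · rw [sub_mulVec, smul_mulVec, ← mulVec_mulVec, hfix _ (hblock y hy), smul_zero, sub_zero]
    exact hblock y hy
  · simp only [sub_mulVec, smul_mulVec, ← mulVec_mulVec, Bt_subL, Bt_subR, Bt_smulL, Bt_smulR]
    have e1 := hiso a b
    have e2 := hiso (N *ᵥ a) b
    have e3 := hiso a (N *ᵥ b)
    have z1 : Bt f (N *ᵥ (N *ᵥ a)) (N *ᵥ b) = 0 := by
      obtain ⟨u, hu⟩ := hblock _ (hrange a)
      rw [← hu]; exact hrange b u
    have z2 : Bt f (N *ᵥ a) (N *ᵥ (N *ᵥ b)) = 0 := by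
      obtain ⟨u, hu⟩ := hblock _ (hrange b)
      rw [← hu, Bt_comm hf]; exact hrange a u
    rw [z1, add_zero] at e2
    rw [z2, add_zero] at e3
    linear_combination (norm := (field_simp; ring)) e1 - (2 : F)⁻¹ * e2 - (2 : F)⁻¹ * e3
  · refine Matrix.mulVec_injective (funext fun y => ?_)
    simp only [ex, add_mulVec, one_mulVec, sub_mulVec, smul_mulVec, ← mulVec_mulVec, mulVec_sub, mulVec_smul, h3,
      hfix _ (Submodule.zero_mem _), mulVec_zero, smul_zero, sub_zero]
    rw [show (x : Big) *ᵥ y = y + N *ᵥ y by rw [hN]; abel]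
    module

/-- A commutator of logarithms is central. -/
theorem brk_central {v' : W1} (Fm : Fr f v v') {L L' : Big} (h : RadL f j v L) (h' : RadL f j v L') :
    ∃ C, L * L' - L' * L = kr j C (vecMulVec v (formVec f v)) := by
  set Z := L * L' - L' * L
  have hperp : ∀ y, Perp f j v y → Z *ᵥ y = 0 := fun y hy => by
    rw [sub_mulVec, ← mulVec_mulVec, ← mulVec_mulVec, h.kill hf hv (h'.perp y hy), h'.kill hf hv (h.perp y hy),
      sub_self]
  have hblock : ∀ y, Z *ᵥ y ∈ block j v := fun y => by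
    rw [sub_mulVec, ← mulVec_mulVec, ← mulVec_mulVec]
    exact Submodule.sub_mem _ (h.perp _ (h'.range hf hv y)) (h'.perp _ (h.range hf hv y))
  let Cl : (({i // i ≠ j} → Fin k) → F) →ₗ[F] ({i // i ≠ j} → Fin k) → F :=
    (ctr j (formVec f v')).comp (Z.mulVecLin.comp (ins j v'))
  refine ⟨LinearMap.toMatrix' Cl, mat_ext_ins j fun w u => ?_⟩
  rw [kr_ins, LinearMap.toMatrix'_mulVec, E_mulVec hf, ins_smul]
  have hw : w = f w v' • v + f w v • v' + (w - f w v' • v - f w v • v') := by abel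
  conv_lhs => rw [hw]
  simp only [TensorSympMax.Basic.ins_add_vec, ins_smul, mulVec_add, mulVec_smul,
    hperp _ (perp_ins hf hv u), hperp _ (perp_ins hf (per_proj hf Fm w).1 u), smul_zero, zero_add, add_zero]
  obtain ⟨t, ht⟩ := hblock (ins j v' u)
  congr 1
  show Z *ᵥ ins j v' u = ins j v (ctr j (formVec f v') (Z *ᵥ ins j v' u))
  rw [← ht, ctr_ins, hf.dot, Fm.pair, one_smul]

variable {M : Subgroup (GL (ι → Fin k) F)}

/-- Logarithms of the group commute when it has no central element. -/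
theorem Lg.comm (NC : NoC f M) {v' : W1} (Fm : Fr f v v') {L L' : Big} (h : Lg f M j v L) (h' : Lg f M j v L') :
    L * L' = L' * L := by
  obtain ⟨hL, x, hx, ex1⟩ := h
  obtain ⟨hL', y, hy, ey⟩ := h'
  obtain ⟨C, hC⟩ := brk_central hf hv Fm hL hL'
  have t1 : ∀ {A B D : Big}, RadL f j v A → RadL f j v B → RadL f j v D → A * B * D = 0 := fun {A B D} hA hB hD => by
    rw [Matrix.mul_assoc]; exact RadL.triple hf hv hA hB hD
  have h2 : ∀ {A B D : Big}, RadL f j v A → RadL f j v B → RadL f j v D → ∀ E' : Big, A * (B * (D * E')) = 0 :=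
    fun {A B D} hA hB hD E' => by rw [← Matrix.mul_assoc, ← Matrix.mul_assoc, t1 hA hB hD, Matrix.zero_mul]
  have e : (x : Big) * (y : Big) = (1 + (L * L' - L' * L)) * ((y : Big) * (x : Big)) := by
    rw [ex1, ey]
    simp only [ex, Matrix.mul_add, Matrix.add_mul, Matrix.sub_mul, Matrix.smul_mul, Matrix.mul_smul,
      Matrix.mul_one, Matrix.one_mul, Matrix.mul_assoc, h2 hL hL' hL, h2 hL hL' hL', h2 hL' hL hL, h2 hL' hL hL',
      h2 hL hL hL', h2 hL' hL' hL, h2 hL hL hL, h2 hL' hL' hL', RadL.triple hf hv hL hL hL',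
      RadL.triple hf hv hL hL' hL, RadL.triple hf hv hL hL' hL', RadL.triple hf hv hL' hL hL,
      RadL.triple hf hv hL' hL hL', RadL.triple hf hv hL' hL' hL, smul_zero, add_zero, zero_add, sub_zero,
      Matrix.mul_zero]
    abel
  have hz : ((x * y * (y * x)⁻¹ : GG) : Big) = 1 + (L * L' - L' * L) := by
    rw [Units.val_mul, Units.val_mul, e, ← Units.val_mul y x, Matrix.mul_assoc, Units.mul_inv, Matrix.mul_one]
  have hC0 := NC _ (mul_mem (mul_mem hx hy) (inv_mem (mul_mem hy hx))) j v (Fm.ne hf) hv C (by rw [hz, hC])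
  rw [hC0, kr_zero_left, sub_eq_zero] at hC
  exact hC

theorem ex_add {L L' : Big} (h : RadL f j v L) (h' : RadL f j v L') (hc : L * L' = L' * L) :
    ex L * ex L' = ex (L + L') := by
  have h2 : (2 : F) ≠ 0 := hf.two
  simp only [ex, Matrix.mul_add, Matrix.add_mul, Matrix.smul_mul, Matrix.mul_smul, Matrix.mul_one, Matrix.one_mul,
    Matrix.mul_assoc, RadL.triple hf hv h h h', RadL.triple hf hv h h' h', Matrix.mul_zero, smul_zero, add_zero,
    smul_add, ← hc]
  match_scalars <;> field_simp <;> ring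

/-- The logarithms form a group when there is no central element. -/
def logs (NC : NoC f M) {v' : W1} (Fm : Fr f v v') : AddSubgroup Big where
  carrier := {L | Lg f M j v L}
  zero_mem' := ⟨⟨fun _ => zero_mulVec _, fun _ _ => by rw [zero_mulVec]; exact Submodule.zero_mem _,
    fun a b => by simp [Bt_zeroL, Bt_zeroR]⟩, 1, one_mem _, by simp [ex]⟩
  add_mem' := fun {L L'} h h' => by
    obtain ⟨hL, x, hx, ex1⟩ := h
    obtain ⟨hL', y, hy, ey⟩ := h'
    refine ⟨hL.add hf hv hL', x * y, mul_mem hx hy, ?_⟩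
    rw [Units.val_mul, ex1, ey, ex_add hf hv hL hL' (Lg.comm hf hv NC Fm ⟨hL, x, hx, ex1⟩ ⟨hL', y, hy, ey⟩)]
  neg_mem' := fun {L} h => by
    obtain ⟨hL, x, hx, ex1⟩ := h
    refine ⟨hL.neg hf hv, x⁻¹, inv_mem hx, ?_⟩
    have h0 : (x : Big) * ex (-L) = 1 := by
      rw [ex1, ex_add hf hv hL (hL.neg hf hv) (by simp), add_neg_cancel]
      simp [ex]
    calc ((x⁻¹ : GG) : Big) = ((x⁻¹ : GG) : Big) * ((x : Big) * ex (-L)) := by rw [h0, mul_one]
      _ = _ := by rw [← mul_assoc, Units.inv_mul, one_mul]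

omit hv in
/-- Conjugation by isometries fixing the block. -/
theorem Lg.conj {g : GG} (hgi : g ∈ isoB ι f) (hg : g ∈ M) (hm : Maps g j v j v) {L : Big} (h : Lg f M j v L) :
    Lg f M j v ((g : Big) * L * ((g⁻¹ : GG) : Big)) := by
  obtain ⟨hL, x, hx, ex1⟩ := h
  refine ⟨⟨fun u => ?_, fun y hy => ?_, fun a b => ?_⟩, g * x * g⁻¹, mul_mem (mul_mem hg hx) (inv_mem hg), ?_⟩
  · obtain ⟨u', hu'⟩ := hm.exists_pre u
    rw [← hu', ← mulVec_mulVec, ← mulVec_mulVec, gl_inv_mulVec, hL.fix, mulVec_zero]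
  · have hy' : Perp f j v (((g⁻¹ : GG) : Big) *ᵥ y) := fun u => by
      obtain ⟨u', hu'⟩ := hm.mem u
      rw [← iso_move hgi, ← hu']
      exact hy u'
    obtain ⟨t, ht⟩ := hL.perp _ hy'
    rw [← mulVec_mulVec, ← mulVec_mulVec, ← ht]
    exact hm.mem t
  · simp only [← mulVec_mulVec, iso_move hgi]
    rw [← iso_move_inv hgi a]
    exact hL.skew _ _
  · rw [Units.val_mul, Units.val_mul, ex1]
    simp only [ex, mul_add, add_mul, Matrix.mul_smul, Matrix.smul_mul, mul_one, Units.mul_inv]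
    congr 2
    rw [show (g : Big) * L * ((g⁻¹ : GG) : Big) * ((g : Big) * L * ((g⁻¹ : GG) : Big)) =
      (g : Big) * L * (((g⁻¹ : GG) : Big) * (g : Big)) * L * ((g⁻¹ : GG) : Big) by simp only [mul_assoc],
      Units.inv_mul, mul_one, mul_assoc (g : Big) L L]

end Cfsg.Agent.Lib.TensorPowerOrth.Rad
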