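import Cfsg.Agent.Lib.TensorPowerOrth.Frame

/-!
Eichler elements of one factor, the overgroup setting and the elements of the factors it contains.
-/

set_option autoImplicit false
set_option linter.unusedSectionVars false

namespace Cfsg.Agent.Lib.TensorPowerOrth.Roots

open Matrix
open Cfsg.Agent.Lib.Subspaces.Transvection Cfsg.Agent.Lib.Subspaces.FormVec
  Cfsg.Agent.Lib.TensorPowerMax.Basic Cfsg.Agent.Lib.TensorOrthMax.Side Cfsg.Agent.Lib.TensorOrthMax.Setup
  Cfsg.Agent.Lib.TensorPowerOrth.Form Cfsg.Agent.Lib.TensorPowerOrth.Frame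

variable {ι : Type} [Fintype ι] [DecidableEq ι] {k : ℕ} {F : Type*} [Field F]

local notation "A1" => Matrix (Fin k) (Fin k) F
local notation "Big" => Matrix (ι → Fin k) (ι → Fin k) F
local notation "GG" => GL (ι → Fin k) F
local notation "G1" => GL (Fin k) F
local notation "W1" => Fin k → F

/-! ### one factor -/

open scoped Classical in
/-- The Eichler element of `v` and `z`. -/
noncomputable def er (f : (Fin k → F) → (Fin k → F) → F) (v z : Fin k → F) : GL (Fin k) F :=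
  if h : IsUnit (1 + eN f v z) then h.unit else 1

variable {f : (Fin k → F) → (Fin k → F) → F}

section

variable (hf : Sym f) {v z : Fin k → F} (hv : f v v = 0) (hz : f z v = 0)
include hf hv hz

theorem coe_er : (er f v z : A1) = 1 + eN f v z := by
  have hnz : f (-z) v = 0 := by rw [hf.negL, hz, neg_zero]
  have e1 : (1 + eN f v z) * (1 + eN f v (-z)) = 1 := by
    rw [eN_add hf hv hz hnz, add_neg_cancel, eN_zero hf, add_zero]
  have h : IsUnit (1 + eN f v z) := ⟨⟨_, _, e1, mul_eq_one_comm.1 e1⟩, rfl⟩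
  rw [er, dif_pos h]
  rfl

theorem er_mulVec (w : W1) : (er f v z : A1) *ᵥ w = w + (f w z • v - f w v • z - (f z z / 2 * f w v) • v) := by
  rw [coe_er hf hv hz, add_mulVec, one_mulVec, eN_mulVec hf]

theorem er_fix : (er f v z : A1) *ᵥ v = v := by
  rw [coe_er hf hv hz, add_mulVec, one_mulVec, eN_self hf hv hz, add_zero]

theorem er_iso : er f v z ∈ isoF f := fun x y => by
  rw [coe_er hf hv hz]; exact eN_isometry hf hv hz x y

theorem er_mul {z' : W1} (hz' : f z' v = 0) : er f v z * er f v z' = er f v (z + z') :=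
  Units.ext (by
    rw [Units.val_mul, coe_er hf hv hz, coe_er hf hv hz',
      coe_er hf hv (show f (z + z') v = 0 by rw [hf.addL, hz, hz', add_zero]), eN_add hf hv hz hz'])

theorem er_inv : (er f v z)⁻¹ = er f v (-z) := by
  have hnz : f (-z) v = 0 := by rw [hf.negL, hz, neg_zero]
  refine inv_eq_of_mul_eq_one_right ?_
  rw [er_mul hf hv hz hnz, add_neg_cancel]
  exact Units.ext (by rw [coe_er hf hv (hf.zeroL v), eN_zero hf, add_zero, Units.val_one])

theorem er_half : ∃ z', f z' v = 0 ∧ er f v z' * er f v z' = er f v z := by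
  have h' : f ((2 : F)⁻¹ • z) v = 0 := by rw [hf.smulL, hz, mul_zero]
  exact ⟨_, h', by rw [er_mul hf hv h' h', ← two_smul F ((2 : F)⁻¹ • z), smul_inv_smul₀ hf.two]⟩

theorem er_conj {g : G1} (hg : g ∈ isoF f) :
    g * er f v z * g⁻¹ = er f ((g : A1) *ᵥ v) ((g : A1) *ᵥ z) := by
  have h1 : f ((g : A1) *ᵥ v) ((g : A1) *ᵥ v) = 0 := by rw [hg, hv]
  have h2 : f ((g : A1) *ᵥ z) ((g : A1) *ᵥ v) = 0 := by rw [hg, hz]
  refine gl_ext fun w => ?_
  obtain ⟨x, rfl⟩ : ∃ x, (g : A1) *ᵥ x = w := ⟨_, gl_mulVec_inv g w⟩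
  rw [gl_mul_mulVec, gl_mul_mulVec, gl_inv_mulVec, er_mulVec hf hv hz, er_mulVec hf h1 h2, hg, hg, hg]
  simp only [mulVec_add, mulVec_sub, mulVec_smul]

end

theorem er_smul (hf : Sym f) {v z : W1} (hv : f v v = 0) (hz : f z v = 0) (c : F) :
    er f (c • v) z = er f v (c • z) := by
  have h1 : f (c • v) (c • v) = 0 := hf.iso_smul hv c
  have h2 : f z (c • v) = 0 := by rw [hf.smulR, hz, mul_zero]
  have h3 : f (c • z) v = 0 := by rw [hf.smulL, hz, mul_zero]
  refine gl_ext fun w => ?_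
  rw [er_mulVec hf h1 h2, er_mulVec hf hv h3]
  simp only [hf.smulL, hf.smulR]
  module

theorem er_zero (hf : Sym f) {v : W1} (hv : f v v = 0) : er f v 0 = 1 :=
  Units.ext (by rw [coe_er hf hv (hf.zeroL v), eN_zero hf, add_zero, Units.val_one])

/-- A product of three Eichler elements exchanging the lines of a frame. -/
theorem weyl (hf : Sym f) {v v' z : W1} (Fm : Fr f v v') (hz : Per f v v' z) (hzz : f z z ≠ 0) :
    let g := er f v z * er f v' ((2 / f z z) • z) * er f v z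
    (g : A1) *ᵥ v = (-(2 / f z z)) • v' ∧ (g : A1) *ᵥ v' = (-(f z z / 2)) • v ∧
      ∀ y, Per f v v' y → (g : A1) *ᵥ y = y - (2 * f y z / f z z) • z := by
  intro g
  have h2 := hf.two
  have hz2 : f ((2 / f z z) • z) v' = 0 := by rw [hf.smulL, hz.2, mul_zero]
  have hzv : f z v = 0 := hz.1
  refine ⟨?_, ?_, fun y hy => ?_⟩
  all_goals
    rw [gl_mul_mulVec, gl_mul_mulVec, er_mulVec hf Fm.vv hzv]
    simp only [er_mulVec hf Fm.vv hzv, er_mulVec hf Fm.v'v' hz2, hf.addL, hf.subL, hf.smulL, hf.smulR, Fm.vv,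
      Fm.v'v', Fm.pair, Fm.pair' hf, hz.1, hz.2, hf.comm z v, hf.comm z v']
  · match_scalars <;> field_simp <;> ring
  · match_scalars <;> field_simp <;> ring
  · simp only [hy.1, hy.2]
    match_scalars <;> field_simp <;> ring

/-- Products of Eichler elements are transitive on isotropic lines. -/
theorem exists_move [Finite F] (P : Par f) {v w : W1} (hv : v ≠ 0) (hvv : f v v = 0) (hw : w ≠ 0)
    (hww : f w w = 0) (H : Subgroup G1) (hH : ∀ x y : W1, f x x = 0 → f y x = 0 → er f x y ∈ H) :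
    ∃ g ∈ H, ∃ μ : F, μ ≠ 0 ∧ (g : A1) *ᵥ v = μ • w := by
  have hf := P.sym
  have step : ∀ {v w : W1}, f v v = 0 → f w w = 0 → f v w ≠ 0 →
      ∃ g ∈ H, ∃ μ : F, μ ≠ 0 ∧ (g : A1) *ᵥ v = μ • w := by
    intro v w hvv hww hvw
    have Fm : Fr f v ((f v w)⁻¹ • w) :=
      ⟨hvv, hf.iso_smul hww _, by rw [hf.smulR, inv_mul_cancel₀ hvw]⟩
    obtain ⟨z, hz, hzz⟩ := exists_aniso P Fm
    have hz2 : f ((2 / f z z) • z) ((f v w)⁻¹ • w) = 0 := by rw [hf.smulL, hz.2, mul_zero]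
    refine ⟨er f v z * er f ((f v w)⁻¹ • w) ((2 / f z z) • z) * er f v z, mul_mem (mul_mem (hH _ _ hvv hz.1)
      (hH _ _ Fm.v'v' hz2)) (hH _ _ hvv hz.1), -(2 / f z z) * (f v w)⁻¹, ?_, ?_⟩
    · exact mul_ne_zero (neg_ne_zero.2 (div_ne_zero hf.two hzz)) (inv_ne_zero hvw)
    · rw [(weyl hf Fm hz hzz).1, smul_smul]
  by_cases hvw : f v w ≠ 0
  · exact step hvv hww hvw
  push Not at hvw
  by_cases hs : w ∈ Submodule.span F {v}
  · obtain ⟨c, rfl⟩ := Submodule.mem_span_singleton.1 hs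
    have hc : c ≠ 0 := fun e => hw (by rw [e, zero_smul])
    exact ⟨1, one_mem _, c⁻¹, inv_ne_zero hc, by rw [Units.val_one, one_mulVec, inv_smul_smul₀ hc]⟩
  obtain ⟨t1, h1, h1v⟩ := hf.dual (T := Submodule.span F {w}) (z := v) fun e => by
    obtain ⟨c, hc⟩ := Submodule.mem_span_singleton.1 e
    have hc0 : c ≠ 0 := fun e0 => hv (by rw [← hc, e0, zero_smul])
    exact hs (Submodule.mem_span_singleton.2 ⟨c⁻¹, by rw [← hc, inv_smul_smul₀ hc0]⟩)
  obtain ⟨t2, h2, h2w⟩ := hf.dual hs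
  set x := t1 + t2 with hx
  have hxv : f x v = 1 := by rw [hx, hf.addL, h1v, h2 v (Submodule.mem_span_singleton_self v), add_zero]
  have hxw : f x w = 1 := by rw [hx, hf.addL, h2w, h1 w (Submodule.mem_span_singleton_self w), zero_add]
  set t := x + (-(f x x / 2)) • v with ht
  have htt : f t t = 0 := by
    have := hf.two
    rw [ht, hf.expand, hvv, hxv]
    field_simp
    ring
  have hvt : f v t ≠ 0 := by
    rw [ht, hf.addR, hf.smulR, hvv, hf.comm x v, hxv, mul_zero, add_zero]; exact one_ne_zero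
  have htw : f t w ≠ 0 := by
    rw [ht, hf.addL, hf.smulL, hxw, hvw, mul_zero, add_zero]; exact one_ne_zero
  obtain ⟨g, hg, μ, hμ, hgv⟩ := step hvv htt hvt
  obtain ⟨g', hg', μ', hμ', hgt⟩ := step htt hww htw
  exact ⟨g' * g, mul_mem hg' hg, μ * μ', mul_ne_zero hμ hμ', by
    rw [gl_mul_mulVec, hgv, mulVec_smul, hgt, smul_smul]⟩

/-! ### the factors inside the big group -/

/-- The Eichler element of the factor `j`. -/
noncomputable def rt (f : (Fin k → F) → (Fin k → F) → F) (j : ι) (v z : Fin k → F) : GL (ι → Fin k) F :=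
  oneGL j (er f v z)

theorem oneGL_mul (j : ι) (a b : G1) : oneGL j a * oneGL j b = oneGL (ι := ι) j (a * b) := by
  rw [oneGL, oneGL, oneGL, ← map_mul, ← Function.update_mul, one_mul]

theorem oneGL_one (j : ι) : oneGL (ι := ι) j (1 : G1) = 1 := by
  rw [oneGL, Function.update_eq_self_iff.2 (by simp), map_one]

theorem oneGL_inv (j : ι) (a : G1) : (oneGL (ι := ι) j a)⁻¹ = oneGL j a⁻¹ :=
  inv_eq_of_mul_eq_one_right (by rw [oneGL_mul, mul_inv_cancel, oneGL_one])

theorem oneGL_comm {i j : ι} (h : i ≠ j) (a b : G1) : oneGL i a * oneGL j b = oneGL j b * oneGL i a := by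
  rw [oneGL, oneGL, ← map_mul, ← map_mul]
  congr 1
  funext l
  by_cases h1 : l = i
  · subst h1; simp [h]
  · simp [Function.update_of_ne h1]

theorem oneGL_ins (j : ι) (b : G1) (w : W1) (u : ({i // i ≠ j} → Fin k) → F) :
    (oneGL j b : Big) *ᵥ ins j w u = ins j ((b : A1) *ᵥ w) u := by
  rw [coe_oneGL, TensorPowerMax.Roots.oneM_mulVec_ins]

theorem tw_conj_oneGL (a : ι → GL (Fin k) F) (σ : Equiv.Perm ι) (i : ι) (b : G1) :
    ptGL a * pmGL σ * oneGL i b * (ptGL a * pmGL σ)⁻¹ = oneGL (σ i) (a (σ i) * b * (a (σ i))⁻¹) :=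
  Units.ext (by
    rw [Units.val_mul, Units.val_mul, coe_oneGL, coe_oneGL, TensorPowerMax.Split.tw_conj_oneM, Units.val_mul,
      Units.val_mul])

theorem pair_eq {i l : ι} (hil : i ≠ l) (a : G1) :
    pmGL (Equiv.swap i l) * oneGL i a * (pmGL (Equiv.swap i l))⁻¹ * (oneGL (ι := ι) i a)⁻¹ =
      oneGL l a * oneGL i a⁻¹ := by
  have h := tw_conj_oneGL (1 : ι → GL (Fin k) F) (Equiv.swap i l) i a
  rw [map_one, one_mul, Equiv.swap_apply_left, Pi.one_apply, one_mul, inv_one, mul_one] at h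
  have _ := hil
  rw [h, oneGL_inv]

section rt

variable (hf : Sym f) (j : ι) {v z : Fin k → F} (hv : f v v = 0) (hz : f z v = 0)
include hf hv hz

theorem coe_rt : (rt f j v z : Big) = 1 + oneM j (eN f v z) := by
  rw [rt, coe_oneGL, coe_er hf hv hz, oneM_add, oneM_one]

theorem rt_mul {z' : W1} (hz' : f z' v = 0) : rt f j v z * rt f j v z' = rt f j v (z + z') := by
  rw [rt, rt, rt, oneGL_mul, er_mul hf hv hz hz']

theorem rt_inv : (rt f j v z)⁻¹ = rt f j v (-z) := by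
  rw [rt, rt, oneGL_inv, er_inv hf hv hz]

theorem rt_ins (w : W1) (u : ({i // i ≠ j} → Fin k) → F) :
    (rt f j v z : Big) *ᵥ ins j w u = ins j (w + (f w z • v - f w v • z - (f z z / 2 * f w v) • v)) u := by
  rw [rt, oneGL_ins, er_mulVec hf hv hz]

theorem rt_iso : rt f j v z ∈ isoB ι f := oneGL_iso hf j (er_iso hf hv hz)

end rt

theorem rt_zero (hf : Sym f) (j : ι) {v : W1} (hv : f v v = 0) : rt f j v 0 = 1 := by
  rw [rt, er_zero hf hv, oneGL_one]

/-- The isometries in the stabiliser. -/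
def SI (ι : Type) [Fintype ι] [DecidableEq ι] (f : (Fin k → F) → (Fin k → F) → F) :
    Subgroup (GL (ι → Fin k) F) := stab ι k F ⊓ isoB ι f

/-- An overgroup, inside the isometry group, of the squares and commutators of the isometries in the
stabiliser. -/
structure Setting (f : (Fin k → F) → (Fin k → F) → F) (M : Subgroup (GL (ι → Fin k) F)) : Prop where
  par : Par f
  hι : 2 ≤ Fintype.card ι
  iso : M ≤ isoB ι f
  sq : ∀ g ∈ SI ι f, g * g ∈ M
  comm : ∀ g ∈ SI ι f, ∀ h ∈ SI ι f, g * h * g⁻¹ * h⁻¹ ∈ M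

namespace Setting

variable {M : Subgroup (GL (ι → Fin k) F)} (S : Setting f M)
include S

theorem sym : Sym f := S.par.sym

theorem hk : 3 ≤ k := S.par.hk

theorem rest_nonempty (j : ι) : Nonempty ({i // i ≠ j} → Fin k) := ⟨fun _ => ⟨0, by have := S.hk; omega⟩⟩

theorem one_mem_SI (j : ι) {a : G1} (ha : a ∈ isoF f) : oneGL j a ∈ SI ι f :=
  ⟨oneGL_mem_stab j a, oneGL_iso S.sym j ha⟩

theorem oneSq_mem (j : ι) {a : G1} (ha : a ∈ isoF f) : oneGL j (a * a) ∈ M := by
  rw [← oneGL_mul]; exact S.sq _ (S.one_mem_SI j ha)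

theorem rt_mem (j : ι) {v z : W1} (hv : f v v = 0) (hz : f z v = 0) : rt f j v z ∈ M := by
  obtain ⟨z', hz', e⟩ := er_half S.sym hv hz
  rw [rt, ← e]; exact S.oneSq_mem j (er_iso S.sym hv hz')

theorem pair_mem {i l : ι} (hil : i ≠ l) {a : G1} (ha : a ∈ isoF f) : oneGL l a * oneGL i a⁻¹ ∈ M := by
  rw [← pair_eq hil]
  exact S.comm _ ⟨pmGL_mem_stab _, pmGL_iso S.sym _⟩ _ (S.one_mem_SI i ha)

/-- Conjugating by an isometry in the stabiliser keeps the setting. -/
theorem conj {g : GG} (hg : g ∈ SI ι f) : Setting f (M.map (MulAut.conj g).toMonoidHom) where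
  par := S.par
  hι := S.hι
  iso := by
    rintro _ ⟨x, hx, rfl⟩
    exact mul_mem (mul_mem hg.2 (S.iso hx)) (inv_mem hg.2)
  sq := fun h hh => ⟨_, S.sq _ (mul_mem (mul_mem (inv_mem hg) hh) hg),
    by show g * (g⁻¹ * h * g * (g⁻¹ * h * g)) * g⁻¹ = h * h; group⟩
  comm := fun a ha b hb => ⟨_, S.comm _ (mul_mem (mul_mem (inv_mem hg) ha) hg) _ (mul_mem (mul_mem (inv_mem hg) hb) hg),
    by show g * (g⁻¹ * a * g * (g⁻¹ * b * g) * (g⁻¹ * a * g)⁻¹ * (g⁻¹ * b * g)⁻¹) * g⁻¹ = a * b * a⁻¹ * b⁻¹; group⟩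

end Setting

/-- Membership in a conjugate. -/
theorem mem_conj {M : Subgroup GG} {g x : GG} :
    x ∈ M.map (MulAut.conj g).toMonoidHom ↔ g⁻¹ * x * g ∈ M := by
  constructor
  · rintro ⟨y, hy, rfl⟩
    show g⁻¹ * (g * y * g⁻¹) * g ∈ M
    simpa [mul_assoc] using hy
  · intro h
    exact ⟨_, h, by show g * (g⁻¹ * x * g) * g⁻¹ = x; group⟩

end Cfsg.Agent.Lib.TensorPowerOrth.Roots
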