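import Cfsg.Agent.Lib.TensorPowerOrth.Slot

/-!
The slices of a matrix of the product at one factor, and conjugation acting slicewise.
-/

set_option autoImplicit false
set_option linter.unusedSectionVars false

namespace Cfsg.Agent.Lib.TensorPowerOrth.Slice

open Matrix
open Cfsg.Agent.Lib.Subspaces.Transvection Cfsg.Agent.Lib.Subspaces.FormVec
  Cfsg.Agent.Lib.TensorPowerMax.Basic Cfsg.Agent.Lib.TensorOrthMax.Side Cfsg.Agent.Lib.TensorOrthMax.Setup
  Cfsg.Agent.Lib.TensorPowerOrth.Form Cfsg.Agent.Lib.TensorPowerOrth.Frame Cfsg.Agent.Lib.TensorPowerOrth.Roots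
  Cfsg.Agent.Lib.TensorPowerOrth.Skew Cfsg.Agent.Lib.TensorPowerOrth.Kron Cfsg.Agent.Lib.TensorPowerOrth.Slot

variable {ι : Type} [Fintype ι] [DecidableEq ι] {k : ℕ} {F : Type*} [Field F]

local notation "A1" => Matrix (Fin k) (Fin k) F
local notation "Big" => Matrix (ι → Fin k) (ι → Fin k) F
local notation "GG" => GL (ι → Fin k) F
local notation "W1" => Fin k → F

/-- The slice of a matrix at one factor, the other indices fixed. -/
def sl (a : ι) (r s : {i // i ≠ a} → Fin k) :
    Matrix (ι → Fin k) (ι → Fin k) F →ₗ[F] Matrix (Fin k) (Fin k) F where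
  toFun X := Matrix.of fun b c => sp a X (r, b) (s, c)
  map_add' X Y := by ext b c; simp
  map_smul' t X := by ext b c; simp

theorem sl_apply (a : ι) (r s : {i // i ≠ a} → Fin k) (X : Big) (b c : Fin k) :
    sl a r s X b c = sp a X (r, b) (s, c) := rfl

theorem sl_split (a : ι) (X : Big) (x y : ι → Fin k) :
    X x y = sl a (fun i => x i.1) (fun i => y i.1) X (x a) (y a) := by
  rw [sl_apply, sp_apply]
  exact congrArg₂ X ((split a).symm_apply_apply x).symm ((split a).symm_apply_apply y).symm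

theorem sl_ext (a : ι) {X Y : Big} (h : ∀ r s, sl a r s X = sl a r s Y) : X = Y := by
  ext x y
  rw [sl_split a X, sl_split a Y, h]

theorem sl_kr (a : ι) (C : Matrix ({i // i ≠ a} → Fin k) ({i // i ≠ a} → Fin k) F) (Y : A1)
    (r s : {i // i ≠ a} → Fin k) : sl a r s (kr a C Y) = C r s • Y := by
  ext b c
  rw [sl_apply, sp_kr]
  rfl

theorem sl_one (a : ι) (r s : {i // i ≠ a} → Fin k) :
    sl a r s (1 : Big) = (1 : Matrix ({i // i ≠ a} → Fin k) ({i // i ≠ a} → Fin k) F) r s • (1 : A1) := by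
  rw [← kr_one_one a, sl_kr]

theorem sl_mul_left (a : ι) (g : A1) (X : Big) (r s : {i // i ≠ a} → Fin k) :
    sl a r s (oneM a g * X) = g * sl a r s X := by
  ext b c
  rw [sl_apply, map_mul, sp_oneM_self, Matrix.mul_apply, Fintype.sum_prod_type, Finset.sum_eq_single r ?_ (by simp)]
  · simp [Matrix.mul_apply, sl_apply]
  · intro r' _ hr
    simp [Ne.symm hr]

theorem sl_mul_right (a : ι) (g : A1) (X : Big) (r s : {i // i ≠ a} → Fin k) :
    sl a r s (X * oneM a g) = sl a r s X * g := by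
  ext b c
  rw [sl_apply, map_mul, sp_oneM_self, Matrix.mul_apply, Fintype.sum_prod_type, Finset.sum_eq_single s ?_ (by simp)]
  · simp [Matrix.mul_apply, sl_apply]
  · intro s' _ hs
    simp [hs]

theorem sl_mul_left_ne {a l : ι} (h : a ≠ l) (g : A1) (X : Big) (r s : {i // i ≠ l} → Fin k) :
    sl l r s (oneM a g * X) = ∑ r', oneM (⟨a, h⟩ : {i // i ≠ l}) g r r' • sl l r' s X := by
  ext b c
  rw [sl_apply, map_mul, sp_oneM_of_ne h, Matrix.mul_apply, Fintype.sum_prod_type, Matrix.sum_apply]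
  refine Finset.sum_congr rfl fun r' _ => ?_
  rw [Finset.sum_eq_single b ?_ (by simp)]
  · simp [sl_apply]
  · intro b' _ hb
    simp [Ne.symm hb]

theorem sl_mul_right_ne {a l : ι} (h : a ≠ l) (g : A1) (X : Big) (r s : {i // i ≠ l} → Fin k) :
    sl l r s (X * oneM a g) = ∑ s', oneM (⟨a, h⟩ : {i // i ≠ l}) g s' s • sl l r s' X := by
  ext b c
  rw [sl_apply, map_mul, sp_oneM_of_ne h, Matrix.mul_apply, Fintype.sum_prod_type, Matrix.sum_apply]
  refine Finset.sum_congr rfl fun s' _ => ?_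
  rw [Finset.sum_eq_single c ?_ (by simp)]
  · simp [sl_apply, mul_comm]
  · intro c' _ hc
    simp [hc]

/-- All slices at a factor lie in a given space. -/
def SlIn (l : ι) (U : Submodule F (Matrix (Fin k) (Fin k) F)) : Submodule F (Matrix (ι → Fin k) (ι → Fin k) F) :=
  ⨅ r : {i // i ≠ l} → Fin k, ⨅ s : {i // i ≠ l} → Fin k, U.comap (sl l r s)

theorem mem_SlIn {l : ι} {U : Submodule F A1} {X : Big} : X ∈ SlIn l U ↔ ∀ r s, sl l r s X ∈ U := by
  simp [SlIn, Submodule.mem_iInf]

theorem SlIn.mono {l : ι} {U U' : Submodule F A1} (h : U ≤ U') : SlIn (ι := ι) l U ≤ SlIn l U' := fun _ hX =>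
  mem_SlIn.2 fun r s => h (mem_SlIn.1 hX r s)

/-- Multiplication at another factor keeps the space of the slices. -/
theorem SlIn.mul_ne {a l : ι} (h : a ≠ l) {U : Submodule F A1} {X : Big} (hX : X ∈ SlIn l U) (g g' : A1) :
    oneM a g * X * oneM a g' ∈ SlIn l U := by
  rw [mem_SlIn] at hX ⊢
  intro r s
  rw [sl_mul_right_ne h]
  refine Submodule.sum_mem _ fun s' _ => Submodule.smul_mem _ _ ?_
  rw [sl_mul_left_ne h]
  exact Submodule.sum_mem _ fun r' _ => Submodule.smul_mem _ _ (hX r' s')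

theorem SlIn.conj_ne {a l : ι} (h : a ≠ l) {U : Submodule F A1} {X : Big} (hX : X ∈ SlIn l U) (g : GL (Fin k) F) :
    (oneGL a g : Big) * X * ((oneGL a g)⁻¹).val ∈ SlIn l U := by
  rw [oneGL_inv, coe_oneGL, coe_oneGL]
  exact SlIn.mul_ne h hX _ _

theorem sl_conj (a : ι) (g : GL (Fin k) F) (X : Big) (r s : {i // i ≠ a} → Fin k) :
    sl a r s ((oneGL a g : Big) * X * ((oneGL a g)⁻¹).val) = (g : A1) * sl a r s X * (g⁻¹).val := by
  rw [oneGL_inv, coe_oneGL, coe_oneGL, sl_mul_right, sl_mul_left]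

/-- A matrix with parallel slices is a product. -/
theorem kr_of_slices (a : ι) {Y : A1} {X : Big} (h : ∀ r s, ∃ c : F, sl a r s X = c • Y) :
    ∃ C, X = kr a C Y := by
  choose C hC using h
  exact ⟨Matrix.of C, sl_ext a fun r s => by rw [sl_kr, hC]; rfl⟩

/-- A matrix with parallel slices at every factor is a pure tensor. -/
theorem pt_of_slices {Y : ι → A1} (hY : ∀ l, Y l ≠ 0) {X : Big}
    (h : ∀ l, X ∈ SlIn l (Submodule.span F {Y l})) : ∃ c : F, X = c • pt Y := by
  classical
  have hex : ∀ l, ∃ b c, Y l b c ≠ 0 := fun l => by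
    by_contra hc
    push Not at hc
    exact hY l (Matrix.ext hc)
  choose b c hbc using hex
  have step : ∀ (l : ι) (x y : ι → Fin k),
      X x y * Y l (b l) (c l) = X (Function.update x l (b l)) (Function.update y l (c l)) * Y l (x l) (y l) := by
    intro l x y
    obtain ⟨t, ht⟩ := Submodule.mem_span_singleton.1
      (mem_SlIn.1 (h l) (fun i => x i.1) (fun i => y i.1))
    rw [sl_split l X x y, sl_split l X (Function.update x l (b l)) (Function.update y l (c l))]
    simp only [Function.update_self]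
    rw [show (fun i : {i // i ≠ l} => Function.update x l (b l) i.1) = fun i => x i.1 from
        funext fun i => Function.update_of_ne i.2 _ _,
      show (fun i : {i // i ≠ l} => Function.update y l (c l) i.1) = fun i => y i.1 from
        funext fun i => Function.update_of_ne i.2 _ _, ← ht]
    simp only [Matrix.smul_apply, smul_eq_mul]
    ring
  have main : ∀ (T : Finset ι) (x y : ι → Fin k), X x y * ∏ l ∈ T, Y l (b l) (c l) =
      X (fun i => if i ∈ T then b i else x i) (fun i => if i ∈ T then c i else y i) * ∏ l ∈ T, Y l (x l) (y l) := by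
    intro T
    induction T using Finset.induction_on with
    | empty => intro x y; simp
    | insert l T hl ih =>
      intro x y
      rw [Finset.prod_insert hl, Finset.prod_insert hl, ← mul_assoc, step l x y, mul_right_comm, ih,
        Finset.prod_congr rfl (fun i hi => show Y i (Function.update x l (b l) i) (Function.update y l (c l) i) =
          Y i (x i) (y i) by rw [Function.update_of_ne (ne_of_mem_of_not_mem hi hl), Function.update_of_ne (ne_of_mem_of_not_mem hi hl)]),
        mul_assoc, mul_comm (∏ i ∈ T, Y i _ _)]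
      congr 2
      · funext i
        by_cases hi : i = l
        · subst hi; simp [hl]
        · simp [hi]
      · funext i
        by_cases hi : i = l
        · subst hi; simp [hl]
        · simp [hi]
  have h0 : ∏ l, Y l (b l) (c l) ≠ 0 := Finset.prod_ne_zero_iff.2 fun l _ => hbc l
  refine ⟨X b c / ∏ l, Y l (b l) (c l), Matrix.ext fun x y => ?_⟩
  have h1 := main Finset.univ x y
  simp only [Finset.mem_univ, if_true] at h1
  rw [Matrix.smul_apply, pt_apply, smul_eq_mul, div_mul_eq_mul_div, eq_div_iff h0]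
  exact h1

variable (f : (Fin k → F) → (Fin k → F) → F)

/-- Symmetrised conjugation by the Eichler elements of one factor. -/
noncomputable def SB (a : ι) (v z : Fin k → F) (X : Matrix (ι → Fin k) (ι → Fin k) F) :
    Matrix (ι → Fin k) (ι → Fin k) F :=
  (rt f a v z : Matrix (ι → Fin k) (ι → Fin k) F) * X * ((rt f a v z)⁻¹).val +
    (rt f a v (-z) : Matrix (ι → Fin k) (ι → Fin k) F) * X * ((rt f a v (-z))⁻¹).val - (2 : F) • X

variable {f}

theorem sl_rt_conj (hf : Sym f) (a : ι) {v z : W1} (hv : f v v = 0) (hz : f z v = 0) (X : Big)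
    (r s : {i // i ≠ a} → Fin k) :
    sl a r s ((rt f a v z : Big) * X * ((rt f a v z)⁻¹).val) = Pc f v z (sl a r s X) := by
  rw [rt, sl_conj, er_inv hf hv hz, coe_er hf hv hz, coe_er hf hv (by rw [hf.negL, hz, neg_zero])]
  rfl

theorem sl_SB (hf : Sym f) (a : ι) {v z : W1} (hv : f v v = 0) (hz : f z v = 0) (X : Big)
    (r s : {i // i ≠ a} → Fin k) : sl a r s (SB f a v z X) = Sop f v z (sl a r s X) := by
  simp only [SB, map_sub, map_add, map_smul]
  rw [sl_rt_conj hf a hv hz, sl_rt_conj hf a hv (by rw [hf.negL, hz, neg_zero])]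
  rfl

theorem SlIn.SB_ne {a l : ι} (h : a ≠ l) {U : Submodule F A1} {X : Big} (hX : X ∈ SlIn l U) (v z : W1) :
    SB f a v z X ∈ SlIn l U :=
  Submodule.sub_mem _ (Submodule.add_mem _ (SlIn.conj_ne h hX _) (SlIn.conj_ne h hX _)) (Submodule.smul_mem _ _ hX)

theorem SB_mem (hf : Sym f) {G : AddSubgroup Big} {a : ι} {v v' : W1}
    (hG : ∀ z, Per f v v' z → ∀ X ∈ G, (rt f a v z : Big) * X * ((rt f a v z)⁻¹).val ∈ G) {z : W1}
    (hz : Per f v v' z) {X : Big} (hX : X ∈ G) : SB f a v z X ∈ G := by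
  rw [SB, two_smul]
  exact sub_mem (add_mem (hG z hz X hX) (hG _ (per_neg hf hz) X hX)) (add_mem hX hX)

/-- An exact combination of conjugates leaving the value at the isotropic vector. -/
theorem op4 [Finite F] (P : Par f) {a : ι} {v v' : W1} (Fm : Fr f v v') (G : AddSubgroup Big)
    (hG : ∀ z, Per f v v' z → ∀ X ∈ G, (rt f a v z : Big) * X * ((rt f a v z)⁻¹).val ∈ G) {X : Big} (hX : X ∈ G) :
    ∃ Y ∈ G, (∀ l, a ≠ l → ∀ U, X ∈ SlIn l U → Y ∈ SlIn l U) ∧ ∃ c : F, c ≠ 0 ∧
      ∀ r s, sl a r s Y = (c * f (sl a r s X *ᵥ v) v) • vecMulVec v (formVec f v) := by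
  have hf := P.sym
  obtain ⟨y, hy, hyy⟩ := exists_aniso P Fm
  by_cases hm : ∃ m : F, m ≠ 0 ∧ m * m ≠ 1
  · obtain ⟨m, hm0, hm1⟩ := hm
    set p := m * m - 1
    set q := 2 * m
    set t := m * m + 1
    have hz : ∀ b : F, Per f v v' (b • y) := fun b => per_smul hf b hy
    refine ⟨SB f a v (p • y) X + SB f a v (q • y) X - SB f a v (t • y) X,
      sub_mem (add_mem (SB_mem hf hG (hz p) hX) (SB_mem hf hG (hz q) hX)) (SB_mem hf hG (hz t) hX),
      fun l hl U hU => Submodule.sub_mem _ (Submodule.add_mem _ (SlIn.SB_ne hl hU _ _) (SlIn.SB_ne hl hU _ _)) (SlIn.SB_ne hl hU _ _),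
      -(p * q) * (p * q) * (f y y * f y y), ?_, fun r s => ?_⟩
    · have hp : p ≠ 0 := sub_ne_zero.2 hm1
      have hq : q ≠ 0 := mul_ne_zero hf.two hm0
      exact mul_ne_zero (mul_ne_zero (neg_ne_zero.2 (mul_ne_zero hp hq)) (mul_ne_zero hp hq)) (mul_ne_zero hyy hyy)
    · simp only [map_sub, map_add, sl_SB hf a Fm.vv (hz _).1, Sop_eq hf Fm.vv (hz _).1, wd_smulR hf,
        E_sandwich hf, hf.smulL, hf.smulR, Matrix.smul_mul, Matrix.mul_smul]
      have h2 := hf.two
      match_scalars <;> simp only [p, q, t] <;> field_simp <;> ring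
  push Not at hm
  obtain ⟨y', hy', heq, horth⟩ := exists_companion P Fm hm hy hyy
  refine ⟨SB f a v y' (SB f a v y X), SB_mem hf hG hy' (SB_mem hf hG hy hX),
    fun l hl U hU => SlIn.SB_ne hl (SlIn.SB_ne hl hU _ _) _ _, 2 * f y' y' * f y y, ?_, fun r s => ?_⟩
  · rw [heq]; exact mul_ne_zero (mul_ne_zero hf.two hyy) hyy
  · rw [sl_SB hf a Fm.vv hy'.1, sl_SB hf a Fm.vv hy.1, Sop_Sop hf Fm.vv hy'.1 hy.1 horth]

end Cfsg.Agent.Lib.TensorPowerOrth.Slice
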