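import Cfsg.Agent.Lib.TensorPowerOrth.Upper

/-!
One factor: symmetrised conjugation by the Eichler elements of a frame, and the matrices whose quadratic
value vanishes on the isotropic vectors.
-/

set_option autoImplicit false
set_option linter.unusedSectionVars false

namespace Cfsg.Agent.Lib.TensorPowerOrth.Slot

open Matrix
open Cfsg.Agent.Lib.Subspaces.Transvection Cfsg.Agent.Lib.Subspaces.FormVec
  Cfsg.Agent.Lib.TensorPowerMax.Basic Cfsg.Agent.Lib.TensorOrthMax.Side Cfsg.Agent.Lib.TensorOrthMax.Setup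
  Cfsg.Agent.Lib.TensorPowerOrth.Form Cfsg.Agent.Lib.TensorPowerOrth.Frame Cfsg.Agent.Lib.TensorPowerOrth.Roots
  Cfsg.Agent.Lib.TensorPowerOrth.Skew Cfsg.Agent.Lib.TensorPowerOrth.Upper

variable {k : ℕ} {F : Type*} [Field F]

local notation "A1" => Matrix (Fin k) (Fin k) F
local notation "W1" => Fin k → F

/-- Conjugation by an Eichler displacement, on one factor. -/
def Pc (f : (Fin k → F) → (Fin k → F) → F) (v z : Fin k → F) (X : Matrix (Fin k) (Fin k) F) :
    Matrix (Fin k) (Fin k) F :=
  (1 + eN f v z) * X * (1 + eN f v (-z))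

/-- The symmetrised conjugation. -/
def Sop (f : (Fin k → F) → (Fin k → F) → F) (v z : Fin k → F) (X : Matrix (Fin k) (Fin k) F) :
    Matrix (Fin k) (Fin k) F :=
  Pc f v z X + Pc f v (-z) X - (2 : F) • X

variable {f : (Fin k → F) → (Fin k → F) → F} (hf : Sym f) {v : Fin k → F} (hv : f v v = 0)

section

include hf

theorem wd_negR (a b : W1) : wd f a (-b) = -wd f a b :=
  Matrix.mulVec_injective (funext fun t => by simp only [neg_mulVec, wd_mulVec hf, hf.negR]; module)

theorem wd_addR (a b c : W1) : wd f a (b + c) = wd f a b + wd f a c :=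
  Matrix.mulVec_injective (funext fun t => by simp only [add_mulVec, wd_mulVec hf, hf.addR]; module)

theorem wd_smulR (s : F) (a b : W1) : wd f a (s • b) = s • wd f a b :=
  Matrix.mulVec_injective (funext fun t => by simp only [smul_mulVec, wd_mulVec hf, hf.smulR]; module)

/-- The middle of a product with the rank-one square. -/
theorem E_sandwich (v : W1) (X : A1) : vecMulVec v (formVec f v) * X * vecMulVec v (formVec f v) =
    f (X *ᵥ v) v • vecMulVec v (formVec f v) := by
  refine Matrix.mulVec_injective (funext fun y => ?_)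
  rw [← mulVec_mulVec, ← mulVec_mulVec, smul_mulVec, E_mulVec hf, E_mulVec hf, mulVec_smul, hf.smulL, smul_smul,
    mul_comm]

include hv

theorem E_wd {z : W1} (hz : f z v = 0) :
    vecMulVec v (formVec f v) * wd f v z = 0 ∧ wd f v z * vecMulVec v (formVec f v) = 0 := by
  constructor <;> refine Matrix.mulVec_injective (funext fun y => ?_)
  · rw [← mulVec_mulVec, zero_mulVec, E_mulVec hf, wd_mulVec hf, hf.subL, hf.smulL, hf.smulL, hz, hv]
    module
  · rw [← mulVec_mulVec, zero_mulVec, E_mulVec hf, mulVec_smul, wd_mulVec hf, hv, hf.comm z v, hz]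
    module

theorem wd_mul_wd {z z' : W1} (hz : f z v = 0) (hz' : f z' v = 0) :
    wd f v z * wd f v z' = -(f z z') • vecMulVec v (formVec f v) := by
  refine Matrix.mulVec_injective (funext fun y => ?_)
  rw [← mulVec_mulVec, smul_mulVec, E_mulVec hf]
  simp only [wd_mulVec hf, hf.subL, hf.smulL, hz', hv, hf.comm z' z, hf.comm z v, hz]
  module

/-- The symmetrised conjugation as a polynomial in the skew transformation. -/
theorem Sop_eq {z : W1} (hz : f z v = 0) (X : A1) : Sop f v z X =
    -(f z z) • (vecMulVec v (formVec f v) * X + X * vecMulVec v (formVec f v)) -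
      (2 : F) • (wd f v z * X * wd f v z) +
      (f z z * f z z / 2) • (vecMulVec v (formVec f v) * X * vecMulVec v (formVec f v)) := by
  have hz' : f (-z) v = 0 := by rw [hf.negL, hz, neg_zero]
  have h2 := hf.two
  simp only [Sop, Pc, neg_neg, eN_eq hf hv hz, eN_eq hf hv hz', wd_negR hf, neg_mul_neg, Alg.wd_sq hf hv hz]
  generalize wd f v z = ω
  generalize vecMulVec v (formVec f v) = E
  simp only [Matrix.mul_add, Matrix.add_mul, Matrix.neg_mul, Matrix.mul_neg, Matrix.smul_mul, Matrix.mul_smul,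
    smul_smul, Matrix.one_mul, Matrix.mul_one, smul_add, smul_neg, neg_smul]
  match_scalars <;> field_simp <;> ring

/-- Two orthogonal directions leave the value at the isotropic vector. -/
theorem Sop_Sop {y y' : W1} (hy : f y v = 0) (hy' : f y' v = 0) (h : f y y' = 0) (X : A1) :
    Sop f v y (Sop f v y' X) =
      (2 * f y y * f y' y' * f (X *ᵥ v) v) • vecMulVec v (formVec f v) := by
  rw [Sop_eq hf hv hy, Sop_eq hf hv hy']
  have e1 := E_wd hf hv hy
  have e2 := E_wd hf hv hy'
  have e3 : wd f v y * wd f v y' = 0 := by rw [wd_mul_wd hf hv hy hy', h, neg_zero, zero_smul]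
  have e4 := E_sq hf hv
  have e5 := E_sandwich hf v X
  revert e1 e2 e3 e4 e5
  generalize wd f v y = ω
  generalize wd f v y' = ω'
  generalize vecMulVec v (formVec f v) = E
  intro e1 e2 e3 e4 e5
  have a1 : ∀ Z, E * (ω' * Z) = 0 := fun Z => by rw [← mul_assoc, e2.1, zero_mul]
  have a2 : ∀ Z, E * (E * Z) = 0 := fun Z => by rw [← mul_assoc, e4, zero_mul]
  have a3 : ∀ Z, ω * (E * Z) = 0 := fun Z => by rw [← mul_assoc, e1.2, zero_mul]
  have a4 : ∀ Z, ω * (ω' * Z) = 0 := fun Z => by rw [← mul_assoc, e3, zero_mul]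
  have a6 : ∀ Z, E * (ω * Z) = 0 := fun Z => by rw [← mul_assoc, e1.1, zero_mul]
  rw [mul_assoc] at e5
  simp only [Matrix.mul_add, Matrix.add_mul, Matrix.mul_sub, Matrix.sub_mul, Matrix.smul_mul, Matrix.mul_smul,
    Matrix.mul_assoc, a1, a2, a3, a4, a6, e4, e2.1, e2.2, e1.1, e1.2, e5, Matrix.mul_zero, smul_zero, add_zero,
    zero_add, sub_zero, zero_sub, smul_smul, smul_add, neg_zero]
  module

/-- A skew matrix goes to a root transformation. -/
theorem Sop_skew {z : W1} (hz : f z v = 0) (hzz : f z z ≠ 0) {K : A1} (hK : K ∈ skew hf) :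
    Sop f v z K = -(f z z) • wd f v (K *ᵥ v - (2 * f (K *ᵥ v) z / f z z) • z) := by
  have h2 := hf.two
  have hself : ∀ x, f (K *ᵥ x) x = 0 := fun x => by
    have h1 := hK x x
    rw [hf.comm (K *ᵥ x) x] at h1
    exact (mul_eq_zero.1 (show (2 : F) * f (K *ᵥ x) x = 0 by linear_combination h1)).resolve_left h2
  rw [Sop_eq hf hv hz, E_sandwich hf, hself, zero_smul, smul_zero, add_zero]
  refine Matrix.mulVec_injective (funext fun y => ?_)
  have h3 := hK y v
  have h4 := hK z v
  have h5 := hK y z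
  rw [sub_mulVec, smul_mulVec, smul_mulVec, add_mulVec, ← mulVec_mulVec, ← mulVec_mulVec, ← mulVec_mulVec,
    ← mulVec_mulVec, E_mulVec hf, E_mulVec hf, smul_mulVec, wd_mulVec hf]
  simp only [mulVec_smul, mulVec_sub, wd_mulVec hf, hf.smulL, hf.subL, hf.subR, hf.smulR, hself,
    show f y (K *ᵥ v) = -f (K *ᵥ y) v by linear_combination h3,
    show f (K *ᵥ z) v = -f z (K *ᵥ v) by linear_combination h4, hf.comm (K *ᵥ v) z]
  match_scalars <;> field_simp <;> ring

theorem Sop_one {z : W1} (hz : f z v = 0) : Sop f v z (1 : A1) = 0 := by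
  rw [Sop_eq hf hv hz, one_mul, mul_one, mul_one, wd_mul_wd hf hv hz hz, E_sq hf hv, smul_zero, add_zero]
  module

end

theorem Sop_add (z : W1) (X Y : A1) : Sop f v z (X + Y) = Sop f v z X + Sop f v z Y := by
  simp only [Sop, Pc, Matrix.mul_add, Matrix.add_mul, smul_add]; abel

theorem Sop_smul (z : W1) (c : F) (X : A1) : Sop f v z (c • X) = c • Sop f v z X := by
  simp only [Sop, Pc, Matrix.mul_smul, Matrix.smul_mul, smul_add, smul_sub, smul_comm c (2 : F)]

/-- A symmetric bilinear form vanishing at the isotropic vectors is a multiple of the form. -/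
theorem scalar_sym [Finite F] (P : Par f) {β : W1 → W1 → F} (hc : ∀ x y, β y x = β x y)
    (hadd : ∀ x y z, β (x + y) z = β x z + β y z) (hsmul : ∀ (c : F) x y, β (c • x) y = c * β x y)
    (h0 : ∀ u, f u u = 0 → β u u = 0) : ∃ c : F, ∀ x y, β x y = c * f x y := by
  have hf := P.sym
  have h2 := hf.two
  obtain ⟨v, v', Fm⟩ := exists_frame P
  have haddR : ∀ x y z, β x (y + z) = β x y + β x z := fun x y z => by rw [hc, hadd, hc x y, hc x z]
  have hsmulR : ∀ (c : F) x y, β x (c • y) = c * β x y := fun c x y => by rw [hc, hsmul, hc x y]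
  set c := β v v'
  have hvv := h0 v Fm.vv
  have hvv' := h0 v' Fm.v'v'
  have hexp : ∀ z, Per f v v' z → β z z = c * f z z ∧ 2 * β v' z = f z z * β v z := by
    intro z hz
    have key : ∀ y, Per f v v' y → 2 * β v' y - f y y * β v y + β y y - f y y * c = 0 := fun y hy => by
      have hu : f (v' + y + (-(f y y / 2)) • v) (v' + y + (-(f y y / 2)) • v) = 0 := by
        simp only [hf.addL, hf.addR, hf.smulL, hf.smulR, Fm.v'v', Fm.vv, Fm.pair' hf, Fm.pair, hy.1, hy.2,
          hf.comm y v, hf.comm y v']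
        field_simp
        ring
      have := h0 _ hu
      simp only [hadd, haddR, hsmul, hsmulR, hvv', hvv, hc v' y, hc v y, hc v v'] at this
      linear_combination this + (β v y + c) * mul_div_cancel₀ (f y y) h2
    have k1 := key z hz
    have k2 := key (-z) (per_neg hf hz)
    rw [← neg_one_smul F z] at k2
    simp only [hsmul, hsmulR, hf.smulL, hf.smulR] at k2
    exact ⟨mul_left_cancel₀ h2 (by linear_combination k1 + k2), mul_left_cancel₀ h2 (by linear_combination k1 - k2)⟩
  have hvy : ∀ y, Per f v v' y → f y y ≠ 0 → β v y = 0 := by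
    intro y hy hyy
    by_cases hs : ∃ t : F, t ≠ 0 ∧ t * t ≠ 1
    · obtain ⟨t, ht, ht1⟩ := hs
      have k1 := (hexp y hy).2
      have k2 := (hexp (t • y) (per_smul hf t hy)).2
      simp only [hsmulR, hf.smulL, hf.smulR] at k2
      have h3 : (t * t - 1) * t * f y y * β v y = 0 := by linear_combination t * k1 - k2
      exact (mul_eq_zero.1 h3).resolve_left (mul_ne_zero (mul_ne_zero (sub_ne_zero.2 ht1) ht) hyy)
    push Not at hs
    obtain ⟨y', hy', heq, horth⟩ := exists_companion P Fm hs hy hyy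
    have k1 := (hexp y hy).2
    have k2 := (hexp y' hy').2
    have k3 := (hexp _ (per_add hf hy hy')).2
    have k4 := (hexp _ (per_add hf hy (per_neg hf hy'))).2
    rw [← neg_one_smul F y'] at k4
    simp only [haddR, hsmulR, hf.addL, hf.addR, hf.smulL, hf.smulR, heq, horth, hf.comm y' y] at k2 k3 k4
    have h3 : (2 : F) * f y y * β v y = 0 := by linear_combination 2 * k1 - k3 - k4
    exact (mul_eq_zero.1 h3).resolve_left (mul_ne_zero h2 hyy)
  have hvz : ∀ z, Per f v v' z → β v z = 0 ∧ β v' z = 0 := by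
    intro z hz
    have h1 : β v z = 0 := by
      by_cases hz0 : z = 0
      · rw [hz0, ← zero_smul F v, hsmulR, zero_mul]
      exact per_induction hf Fm (p := fun z => β v z = 0) (fun a b _ _ ha hb => by rw [haddR, ha, hb, add_zero])
        hvy hz hz0
    refine ⟨h1, (mul_eq_zero.1 ?_).resolve_left h2⟩
    rw [(hexp z hz).2, h1, mul_zero]
  have hzz : ∀ a b, Per f v v' a → Per f v v' b → β a b = c * f a b := fun a b ha hb => by
    have k := (hexp _ (per_add hf ha hb)).1
    simp only [hadd, haddR, hf.addL, hf.addR, hc a b, hf.comm a b, (hexp a ha).1, (hexp b hb).1] at k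
    exact mul_left_cancel₀ h2 (by linear_combination k)
  refine ⟨c, fun x y => ?_⟩
  have hx := per_proj hf Fm x
  have hy := per_proj hf Fm y
  set px := x - f x v' • v - f x v • v' with epx
  set py := y - f y v' • v - f y v • v' with epy
  rw [show x = f x v' • v + f x v • v' + px by rw [epx]; abel, show y = f y v' • v + f y v • v' + py by rw [epy]; abel]
  simp only [hadd, haddR, hsmul, hsmulR, hf.addL, hf.addR, hf.smulL, hf.smulR, hvv, hvv', hc v v', Fm.vv, Fm.v'v',
    Fm.pair, Fm.pair' hf, (hvz py hy).1, (hvz py hy).2, hc v px, hc v' px, (hvz px hx).1, (hvz px hx).2,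
    hzz px py hx hy, hf.comm py v, hf.comm py v', hx.1, hx.2, hy.1, hy.2]
  ring

/-- A matrix vanishing on the isotropic vectors is a scalar plus a skew matrix. -/
theorem split_skew [Finite F] (P : Par f) {X : A1} (h : ∀ u, f u u = 0 → f (X *ᵥ u) u = 0) :
    ∃ c : F, X - c • 1 ∈ skew P.sym := by
  have hf := P.sym
  obtain ⟨c, hc⟩ := scalar_sym P (β := fun x y => f (X *ᵥ x) y + f (X *ᵥ y) x) (fun x y => add_comm _ _)
    (fun x y z => by simp only [mulVec_add, hf.addL, hf.addR]; ring)
    (fun s x y => by simp only [mulVec_smul, hf.smulL, hf.smulR]; ring)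
    (fun u hu => by simp only [h u hu, add_zero])
  refine ⟨c / 2, fun x y => ?_⟩
  simp only [sub_mulVec, smul_mulVec, one_mulVec, hf.subL, hf.subR, hf.smulL, hf.smulR, hf.comm (X *ᵥ y) x]
  linear_combination hc x y - f x y * mul_div_cancel₀ c hf.two

/-- A non-zero skew matrix moves an isotropic line. -/
theorem exists_moved [Finite F] (P : Par f) {K : A1} (hK : K ∈ skew P.sym) (hK0 : K ≠ 0) :
    ∃ u, u ≠ 0 ∧ f u u = 0 ∧ K *ᵥ u ∉ Submodule.span F {u} := by
  have hf := P.sym
  by_contra hc
  push Not at hc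
  obtain ⟨v, v', Fm⟩ := exists_frame P
  obtain ⟨a, ha⟩ := Submodule.mem_span_singleton.1 (hc v (Fm.ne hf) Fm.vv)
  obtain ⟨b, hb⟩ := Submodule.mem_span_singleton.1 (hc v' (Fm.ne' hf) Fm.v'v')
  have hab : b = -a := by
    have := hK v v'
    rw [← ha, ← hb, hf.smulL, hf.smulR, Fm.pair] at this
    linear_combination this
  have key : ∀ z, Per f v v' z → f z z ≠ 0 → a = 0 ∧ K *ᵥ z = 0 := by
    intro z hz hzz
    set u := v' + z + (-(f z z / 2)) • v with hu'
    have hu : f u u = 0 := by
      simp only [hu', hf.addL, hf.addR, hf.smulL, hf.smulR, Fm.v'v', Fm.vv, Fm.pair' hf, Fm.pair, hz.1, hz.2,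
        hf.comm z v, hf.comm z v']
      field_simp [hf.two]
      ring
    have hu1 : f u v = 1 := by
      simp only [hu', hf.addL, hf.smulL, Fm.pair' hf, Fm.vv, hz.1, mul_zero, add_zero]
    obtain ⟨d, hd⟩ := Submodule.mem_span_singleton.1 (hc u (fun e => by rw [e, hf.zeroL] at hu1; exact zero_ne_one hu1) hu)
    have h1 : f (K *ᵥ z) v = 0 := by
      have := hK z v; rw [← ha, hf.smulR, hz.1] at this; linear_combination this
    have h1' : f (K *ᵥ z) v' = 0 := by
      have := hK z v'; rw [← hb, hf.smulR, hz.2] at this; linear_combination this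
    rw [hu', mulVec_add, mulVec_add, mulVec_smul, ← ha, ← hb, hab] at hd
    have e1 := congrArg (fun x => f x v) hd
    have e2 := congrArg (fun x => f x v') hd
    simp only [hf.addL, hf.smulL, Fm.vv, Fm.v'v', Fm.pair, Fm.pair' hf, hz.1, hz.2, h1, h1'] at e1 e2
    have hd0 : d = -a := by linear_combination e1
    have ha0 : a = 0 := by
      have h3 : a * f z z = 0 := by
        rw [hd0] at e2
        linear_combination e2 - a * mul_div_cancel₀ (f z z) hf.two
      exact (mul_eq_zero.1 h3).resolve_right hzz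
    refine ⟨ha0, ?_⟩
    rw [hd0, ha0] at hd
    simpa using hd.symm
  obtain ⟨z, hz, hzz⟩ := exists_aniso P Fm
  have ha0 := (key z hz hzz).1
  refine hK0 (mat_ext hf Fm ?_ ?_ fun z hz => ?_)
  · rw [zero_mulVec, ← ha, ha0, zero_smul]
  · rw [zero_mulVec, ← hb, hab, ha0, neg_zero, zero_smul]
  · rw [zero_mulVec]
    by_cases hz0 : z = 0
    · rw [hz0, mulVec_zero]
    exact per_induction hf Fm (p := fun z => K *ᵥ z = 0) (fun x y _ _ hx hy => by rw [mulVec_add, hx, hy, add_zero])
      (fun y hy hyy => (key y hy hyy).2) hz hz0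

/-- The reflection at an anisotropic vector. -/
theorem exists_refl (hf : Sym f) {y : W1} (hyy : f y y ≠ 0) :
    ∃ r ∈ isoF f, r⁻¹ = r ∧ ∀ x, (r : A1) *ᵥ x = x - (2 * f x y / f y y) • y := by
  let L : W1 →ₗ[F] W1 :=
    { toFun := fun x => x - (2 * f x y / f y y) • y
      map_add' := fun a b => by simp only [hf.addL]; match_scalars <;> ring
      map_smul' := fun c a => by simp only [hf.smulL, RingHom.id_apply]; match_scalars <;> ring }
  have hLL : ∀ x, L (L x) = x := fun x => by
    simp only [L, LinearMap.coe_mk, AddHom.coe_mk, hf.subL, hf.smulL]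
    match_scalars <;> field_simp <;> ring
  obtain ⟨g, hg, hgx⟩ := exists_isoF_of (f := f) (L := L) (L' := L) hLL fun a b => by
    simp only [L, LinearMap.coe_mk, AddHom.coe_mk, hf.subL, hf.subR, hf.smulL, hf.smulR, hf.comm b y]
    field_simp
    ring
  refine ⟨g, hg, inv_eq_of_mul_eq_one_right (gl_ext fun x => ?_), hgx⟩
  rw [gl_mul_mulVec, hgx, hgx, hLL, Units.val_one, one_mulVec]

end Cfsg.Agent.Lib.TensorPowerOrth.Slot
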