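import Cfsg.Agent.Lib.TensorPowerOrth.Central

/-!
One family of Eichler maps generates all the Eichler maps of the product form.
-/

set_option autoImplicit false
set_option linter.unusedSectionVars false

namespace Cfsg.Agent.Lib.TensorPowerOrth.Spread

open Matrix
open Cfsg.Agent.Lib.Subspaces.Transvection Cfsg.Agent.Lib.Subspaces.FormVec
  Cfsg.Agent.Lib.TensorPowerMax.Basic Cfsg.Agent.Lib.TensorOrthMax.Side Cfsg.Agent.Lib.TensorOrthMax.Setup
  Cfsg.Agent.Lib.TensorPowerOrth.Form Cfsg.Agent.Lib.TensorPowerOrth.Frame Cfsg.Agent.Lib.TensorPowerOrth.Roots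
  Cfsg.Agent.Lib.TensorPowerOrth.Upper Cfsg.Agent.Lib.TensorPowerOrth.Tuples Cfsg.Agent.Lib.TensorPowerOrth.Pairing
  Cfsg.Agent.Lib.TensorPowerOrth.Eich

variable {ι : Type} [Fintype ι] [DecidableEq ι] {k : ℕ} {F : Type*} [Field F]

local notation "Big" => Matrix (ι → Fin k) (ι → Fin k) F
local notation "GG" => GL (ι → Fin k) F
local notation "W1" => Fin k → F
local notation "Vec" => (ι → Fin k) → F

variable {f : (Fin k → F) → (Fin k → F) → F} {M : Subgroup (GL (ι → Fin k) F)}

/-- All Eichler maps with the given first vector are in the group. -/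
def At (f : (Fin k → F) → (Fin k → F) → F) (M : Subgroup (GL (ι → Fin k) F)) (P : (ι → Fin k) → F) : Prop :=
  ∀ Q, Bt f Q P = 0 → Eich f M P Q

theorem At.smul {P : Vec} (h : At f M P) {c : F} (hc : c ≠ 0) : At f M (c • P) := fun Q hQ => by
  rw [Eich.smul_left hc]
  exact h _ (by rw [Bt_smulR, mul_eq_zero] at hQ; rw [Bt_smulL, hQ.resolve_left hc, mul_zero])

theorem At.conj {P : Vec} (h : At f M P) {g : GG} (hgi : g ∈ isoB ι f) (hg : g ∈ M) :
    At f M ((g : Big) *ᵥ P) := fun Q hQ => by
  have := Eich.conj hgi hg (h (((g⁻¹ : GG) : Big) *ᵥ Q) (by rw [iso_move_inv hgi]; exact hQ))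
  rwa [gl_mulVec_inv] at this

/-- The property passes to isotropic vectors not orthogonal to a partner. -/
theorem At.pass (hf : Sym f) (S : Setting f M) {A B X : Vec} (hA : At f M A) (hAA : Bt f A A = 0) (hB : At f M B)
    (hBB : Bt f B B = 0) (hAB : Bt f B A = 1) (hXX : Bt f X X = 0) (hXA : Bt f X A ≠ 0) : At f M X := by
  set ξ := Bt f X A
  set α := ξ⁻¹ * Bt f X B
  set w := ξ⁻¹ • X - B - α • A
  have hwA : Bt f w A = 0 := by
    simp only [w, Bt_subL, Bt_smulL, hAA, hAB, mul_zero, sub_zero]
    rw [inv_mul_cancel₀ hXA, sub_self]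
  have hwB : Bt f w B = 0 := by
    simp only [w, Bt_subL, Bt_smulL, hBB, sub_zero, show Bt f A B = 1 from (Bt_comm hf B A).trans hAB]
    ring
  have hww : Bt f w w = -2 * α := by
    have e : Bt f w w = Bt f w (ξ⁻¹ • X) := by
      conv_lhs => arg 3; rw [show w = ξ⁻¹ • X - B - α • A from rfl]
      rw [Bt_subR, Bt_subR, Bt_smulR, Bt_smulR, hwA, hwB]; ring
    rw [e, Bt_smulR, show Bt f w X = ξ⁻¹ * Bt f X X - Bt f B X - α * Bt f A X by
      simp only [w, Bt_subL, Bt_smulL], hXX, Bt_comm hf X B, Bt_comm hf X A]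
    simp only [α]
    rw [show Bt f X A = ξ from rfl]
    field_simp
    ring
  obtain ⟨-, g, hg, hgy⟩ := hA w hwA
  have hgB : (g : Big) *ᵥ B = ξ⁻¹ • X := by
    rw [hgy, phiB, hAB, Bt_comm hf w B, hwB, hww]
    simp only [w]
    have h2 := hf.two
    match_scalars <;> field_simp <;> ring
  have h1 := (hB.conj (S.iso hg) hg).smul hXA
  rwa [hgB, smul_smul, mul_inv_cancel₀ hXA, one_smul] at h1

/-- One family of Eichler maps gives all. -/
theorem full [Fintype F] (S : Setting f M) {v v' : W1} (Fm : Fr f v v') [Nonempty ι] {a0 : ι}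
    (h0 : ∀ z, Per f v v' z → pv (Function.update (fun _ : ι => v) a0 z) ∈ wsub (M := M) S.sym (allV_iso S.sym Fm.vv)) :
    Full f M := by
  classical
  have hf := S.sym
  obtain ⟨y, hy, hyy⟩ := exists_aniso S.par Fm
  choose g hg hgM hg1 hg2 hgy using fun l : ι => exists_weyl S Fm hy hyy l
  choose μ hμ hμv using hg1
  choose ν hν hνv using hg2
  have hP := allV_iso (ι := ι) hf Fm.vv
  set W := wsub (M := M) hf hP
  obtain ⟨a1, a2, ha12⟩ := Fintype.one_lt_card_iff.1 (show 1 < Fintype.card ι by have := S.hι; omega)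
  have hother : ∀ a : ι, ∃ b, b ≠ a := fun a => by
    by_cases h : a1 = a
    · exact ⟨a2, fun e => ha12 (h.trans e.symm)⟩
    · exact ⟨a1, h⟩
  -- the tuple of Weyl elements away from one factor
  set gA : ι → ι → GL (Fin k) F := fun a l => if l = a then 1 else g l
  set G : ι → GG := fun a => ptGL (gA a)
  have hGM : ∀ a, G a ∈ M := fun a => ptGL_mem fun l => by
    simp only [gA]; split_ifs
    · rw [oneGL_one]; exact one_mem _
    · exact hgM l
  set κ : ι → F := fun a => ∏ l, if l = a then 1 else μ l
  have hκ : ∀ a, κ a ≠ 0 := fun a => Finset.prod_ne_zero_iff.2 fun l _ => by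
    split_ifs
    · exact one_ne_zero
    · exact hμ l
  have hGP : ∀ a, (G a : Big) *ᵥ allV v = κ a • pv (Function.update (fun _ => v') a v) := fun a => by
    rw [coe_ptGL, pt_mulVec, ← pv_smul]
    congr 1
    funext l
    by_cases hl : l = a
    · subst hl; simp [gA]
    · simp [gA, hl, hμv]
  -- a family at one factor gives the vector with one first vector there
  have hQ1 : ∀ a, (∀ z, Per f v v' z → pv (Function.update (fun _ : ι => v) a z) ∈ W) →
      pv (Function.update (fun _ : ι => v') a v) ∈ W := by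
    intro a ha c
    obtain ⟨b, hb⟩ := hother a
    set Q1 := pv (Function.update (fun _ : ι => v') a v)
    set Wv := pv (Function.update (fun _ : ι => v) a y)
    set d : F := c / (f y y * κ a * κ a)
    have e1 : (G a : Big) *ᵥ (d • Wv) = (d * κ a) • pv (Function.update (fun _ => v') a y) := by
      rw [mulVec_smul, coe_ptGL, pt_mulVec, ← smul_smul, ← pv_smul]
      congr 2
      funext l
      by_cases hl : l = a
      · subst hl; simp [gA]
      · simp [gA, hl, hμv]
    have h1 := Eich.conj (S.iso (hGM a)) (hGM a) (ha y hy d)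
    rw [hGP, e1] at h1
    have hW : Bt f Wv Wv = 0 := by
      rw [Bt_pv hf]; exact Finset.prod_eq_zero (Finset.mem_univ b) (by rw [Function.update_of_ne hb, Fm.vv])
    have hQ1i : Bt f Q1 Q1 = 0 := by
      rw [Bt_pv hf]; exact Finset.prod_eq_zero (Finset.mem_univ b) (by rw [Function.update_of_ne hb, Fm.v'v'])
    have hW' : Bt f (pv (Function.update (fun _ : ι => v') a y)) (pv (Function.update (fun _ => v') a y)) = 0 := by
      rw [Bt_pv hf]; exact Finset.prod_eq_zero (Finset.mem_univ b) (by rw [Function.update_of_ne hb, Fm.v'v'])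
    have hy1 : f v y = 0 := by rw [hf.comm, hy.1]
    have h2 := Eich.brk hf hP hW (by rw [Bt_smulL, Bt_smulR, hQ1i, mul_zero, mul_zero])
      (by rw [Bt_smulL, Bt_smulR, hW', mul_zero, mul_zero])
      (by rw [Bt_smulR, Bt_pv hf, Finset.prod_eq_zero (Finset.mem_univ a) (by rw [Function.update_self, Fm.vv]), mul_zero])
      (by rw [Bt_smulR, Bt_pv hf, Finset.prod_eq_zero (Finset.mem_univ a) (by rw [Function.update_self, hy1]), mul_zero])
      (by rw [Bt_smulR, Bt_pv hf, Finset.prod_eq_zero (Finset.mem_univ a)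
        (by rw [Function.update_self, Function.update_self, hy.1]), mul_zero])
      (by simpa using ha y hy 1) h1
    have e2 : Bt f Wv (pv (Function.update (fun _ : ι => v') a y)) = f y y := by
      rw [Bt_pv hf, Finset.prod_eq_single a (fun l _ hl => by
        rw [Function.update_of_ne hl, Function.update_of_ne hl, Fm.pair]) (by simp), Function.update_self,
        Function.update_self]
    rw [Bt_smulR, e2, smul_smul] at h2
    have h3 : d * κ a * f y y * κ a = c := by
      have h5 : f y y * κ a * κ a ≠ 0 := mul_ne_zero (mul_ne_zero hyy (hκ a)) (hκ a)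
      rw [show d * κ a * f y y * κ a = d * (f y y * κ a * κ a) by ring]
      exact div_mul_cancel₀ c h5
    rwa [h3] at h2
  let Typed : W1 → Prop := fun x => x = v ∨ x = v' ∨ Per f v v' x
  -- changing the opposite vectors
  have hfill : ∀ a, pv (Function.update (fun _ : ι => v') a v) ∈ W → ∀ (T : Finset ι) (s : ι → W1), s a = v →
      (∀ l, Typed (s l)) → (∀ l ∉ T, l ≠ a → s l = v') → pv s ∈ W := by
    intro a ha T
    induction T using Finset.induction_on with
    | empty =>
      intro s hsa _ hs
      rwa [show s = Function.update (fun _ => v') a v from funext fun l => by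
        by_cases hl : l = a
        · subst hl; simp [hsa]
        · simp [hl, hs l (Finset.notMem_empty l) hl]]
    | insert l T hl ih =>
      intro s hsa hty hs
      by_cases hla : l = a
      · exact ih s hsa hty fun i hi hia => hs i (by simp [hi, hla, hia]) hia
      have h1 := ih (Function.update s l v') (by rw [Function.update_of_ne (Ne.symm hla), hsa])
        (fun i => by
          by_cases hil : i = l
          · subst hil; rw [Function.update_self]; exact Or.inr (Or.inl rfl)
          · rw [Function.update_of_ne hil]; exact hty i)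
        fun i hi hia => by
          by_cases hil : i = l
          · subst hil; rw [Function.update_self]
          · rw [Function.update_of_ne hil]; exact hs i (by simp [hi, hil]) hia
      have hper : ∀ z, Per f v v' z → pv (Function.update s l z) ∈ W := fun z hz => by
        have := toPer hf S Fm (s := Function.update s l v') (l := l) (Function.update_self _ _ _) one_ne_zero
          (h1 1) hz
        rwa [Function.update_idem] at this
      rcases hty l with e | e | e
      · have := toV hf S Fm hper; rwa [show Function.update s l v = s from Function.update_eq_self_iff.2 e.symm] at this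
      · rwa [show Function.update s l v' = s from Function.update_eq_self_iff.2 e.symm] at h1
      · have := hper _ e; rwa [Function.update_eq_self] at this
  have hty1 : ∀ (d : ι) (z : W1), Per f v v' z → ∀ l, Typed (Function.update (fun _ : ι => v) d z l) := fun d z hz l => by
    by_cases hl : l = d
    · subst hl; rw [Function.update_self]; exact Or.inr (Or.inr hz)
    · rw [Function.update_of_ne hl]; exact Or.inl rfl
  have hQall : ∀ d, pv (Function.update (fun _ : ι => v') d v) ∈ W := fun d => by
    by_cases hd : d = a0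
    · exact hd ▸ hQ1 a0 h0
    exact hQ1 d fun z hz => hfill a0 (hQ1 a0 h0) Finset.univ _ (by rw [Function.update_of_ne (Ne.symm hd)])
      (hty1 d z hz) fun l hl => absurd (Finset.mem_univ l) hl
  have hV : ∀ s : ι → W1, (∀ l, Typed (s l)) → (∃ a, s a = v) → pv s ∈ W := fun s hs ⟨a, ha⟩ =>
    hfill a (hQall a) Finset.univ s ha hs fun l hl => absurd (Finset.mem_univ l) hl
  -- no first vector
  have hnoV : ∀ s : ι → W1, (∀ l, s l = v' ∨ Per f v v' (s l)) → (∃ a, Per f v v' (s a)) →
      (∃ b, s b = v') → pv s ∈ W := by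
    intro s hs ⟨a, ha⟩ ⟨b, hb⟩ c
    have hvne : ∀ {x : W1}, x = v' → ¬ Per f v v' x := fun e hx => by
      rw [e] at hx; exact one_ne_zero ((Fm.pair' hf).symm.trans hx.1)
    have hba : b ≠ a := fun e => hvne hb (e ▸ ha)
    have hpre : pv (fun l => ((gA a l)⁻¹).val *ᵥ s l) ∈ W := by
      set σ : ι → F := fun l => if l ≠ a ∧ s l = v' then (μ l)⁻¹ else 1
      set s'' : ι → W1 := fun l => if l ≠ a ∧ s l = v' then v else ((gA a l)⁻¹).val *ᵥ s l
      have hσ : (fun l => ((gA a l)⁻¹).val *ᵥ s l) = fun l => σ l • s'' l := funext fun l => by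
        by_cases h : l ≠ a ∧ s l = v'
        · simp only [σ, s'', if_pos h, gA, if_neg h.1, h.2, gl_inv_line (hμ l) (hμv l)]
        · simp only [σ, s'', if_neg h, one_smul]
      rw [hσ, pv_smul]
      refine Submodule.smul_mem _ _ (hV s'' (fun l => ?_) ⟨b, if_pos ⟨hba, hb⟩⟩)
      by_cases h : l ≠ a ∧ s l = v'
      · simp only [s'', if_pos h]; exact Or.inl rfl
      refine Or.inr (Or.inr ?_)
      simp only [s'', if_neg h]
      by_cases hla : l = a
      · subst hla; simpa [gA] using ha
      have hp := (hs l).resolve_left fun e => h ⟨hla, e⟩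
      simp only [gA, if_neg hla]
      have e : ∀ x, f (((g l)⁻¹).val *ᵥ s l) x = f (s l) ((g l : GL (Fin k) F).val *ᵥ x) := fun x => by
        rw [← hg l, gl_mulVec_inv]
      exact ⟨by rw [e, hμv, hf.smulR, hp.2, mul_zero], by rw [e, hνv, hf.smulR, hp.1, mul_zero]⟩
    set d : F := -(c / κ a)
    have e1 : (G a : Big) *ᵥ (d • pv fun l => ((gA a l)⁻¹).val *ᵥ s l) = d • pv s := by
      rw [mulVec_smul, coe_ptGL, pt_mulVec]
      simp only [gl_mulVec_inv]
    have h1 := Eich.conj (S.iso (hGM a)) (hGM a) (hpre d)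
    rw [hGP, e1] at h1
    set P2 := pv (Function.update (fun _ : ι => v') a v)
    have hP2 : Bt f P2 P2 = 0 := by
      rw [Bt_pv hf]; exact Finset.prod_eq_zero (Finset.mem_univ a) (by rw [Function.update_self, Fm.vv])
    have hX : Bt f (pv s) (pv s) = 0 := by
      rw [Bt_pv hf]; exact Finset.prod_eq_zero (Finset.mem_univ b) (by rw [hb, Fm.v'v'])
    have h2 := Eich.swap hf (by rw [Bt_smulL, Bt_smulR, hP2, mul_zero, mul_zero])
      (by rw [Bt_smulL, Bt_smulR, hX, mul_zero, mul_zero]) h1
    have hW1 : pv (Function.update (fun _ : ι => v) a v') ∈ W := hV _ (fun l => by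
        by_cases hl : l = a
        · subst hl; rw [Function.update_self]; exact Or.inr (Or.inl rfl)
        · rw [Function.update_of_ne hl]; exact Or.inl rfl) ⟨b, Function.update_of_ne hba _ _⟩
    have h3 := Eich.brk hf hP (W := pv (Function.update (fun _ : ι => v) a v'))
      (by rw [Bt_pv hf]; exact Finset.prod_eq_zero (Finset.mem_univ a) (by rw [Function.update_self, Fm.v'v']))
      (by rw [Bt_smulL, Bt_smulR, hX, mul_zero, mul_zero])
      (by rw [Bt_negL, Bt_negR, neg_neg, Bt_smulL, Bt_smulR, hP2, mul_zero, mul_zero])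
      (by rw [Bt_smulR, Bt_pv hf, Finset.prod_eq_zero (Finset.mem_univ a) (by rw [hf.comm, ha.1]), mul_zero])
      (by rw [Bt_negR, Bt_smulR, Bt_pv hf, Finset.prod_eq_zero (Finset.mem_univ a)
        (by rw [Function.update_self, Fm.vv]), mul_zero, neg_zero])
      (by rw [Bt_smulR, Bt_pv hf, Finset.prod_eq_zero (Finset.mem_univ a)
        (by rw [Function.update_self, hf.comm, ha.2]), mul_zero])
      (by simpa using hW1 1) h2
    have e2 : Bt f (pv (Function.update (fun _ : ι => v) a v')) P2 = 1 := by
      rw [Bt_pv hf]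
      exact Finset.prod_eq_one fun l _ => by
        by_cases hl : l = a
        · subst hl; simp [Fm.pair' hf]
        · simp [hl, Fm.pair]
    rw [Bt_negR, Bt_smulR, e2, mul_one, smul_smul] at h3
    have h4 : -κ a * d = c := by
      simp only [d, neg_mul_neg]
      exact mul_div_cancel₀ c (hκ a)
    rwa [h4] at h3
  have hall : ∀ s : ι → W1, (∀ l, Typed (s l)) → (∃ a, s a ≠ v') → pv s ∈ W := by
    intro s hs ⟨a, ha⟩
    by_cases h1 : ∃ l, s l = v
    · exact hV s hs h1
    push Not at h1
    have hs' : ∀ l, s l = v' ∨ Per f v v' (s l) := fun l => (hs l).resolve_left (h1 l)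
    have hap := (hs' a).resolve_left ha
    by_cases h2 : ∃ b, s b = v'
    · exact hnoV s hs' ⟨a, hap⟩ h2
    push Not at h2
    obtain ⟨b, hb⟩ := hother a
    have h3 := hnoV (Function.update s b v') (fun l => by
        by_cases hl : l = b
        · subst hl; rw [Function.update_self]; exact Or.inl rfl
        · rw [Function.update_of_ne hl]; exact hs' l)
      ⟨a, by rw [Function.update_of_ne (Ne.symm hb)]; exact hap⟩ ⟨b, Function.update_self _ _ _⟩
    have h4 := toPer hf S Fm (s := Function.update s b v') (l := b) (Function.update_self _ _ _) one_ne_zero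
      (h3 1) ((hs' b).resolve_left (h2 b))
    rwa [Function.update_idem, Function.update_eq_self] at h4
  -- all vectors orthogonal to the first
  set P : Vec := allV v
  set P' : Vec := allV v'
  have hP' : Bt f P' P' = 0 := allV_iso hf Fm.v'v'
  have hPP' : Bt f P' P = 1 := by rw [Bt_pv hf]; exact Finset.prod_eq_one fun l _ => Fm.pair' hf
  have hAtP : At f M P := by
    let π : Vec →ₗ[F] Vec := LinearMap.id - (BL f P).smulRight P'
    have hπ : ∀ (T : Finset ι) (s : ι → W1), (∀ l ∉ T, Typed (s l)) → π (pv s) ∈ W := by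
      intro T
      induction T using Finset.induction_on with
      | empty =>
        intro s hs
        by_cases h1 : ∃ a, s a ≠ v'
        · obtain ⟨a, ha⟩ := h1
          have e : π (pv s) = pv s - Bt f (pv s) P • P' := rfl
          have e0 : Bt f (pv s) P = 0 := by
            rw [Bt_pv hf]
            refine Finset.prod_eq_zero (Finset.mem_univ a) ?_
            rcases hs a (Finset.notMem_empty a) with e1 | e1 | e1
            · rw [e1, Fm.vv]
            · exact absurd e1 ha
            · exact e1.1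
          rw [e, e0, zero_smul, sub_zero]
          exact hall s (fun l => hs l (Finset.notMem_empty l)) ⟨a, ha⟩
        · push Not at h1
          rw [show pv s = P' from congrArg pv (funext h1)]
          show P' - Bt f P' P • P' ∈ W
          rw [hPP', one_smul, sub_self]
          exact Submodule.zero_mem _
      | insert l T hl ih =>
        intro s hs
        have hi : ∀ x, Typed x → π (pv (Function.update s l x)) ∈ W := fun x hx => ih _ fun i hi => by
          by_cases hil : i = l
          · subst hil; rw [Function.update_self]; exact hx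
          · rw [Function.update_of_ne hil]; exact hs i (by simp [hi, hil])
        rw [← Function.update_eq_self l s,
          show s l = f (s l) v' • v + f (s l) v • v' + (s l - f (s l) v' • v - f (s l) v • v') by abel,
          pv_update_add, pv_update_add, pv_update_smul, pv_update_smul, map_add, map_add, map_smul, map_smul]
        exact Submodule.add_mem _ (Submodule.add_mem _ (Submodule.smul_mem _ _ (hi v (Or.inl rfl)))
          (Submodule.smul_mem _ _ (hi v' (Or.inr (Or.inl rfl))))) (hi _ (Or.inr (Or.inr (per_proj hf Fm _))))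
    intro Q hQ
    have hmem : π Q ∈ W := by
      have e : π Q = ∑ a, Q a • π (pv fun i => Pi.single (a i) (1 : F)) := by
        conv_lhs => rw [← sum_pv_single Q, map_sum]
        exact Finset.sum_congr rfl fun a _ => map_smul _ _ _
      rw [e]
      exact Submodule.sum_mem _ fun a _ => Submodule.smul_mem _ _
        (hπ Finset.univ _ fun l hl => absurd (Finset.mem_univ l) hl)
    rw [show π Q = Q - Bt f Q P • P' from rfl, hQ, zero_smul, sub_zero] at hmem
    simpa using hmem 1
  have hAtP' : At f M P' := by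
    set G1 : GG := ptGL g
    have hG1 : G1 ∈ M := ptGL_mem hgM
    have h1 := (hAtP.conj (S.iso hG1) hG1).smul (c := (∏ l, μ l)⁻¹) (inv_ne_zero (Finset.prod_ne_zero_iff.2 fun l _ => hμ l))
    have e : (G1 : Big) *ᵥ P = (∏ l, μ l) • P' := by
      rw [coe_ptGL, pt_mulVec, ← pv_smul]; exact congrArg pv (funext hμv)
    rwa [e, inv_smul_smul₀ (Finset.prod_ne_zero_iff.2 fun l _ => hμ l)] at h1
  have hPP1 : Bt f P P' = 1 := (Bt_comm hf P' P).trans hPP'
  intro X Q hX hQ
  suffices h : Eich f M X Q from h.2
  by_cases hX0 : X = 0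
  · exact ⟨hQ, 1, one_mem _, fun y => by
      rw [Units.val_one, one_mulVec, phiB, hX0]; simp [Bt_zeroR]⟩
  by_cases h1 : Bt f X P ≠ 0
  · exact At.pass hf S hAtP hP hAtP' hP' hPP' hX h1 Q hQ
  by_cases h2 : Bt f X P' ≠ 0
  · exact At.pass hf S hAtP' hP' hAtP hP hPP1 hX h2 Q hQ
  push Not at h1 h2
  obtain ⟨y0, hy0⟩ : ∃ y0, Bt f y0 X ≠ 0 := by
    by_contra hc
    push Not at hc
    exact hX0 (Bt_nondeg hf hc)
  set w := y0 - Bt f y0 P' • P - Bt f y0 P • P'
  have hwP : Bt f w P = 0 := by simp only [w, Bt_subL, Bt_smulL, hP, hPP', mul_zero, mul_one, sub_zero, sub_self]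
  have hwP' : Bt f w P' = 0 := by simp only [w, Bt_subL, Bt_smulL, hP', hPP1, mul_zero, mul_one, sub_zero, sub_self]
  have hwX : Bt f w X = Bt f y0 X := by
    simp only [w, Bt_subL, Bt_smulL, Bt_comm hf X P, Bt_comm hf X P', h1, h2, mul_zero, sub_zero]
  obtain ⟨-, g0, hg0, hgy0⟩ := hAtP w hwP
  set Z := (g0 : Big) *ᵥ P'
  have hZ : Z = P' + w - (Bt f w w / 2) • P := by
    simp only [Z, hgy0, phiB, hPP', Bt_comm hf w P', hwP', one_smul, zero_smul, sub_zero, mul_one]
  refine At.pass hf S (hAtP'.conj (S.iso hg0) hg0) (show Bt f Z Z = 0 by rw [S.iso hg0]; exact hP') hAtP hP ?_ hX ?_ Q hQ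
  · show Bt f P Z = 1
    rw [hZ, Bt_subR, Bt_addR, Bt_smulR, hP, hPP1, Bt_comm hf w P, hwP]; ring
  · show Bt f X Z ≠ 0
    rw [hZ, Bt_subR, Bt_addR, Bt_smulR, h1, h2, mul_zero, zero_add, sub_zero, Bt_comm hf w X, hwX]
    exact hy0

/-- The dichotomy: no radical elements beyond the root elements, or all Eichler maps. -/
theorem full_of_rad [Fintype F] (S : Setting f M) (IH : Lower ι f) (h : ¬ Block.NoRad f M) : Full f M := by
  classical
  have hf := S.sym
  haveI : Nonempty ι := Fintype.card_pos_iff.1 (by have := S.hι; omega)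
  have hnc := NoCentral.exists_central S h
  simp only [Rad.NoC] at hnc
  push Not at hnc
  obtain ⟨x, hx, l, u, hu, huu, C, hxe, hC⟩ := hnc
  obtain ⟨v, v', Fm⟩ := exists_frame S.par
  obtain ⟨g, hg, hgM, m, hm, hgv⟩ := Steps.transport S l (Fm.ne hf) Fm.vv hu huu
  have hgi : oneGL l g⁻¹ ∈ M := by rw [← oneGL_inv]; exact inv_mem hgM
  have hline := gl_inv_line hm hgv
  set X0 : Big := Kron.kr l ((m⁻¹ * m⁻¹) • C) (vecMulVec v (formVec f v))
  have hconj : (oneGL l g⁻¹ : Big) * Kron.kr l C (vecMulVec u (formVec f u)) * ((oneGL l g⁻¹)⁻¹).val = X0 := by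
    rw [oneGL_inv, coe_oneGL, coe_oneGL, ← Kron.kr_one_left, ← Kron.kr_one_left, Kron.kr_mul, Kron.kr_mul, one_mul,
      mul_one, Patterns.conj_E hf (inv_mem hg) hline, Kron.kr_smul_right]
    exact (Kron.kr_smul_left _ _ _ _).symm
  have hX0 : X0 ∈ Central.Cn hf Fm.vv M l := by
    refine ⟨Slice.mem_SlIn.2 fun r s => ?_, oneGL l g⁻¹ * x * (oneGL l g⁻¹)⁻¹, mul_mem (mul_mem hgi hx) (inv_mem hgi), ?_⟩
    · rw [Slice.sl_kr]; exact Submodule.smul_mem _ _ (Submodule.mem_span_singleton_self _)
    · rw [Units.val_mul, Units.val_mul, hxe, mul_add, add_mul, mul_one, Units.mul_inv, hconj]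
  have hne : X0 ≠ 0 := fun e => hC (by
    have h1 := Kron.kr_inj l ((m⁻¹ * m⁻¹) • C) 0 (Central.E_ne hf Fm) (e.trans (Kron.kr_zero_left _ _).symm)
    exact (smul_eq_zero.1 h1).resolve_left (mul_ne_zero (inv_ne_zero hm) (inv_ne_zero hm)))
  obtain ⟨d, hd⟩ := Central.seed S IH Fm hX0 hne
  exact full S Fm hd

end Cfsg.Agent.Lib.TensorPowerOrth.Spread
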