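import Cfsg.Agent.Lib.TensorPowerOrth.Rad

/-!
One step of the reduction at a factor: either the rank-one square or a root transformation is produced.
-/

set_option autoImplicit false
set_option linter.unusedSectionVars false

namespace Cfsg.Agent.Lib.TensorPowerOrth.Steps

open Matrix
open Cfsg.Agent.Lib.Subspaces.Transvection Cfsg.Agent.Lib.Subspaces.FormVec
  Cfsg.Agent.Lib.TensorPowerMax.Basic Cfsg.Agent.Lib.TensorOrthMax.Side Cfsg.Agent.Lib.TensorOrthMax.Setup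
  Cfsg.Agent.Lib.TensorPowerOrth.Form Cfsg.Agent.Lib.TensorPowerOrth.Frame Cfsg.Agent.Lib.TensorPowerOrth.Roots
  Cfsg.Agent.Lib.TensorPowerOrth.Skew Cfsg.Agent.Lib.TensorPowerOrth.Kron Cfsg.Agent.Lib.TensorPowerOrth.Block
  Cfsg.Agent.Lib.TensorPowerOrth.Upper Cfsg.Agent.Lib.TensorPowerOrth.Slot Cfsg.Agent.Lib.TensorPowerOrth.Slice
  Cfsg.Agent.Lib.TensorPowerOrth.Rad

variable {ι : Type} [Fintype ι] [DecidableEq ι] {k : ℕ} {F : Type*} [Field F]

local notation "A1" => Matrix (Fin k) (Fin k) F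
local notation "Big" => Matrix (ι → Fin k) (ι → Fin k) F
local notation "GG" => GL (ι → Fin k) F
local notation "G1" => GL (Fin k) F
local notation "W1" => Fin k → F

/-- The root transformations at a vector. -/
def Wsp (f : (Fin k → F) → (Fin k → F) → F) (v : Fin k → F) : Submodule F (Matrix (Fin k) (Fin k) F) :=
  Submodule.span F (Set.range fun z : {z : Fin k → F // f z v = 0} => wd f v z.1)

variable {f : (Fin k → F) → (Fin k → F) → F}

theorem mem_Wsp (hf : Sym f) {v : W1} {Y : A1} : Y ∈ Wsp f v ↔ ∃ z, f z v = 0 ∧ Y = wd f v z := by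
  refine ⟨fun h => ?_, fun ⟨z, hz, e⟩ => e ▸ Submodule.subset_span ⟨⟨z, hz⟩, rfl⟩⟩
  refine Submodule.span_induction ?_ ⟨0, hf.zeroL v, (wd_zero hf v).symm⟩ ?_ ?_ h
  · rintro _ ⟨z, rfl⟩; exact ⟨z.1, z.2, rfl⟩
  · rintro _ _ - - ⟨z, hz, rfl⟩ ⟨z', hz', rfl⟩
    exact ⟨z + z', by rw [hf.addL, hz, hz', add_zero], (wd_addR hf v z z').symm⟩
  · rintro c _ - ⟨z, hz, rfl⟩
    exact ⟨c • z, by rw [hf.smulL, hz, mul_zero], (wd_smulR hf c v z).symm⟩

theorem Wsp_le_skew (hf : Sym f) (v : W1) : Wsp f v ≤ skew hf :=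
  Submodule.span_le.2 (by rintro _ ⟨z, rfl⟩; exact wd_mem hf _ _)

/-- Conjugation of the root transformations by an isometry fixing the line. -/
theorem Wsp_conj (hf : Sym f) {v : W1} {g : G1} (hg : g ∈ isoF f) {μ : F} (hμ : μ ≠ 0) (hgv : (g : A1) *ᵥ v = μ • v)
    {Y : A1} (hY : Y ∈ Wsp f v) : (g : A1) * Y * (g⁻¹).val ∈ Wsp f v := by
  obtain ⟨z, hz, rfl⟩ := (mem_Wsp hf).1 hY
  refine (mem_Wsp hf).2 ⟨μ • ((g : A1) *ᵥ z), ?_, Matrix.mulVec_injective (funext fun y => ?_)⟩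
  · have := hg z v
    rw [hgv, hf.smulR, hz, mul_eq_zero] at this
    rw [hf.smulL, this.resolve_left hμ, mul_zero]
  · rw [← mulVec_mulVec, ← mulVec_mulVec, wd_mulVec hf, wd_mulVec hf, mulVec_sub, mulVec_smul, mulVec_smul, hgv]
    have e : ∀ w, f ((g⁻¹).val *ᵥ y) w = f y ((g : A1) *ᵥ w) := fun w => by rw [← hg, gl_mulVec_inv]
    rw [e, e, hgv]
    simp only [hf.smulR]
    module

/-- A matrix product against a vector with one pure factor, through the slices. -/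
theorem sl_mulVec (l : ι) (X : Big) (φ w : W1) (u : ({i // i ≠ l} → Fin k) → F) (r : {i // i ≠ l} → Fin k) :
    ctr l φ (X *ᵥ ins l w u) r = ∑ s, u s * (φ ⬝ᵥ (sl l r s X *ᵥ w)) := by
  have h := TensorPowerMax.Roots.sp_mulVec l X (ins l w u)
  rw [TensorPowerMax.Roots.ins_comp] at h
  show ∑ a, φ a * (X *ᵥ ins l w u) ((split l).symm (r, a)) = _
  have e : ∀ a, (X *ᵥ ins l w u) ((split l).symm (r, a)) = ∑ s, ∑ c, sp l X (r, a) (s, c) * (u s * w c) := fun a => by
    rw [show (X *ᵥ ins l w u) ((split l).symm (r, a)) = ((X *ᵥ ins l w u) ∘ (split l).symm) (r, a) from rfl, ← h]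
    simp only [mulVec, dotProduct, Fintype.sum_prod_type]
    rfl
  rw [Finset.sum_congr rfl (fun a _ => congrArg (φ a * ·) (e a))]
  simp only [dotProduct, mulVec, sl_apply, Finset.mul_sum]
  rw [Finset.sum_comm]
  exact Finset.sum_congr rfl fun s _ => Finset.sum_congr rfl fun a _ => Finset.sum_congr rfl fun c _ => by ring

/-- Images of vectors with one pure factor only depend on the slices at it. -/
theorem mulVec_congr (l : ι) {X X' : Big} {w : W1} (h : ∀ r s, sl l r s X *ᵥ w = sl l r s X' *ᵥ w)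
    (u : ({i // i ≠ l} → Fin k) → F) : X *ᵥ ins l w u = X' *ᵥ ins l w u := by
  refine ctr_ext (j := l) fun φ => funext fun r => ?_
  simp only [sl_mulVec, h]

theorem ctr_Bt (hf : Sym f) (l : ι) (X : Big) (w w' : W1) (u u' : ({i // i ≠ l} → Fin k) → F) :
    Bt f (X *ᵥ ins l w u) (ins l w' u') =
      ∑ r, (∑ s, u s * f (sl l r s X *ᵥ w) w') * (pt (fun _ : {i // i ≠ l} => Cfsg.Geo.gramMatrix f) *ᵥ u') r := by
  rw [Bt_ins_right hf, Bt, dotProduct]
  refine Finset.sum_congr rfl fun r _ => ?_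
  rw [sl_mulVec]
  simp only [hf.dot]

/-- The two arguments at a factor may be exchanged, up to the sign of the slices. -/
theorem flip (hf : Sym f) {l : ι} {X : Big} {ε : F}
    (h : ∀ r s x y, f (sl l r s X *ᵥ x) y = ε * f (sl l r s X *ᵥ y) x) (w w' : W1)
    (u u' : ({i // i ≠ l} → Fin k) → F) :
    Bt f (X *ᵥ ins l w u) (ins l w' u') = ε * Bt f (X *ᵥ ins l w' u) (ins l w u') := by
  simp only [ctr_Bt hf, Finset.mul_sum, Finset.sum_mul]
  refine Finset.sum_congr rfl fun r _ => Finset.sum_congr rfl fun s _ => ?_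
  rw [h r s w w']
  ring

theorem flip_Wsp (hf : Sym f) {v : W1} {l : ι} {X : Big} (hX : X ∈ SlIn l (Wsp f v)) (w w' : W1)
    (u u' : ({i // i ≠ l} → Fin k) → F) :
    Bt f (X *ᵥ ins l w u) (ins l w' u') = -1 * Bt f (X *ᵥ ins l w' u) (ins l w u') :=
  flip hf (fun r s x y => by
    have h := Wsp_le_skew hf v (mem_SlIn.1 hX r s) x y
    rw [hf.comm (sl l r s X *ᵥ y) x] at h
    linear_combination h) w w' u u'

theorem flip_one (hf : Sym f) {l : ι} {X : Big} (hX : X ∈ SlIn l (Submodule.span F {(1 : A1)})) (w w' : W1)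
    (u u' : ({i // i ≠ l} → Fin k) → F) :
    Bt f (X *ᵥ ins l w u) (ins l w' u') = 1 * Bt f (X *ᵥ ins l w' u) (ins l w u') :=
  flip hf (fun r s x y => by
    obtain ⟨c, hc⟩ := Submodule.mem_span_singleton.1 (mem_SlIn.1 hX r s)
    rw [← hc, smul_mulVec, smul_mulVec, one_mulVec, one_mulVec, hf.smulL, hf.smulL, hf.comm y x, one_mul]) w w' u u'

/-- Skew matrices with root slices at a factor are logarithms radical there. -/
theorem radL_of_Wsp (hf : Sym f) {v v' : W1} (Fm : Fr f v v') {l : ι} {X : Big}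
    (hskew : ∀ a b, Bt f (X *ᵥ a) b + Bt f a (X *ᵥ b) = 0) (hX : X ∈ SlIn l (Wsp f v)) : RadL f l v X where
  skew := hskew
  fix u := by
    refine ctr_ext (j := l) fun φ => funext fun r => ?_
    rw [sl_mulVec, map_zero]
    refine Finset.sum_eq_zero fun s _ => ?_
    obtain ⟨z, hz, e⟩ := (mem_Wsp hf).1 (mem_SlIn.1 hX r s)
    rw [e, wd_mulVec hf, Fm.vv, hf.comm z v, hz]
    simp
  perp y hy := by
    refine perp_induction hf Fm l (p := fun y => X *ᵥ y ∈ block l v) (fun a b ha hb => ?_) (fun u => ?_)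
      (fun p hp u => ?_) hy
    · rw [mulVec_add]; exact Submodule.add_mem _ ha hb
    · have : X *ᵥ ins l v u = 0 := by
        refine ctr_ext (j := l) fun φ => funext fun r => ?_
        rw [sl_mulVec, map_zero]
        refine Finset.sum_eq_zero fun s _ => ?_
        obtain ⟨z, hz, e⟩ := (mem_Wsp hf).1 (mem_SlIn.1 hX r s)
        rw [e, wd_mulVec hf, Fm.vv, hf.comm z v, hz]
        simp
      rw [this]; exact Submodule.zero_mem _
    · refine ⟨ctr l (formVec f v') (X *ᵥ ins l p u), (ctr_ext (j := l) fun φ => funext fun r => ?_).symm⟩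
      rw [ctr_ins, Pi.smul_apply, sl_mulVec, sl_mulVec, Finset.smul_sum]
      refine Finset.sum_congr rfl fun s _ => ?_
      obtain ⟨z, hz, e⟩ := (mem_Wsp hf).1 (mem_SlIn.1 hX r s)
      rw [e, wd_mulVec hf, hp.1, zero_smul, zero_sub, dotProduct_neg, dotProduct_neg, dotProduct_smul,
        dotProduct_smul, hf.dot, Fm.pair]
      simp only [smul_eq_mul]
      ring

/-- The slices at the factor of a logarithm radical there are root transformations. -/
theorem rad_slices [Finite F] (P : Par f) {v v' : W1} (Fm : Fr f v v') {j : ι} {X : Big} (hX : RadL f j v X)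
    (h : ∀ r s, ∃ c : F, sl j r s X - c • 1 ∈ skew P.sym) : X ∈ SlIn j (Wsp f v) := by
  have hf := P.sym
  refine mem_SlIn.2 fun r s => ?_
  obtain ⟨c, hc⟩ := h r s
  set Sl := sl j r s X
  have hsv : Sl *ᵥ v = 0 := by
    funext a
    have h1 := congrFun (congrArg (ctr j (Pi.single a 1)) (hX.fix (Pi.single s 1))) r
    rw [map_zero, sl_mulVec, Finset.sum_eq_single s (fun t _ ht => by simp [Pi.single_eq_of_ne ht])
      (by simp), Pi.single_eq_same, one_mul, single_one_dotProduct] at h1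
    exact h1
  have hz : ∀ p, Per f v v' p → Sl *ᵥ p ∈ Submodule.span F {v} := fun p hp => by
    refine mem_span_of_orth fun φ hφ => ?_
    obtain ⟨t, ht⟩ := hX.perp _ (perp_ins hf hp.1 (Pi.single s 1))
    have h1 := congrFun (congrArg (ctr j φ) ht) r
    rw [ctr_ins, hφ, zero_smul, sl_mulVec, Finset.sum_eq_single s (fun t _ ht => by simp [Pi.single_eq_of_ne ht])
      (by simp), Pi.single_eq_same, one_mul] at h1
    exact h1.symm
  obtain ⟨y, hy, hyy⟩ := exists_aniso P Fm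
  have hc0 : c = 0 := by
    obtain ⟨α, hα⟩ := Submodule.mem_span_singleton.1 (hz y hy)
    have h1 := hc y y
    rw [sub_mulVec, smul_mulVec, one_mulVec, ← hα] at h1
    simp only [hf.subL, hf.subR, hf.smulL, hf.smulR, hy.1, hf.comm y v] at h1
    have h2 : (2 : F) * (c * f y y) = 0 := by linear_combination -h1
    exact (mul_eq_zero.1 ((mul_eq_zero.1 h2).resolve_left hf.two)).resolve_right hyy
  rw [hc0, zero_smul, sub_zero] at hc
  have hzero : f (Sl *ᵥ v') v = 0 := by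
    have := hc v' v; rw [hsv, hf.zeroR, add_zero] at this; exact this
  have hself : f (Sl *ᵥ v') v' = 0 := by
    have h1 := hc v' v'
    rw [hf.comm (Sl *ᵥ v') v'] at h1
    exact (mul_eq_zero.1 (show (2 : F) * f (Sl *ᵥ v') v' = 0 by linear_combination h1)).resolve_left hf.two
  refine (mem_Wsp hf).2 ⟨_, hzero, mat_ext hf Fm ?_ ?_ fun p hp => ?_⟩
  · rw [hsv, wd_mulVec hf, Fm.vv, hf.comm (Sl *ᵥ v') v, hzero]; module
  · rw [wd_mulVec hf, Fm.pair' hf, hf.comm (Sl *ᵥ v') v', hself]; module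
  · obtain ⟨α, hα⟩ := Submodule.mem_span_singleton.1 (hz p hp)
    have h1 := hc p v'
    rw [← hα, hf.smulL, Fm.pair] at h1
    rw [wd_mulVec hf, hp.1, ← hα, show α = -f p (Sl *ᵥ v') by linear_combination h1]
    module

variable {M : Subgroup (GL (ι → Fin k) F)}

/-- An element of the group at one factor carrying the line to a given one. -/
theorem transport [Finite F] (S : Setting f M) (a : ι) {v u : W1} (hv : v ≠ 0) (hvv : f v v = 0) (hu : u ≠ 0)
    (huu : f u u = 0) :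
    ∃ g : G1, g ∈ isoF f ∧ oneGL a g ∈ M ∧ ∃ μ : F, μ ≠ 0 ∧ (g : A1) *ᵥ v = μ • u := by
  let H : Subgroup G1 :=
    { carrier := {g | g ∈ isoF f ∧ oneGL a g ∈ M}
      one_mem' := ⟨one_mem _, by rw [oneGL_one]; exact one_mem _⟩
      mul_mem' := fun {g h} hg hh => ⟨mul_mem hg.1 hh.1, by rw [← oneGL_mul]; exact mul_mem hg.2 hh.2⟩
      inv_mem' := fun {g} hg => ⟨inv_mem hg.1, by rw [← oneGL_inv]; exact inv_mem hg.2⟩ }
  obtain ⟨g, hg, μ, hμ, e⟩ := exists_move S.par hv hvv hu huu H fun x y hx hy =>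
    ⟨er_iso S.sym hx hy, S.rt_mem a hx hy⟩
  exact ⟨g, hg.1, hg.2, μ, hμ, e⟩

/-- A group of matrices closed under the elements of the group at one factor. -/
def Stable (f : (Fin k → F) → (Fin k → F) → F) (M : Subgroup (GL (ι → Fin k) F)) (a : ι)
    (G : AddSubgroup (Matrix (ι → Fin k) (ι → Fin k) F)) : Prop :=
  ∀ g : GL (Fin k) F, g ∈ isoF f → oneGL a g ∈ M → ∀ X ∈ G,
    (oneGL a g : Matrix (ι → Fin k) (ι → Fin k) F) * X * ((oneGL a g)⁻¹).val ∈ G

theorem Stable.rt (S : Setting f M) {a : ι} {G : AddSubgroup Big} (hG : Stable f M a G) {v v' : W1}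
    (Fm : Fr f v v') : ∀ z, Per f v v' z → ∀ X ∈ G, (rt f a v z : Big) * X * ((rt f a v z)⁻¹).val ∈ G :=
  fun _ hz X hX => hG _ (er_iso S.sym Fm.vv hz.1) (S.rt_mem a Fm.vv hz.1) X hX

/-- If a slice takes a non-zero value at an isotropic vector, the rank-one square is produced. -/
theorem toE [Finite F] (S : Setting f M) {a : ι} {v v' : W1} (Fm : Fr f v v') {G : AddSubgroup Big}
    (hG : Stable f M a G) {X : Big} (hX : X ∈ G) {r s : {i // i ≠ a} → Fin k} {u : W1} (huu : f u u = 0)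
    (hne : f (sl a r s X *ᵥ u) u ≠ 0) :
    ∃ Y ∈ G, Y ∈ SlIn a (Submodule.span F {vecMulVec v (formVec f v)}) ∧ Y ≠ 0 ∧
      ∀ l, a ≠ l → ∀ U, X ∈ SlIn l U → Y ∈ SlIn l U := by
  have hf := S.sym
  have hu : u ≠ 0 := fun e => hne (by rw [e, hf.zeroR])
  obtain ⟨g, hg, hgM, μ, hμ, hgv⟩ := transport S a (Fm.ne hf) Fm.vv hu huu
  have hgi : oneGL a g⁻¹ ∈ M := by rw [← oneGL_inv]; exact inv_mem hgM
  set X1 : Big := (oneGL a g⁻¹ : Big) * X * ((oneGL a g⁻¹)⁻¹).val
  obtain ⟨Y, hY, hkeep, c, hc, hsl⟩ := op4 S.par Fm G (hG.rt S Fm) (X := X1) (hG _ (inv_mem hg) hgi X hX)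
  refine ⟨Y, hY, mem_SlIn.2 fun r' s' => ?_, fun e => hne ?_, fun l hl U hU => hkeep l hl U (SlIn.conj_ne hl hU _)⟩
  · rw [hsl]; exact Submodule.smul_mem _ _ (Submodule.mem_span_singleton_self _)
  · have h1 := hsl r s
    rw [e, map_zero, sl_conj, inv_inv, eq_comm, smul_eq_zero, mul_eq_zero] at h1
    have hE : vecMulVec v (formVec f v) ≠ 0 := fun e0 => Fm.ne hf (by
      have := congrArg (fun Z : A1 => Z *ᵥ v') e0
      rwa [E_mulVec hf, Fm.pair' hf, one_smul, zero_mulVec] at this)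
    have h2 := (h1.resolve_right hE).resolve_left hc
    rw [← hg, gl_mul_mulVec_inv' g, hgv] at h2
    simp only [mulVec_smul, hf.smulL, hf.smulR] at h2
    simpa [hμ] using h2
where
  gl_mul_mulVec_inv' (g : GL (Fin k) F) {X : A1} {w : W1} :
      (g : A1) *ᵥ (((g⁻¹).val * X * (g : A1)) *ᵥ w) = X *ᵥ ((g : A1) *ᵥ w) := by
    rw [← mulVec_mulVec, ← mulVec_mulVec, gl_mulVec_inv]

/-- If all slices are scalars plus skew matrices and one is not a scalar, a root transformation is produced. -/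
theorem toW [Finite F] (S : Setting f M) {a : ι} {v v' : W1} (Fm : Fr f v v') {G : AddSubgroup Big}
    (hG : Stable f M a G) {X : Big} (hX : X ∈ G) (hall : ∀ r s, ∃ c : F, sl a r s X - c • 1 ∈ skew S.sym)
    (hns : X ∉ SlIn a (Submodule.span F {(1 : A1)})) :
    ∃ Y ∈ G, Y ∈ SlIn a (Wsp f v) ∧ Y ≠ 0 ∧ ∀ l, a ≠ l → ∀ U, X ∈ SlIn l U → Y ∈ SlIn l U := by
  have hf := S.sym
  obtain ⟨r, s, hrs⟩ : ∃ r s, sl a r s X ∉ Submodule.span F {(1 : A1)} := by
    by_contra hc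
    push Not at hc
    exact hns (mem_SlIn.2 hc)
  obtain ⟨c, hc⟩ := hall r s
  have hK0 : sl a r s X - c • 1 ≠ 0 := fun e => hrs (by
    rw [sub_eq_zero] at e; rw [e]; exact Submodule.smul_mem _ _ (Submodule.mem_span_singleton_self _))
  obtain ⟨u, hu, huu, hmove⟩ := exists_moved S.par hc hK0
  obtain ⟨g, hg, hgM, μ, hμ, hgv⟩ := transport S a (Fm.ne hf) Fm.vv hu huu
  have hgi : oneGL a g⁻¹ ∈ M := by rw [← oneGL_inv]; exact inv_mem hgM
  set X1 : Big := (oneGL a g⁻¹ : Big) * X * ((oneGL a g⁻¹)⁻¹).val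
  have hX1 : X1 ∈ G := hG _ (inv_mem hg) hgi X hX
  have hconj : ∀ r' s' (c' : F), sl a r' s' X - c' • 1 ∈ skew hf →
      (g⁻¹).val * (sl a r' s' X - c' • 1) * (g : A1) ∈ skew hf ∧
      sl a r' s' X1 = (g⁻¹).val * (sl a r' s' X - c' • 1) * (g : A1) + c' • 1 := fun r' s' c' h => by
    refine ⟨fun x y => ?_, ?_⟩
    · rw [← hg, ← hg x, gl_mul_mulVec_inv g, gl_mul_mulVec_inv g]
      exact h _ _
    · rw [sl_conj, inv_inv]
      simp only [Matrix.mul_sub, Matrix.sub_mul, Matrix.mul_smul, Matrix.smul_mul, Matrix.mul_one, Units.inv_mul]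
      abel
  obtain ⟨z, hz, hzz⟩ := exists_aniso S.par Fm
  have hsl : ∀ r' s' (c' : F), sl a r' s' X - c' • 1 ∈ skew hf → sl a r' s' (SB f a v z X1) =
      -(f z z) • wd f v (((g⁻¹).val * (sl a r' s' X - c' • 1) * (g : A1)) *ᵥ v -
        (2 * f (((g⁻¹).val * (sl a r' s' X - c' • 1) * (g : A1)) *ᵥ v) z / f z z) • z) := fun r' s' c' h => by
    rw [sl_SB hf a Fm.vv hz.1, (hconj r' s' c' h).2, Sop_add, Sop_smul, Sop_one hf Fm.vv hz.1, smul_zero,
      add_zero, Sop_skew hf Fm.vv hz.1 hzz (hconj r' s' c' h).1]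
  have hperp : ∀ {K : A1}, K ∈ skew hf → f (K *ᵥ v) v = 0 := fun {K} hK => by
    have h1 := hK v v
    rw [hf.comm (K *ᵥ v) v] at h1
    exact (mul_eq_zero.1 (show (2 : F) * f (K *ᵥ v) v = 0 by linear_combination h1)).resolve_left hf.two
  refine ⟨SB f a v z X1, SB_mem hf (hG.rt S Fm) hz hX1, mem_SlIn.2 fun r' s' => ?_, fun e => hmove ?_,
    fun l hl U hU => SlIn.SB_ne hl (SlIn.conj_ne hl hU _) _ _⟩
  · obtain ⟨c', hc'⟩ := hall r' s'
    rw [hsl r' s' c' hc']
    exact Submodule.smul_mem _ _ ((mem_Wsp hf).2 ⟨_, by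
      rw [hf.subL, hperp (hconj r' s' c' hc').1, hf.smulL, hz.1, mul_zero, sub_zero], rfl⟩)
  · have h1 := hsl r s c hc
    rw [e, map_zero, eq_comm, smul_eq_zero] at h1
    have h2 := h1.resolve_left (neg_ne_zero.2 hzz)
    set p := ((g⁻¹).val * (sl a r s X - c • 1) * (g : A1)) *ᵥ v with hp
    set q := p - (2 * f p z / f z z) • z with hq
    have h3 := congrArg (fun Z : A1 => Z *ᵥ v') h2
    rw [wd_mulVec hf, Fm.pair' hf, one_smul, zero_mulVec, sub_eq_zero] at h3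
    have h4 : f q z = 0 := by rw [h3, hf.smulL, hf.comm z v, hz.1, mul_zero]
    have h5 : f p z = 0 := by
      rw [hq, hf.subL, hf.smulL, div_mul_cancel₀ _ hzz] at h4
      linear_combination -h4
    have h6 : p = f v' q • v := by
      rw [← h3, hq, h5, mul_zero, zero_div, zero_smul, sub_zero]
    have h7 : (sl a r s X - c • 1) *ᵥ ((g : A1) *ᵥ v) = (g : A1) *ᵥ p := by
      rw [hp, gl_mul_mulVec_inv g]
    rw [h6, hgv, mulVec_smul, mulVec_smul, hgv, smul_smul] at h7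
    exact Submodule.mem_span_singleton.2 ⟨μ⁻¹ * (f v' q * μ), by rw [← smul_smul, ← h7, inv_smul_smul₀ hμ]⟩
where
  gl_mul_mulVec_inv (g : GL (Fin k) F) {X : A1} {w : W1} :
      (g : A1) *ᵥ (((g⁻¹).val * X * (g : A1)) *ᵥ w) = X *ᵥ ((g : A1) *ᵥ w) := by
    rw [← mulVec_mulVec, ← mulVec_mulVec, gl_mulVec_inv]

end Cfsg.Agent.Lib.TensorPowerOrth.Steps
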