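import Cfsg.Agent.Lib.TensorPowerOrth.Steps

/-!
Pure tensors slot by slot: elements of the factors as tuples, rank-one tuples, and multilinear reductions.
-/

set_option autoImplicit false
set_option linter.unusedSectionVars false

namespace Cfsg.Agent.Lib.TensorPowerOrth.Tuples

open Matrix
open Cfsg.Agent.Lib.Subspaces.Transvection Cfsg.Agent.Lib.Subspaces.FormVec
  Cfsg.Agent.Lib.TensorPowerMax.Basic Cfsg.Agent.Lib.TensorOrthMax.Side Cfsg.Agent.Lib.TensorOrthMax.Setup
  Cfsg.Agent.Lib.TensorPowerOrth.Form Cfsg.Agent.Lib.TensorPowerOrth.Frame Cfsg.Agent.Lib.TensorPowerOrth.Roots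
  Cfsg.Agent.Lib.TensorPowerOrth.Kron
open Cfsg.Agent.Lib.TensorSympMax.Quad (Maps maps_of_le)

variable {ι : Type} [Fintype ι] [DecidableEq ι] {k : ℕ} {F : Type*} [Field F]

local notation "A1" => Matrix (Fin k) (Fin k) F
local notation "Big" => Matrix (ι → Fin k) (ι → Fin k) F
local notation "GG" => GL (ι → Fin k) F
local notation "W1" => Fin k → F

theorem pv_update (l : ι) (s : ι → W1) (w : W1) :
    pv (Function.update s l w) = ins l w (pv fun i : {i // i ≠ l} => s i.1) := by
  conv_lhs => rw [← ins_pv l, Function.update_self]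
  congr 2
  funext i
  exact Function.update_of_ne i.2 _ _

theorem pv_update_add (l : ι) (s : ι → W1) (a b : W1) :
    pv (Function.update s l (a + b)) = pv (Function.update s l a) + pv (Function.update s l b) := by
  simp only [pv_update, TensorSympMax.Basic.ins_add_vec]

theorem pv_update_smul (l : ι) (s : ι → W1) (c : F) (a : W1) :
    pv (Function.update s l (c • a)) = c • pv (Function.update s l a) := by
  simp only [pv_update, ins_smul]

theorem pv_update_zero (l : ι) (s : ι → W1) : pv (Function.update s l (0 : W1)) = 0 := by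
  simp only [pv_update, TensorSympMax.Basic.ins_zero_vec]

theorem pv_smul (c : ι → F) (s : ι → W1) : pv (fun i => c i • s i) = (∏ i, c i) • pv s := by
  ext x
  simp [pv, Finset.prod_mul_distrib]

theorem pt_smul (c : ι → F) (A : ι → A1) : pt (fun i => c i • A i) = (∏ i, c i) • pt A := by
  ext x y
  simp [pt_apply, Finset.prod_mul_distrib]

theorem pt_update_sub (A : ι → A1) (j : ι) (D D' : A1) :
    pt (Function.update A j (D - D')) = pt (Function.update A j D) - pt (Function.update A j D') := by
  rw [eq_sub_iff_add_eq, ← pt_update_add, sub_add_cancel]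

/-- A tuple is split at one factor. -/
theorem pt_kr (j : ι) (A : ι → A1) : pt A = kr j (pt fun i : {i // i ≠ j} => A i.1) (A j) :=
  ((sp j).injective (by rw [sp_kr, sp_pt]))

theorem pt_split (j : ι) (A : ι → A1) : pt A = oneM j (A j) * pt (Function.update A j 1) := by
  rw [oneM, pt_mul]
  congr 1
  funext i
  by_cases h : i = j
  · subst h; simp
  · simp [h]

theorem pt_split' (j : ι) (A : ι → A1) : pt A = pt (Function.update A j 1) * oneM j (A j) := by
  rw [oneM, pt_mul]
  congr 1
  funext i
  by_cases h : i = j
  · subst h; simp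
  · simp [h]

/-- A tuple fixing the line of `v` at `j` keeps the block. -/
theorem maps_tuple {j : ι} {v : W1} (hv : v ≠ 0) {g : ι → GL (Fin k) F} {μ : F}
    (h : (g j : A1) *ᵥ v = μ • v) : Maps (ptGL g) j v j v :=
  maps_of_le hv hv fun u => by
    rw [coe_ptGL, pt_kr j, kr_ins, h, ins_smul]
    exact Submodule.smul_mem _ _ (LinearMap.mem_range_self _ _)

theorem maps_ne {a j : ι} (h : a ≠ j) {v : W1} (hv : v ≠ 0) (g : GL (Fin k) F) : Maps (oneGL a g) j v j v :=
  maps_tuple hv (μ := 1) (by rw [Function.update_of_ne h.symm, Pi.one_apply, Units.val_one, one_mulVec, one_smul])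

theorem maps_eq {j : ι} {v : W1} (hv : v ≠ 0) {g : GL (Fin k) F} {μ : F} (h : (g : A1) *ᵥ v = μ • v) :
    Maps (oneGL j g) j v j v :=
  maps_tuple hv (μ := μ) (by rw [Function.update_self, h])

/-- Tuples of elements of the group at the factors are in the group. -/
theorem ptGL_mem {H : Subgroup GG} {g : ι → GL (Fin k) F} (h : ∀ l, oneGL l (g l) ∈ H) : ptGL g ∈ H := by
  classical
  have key : ∀ T : Finset ι, ptGL (fun l => if l ∈ T then g l else 1) ∈ H := by
    intro T
    induction T using Finset.induction_on with
    | empty =>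
      rw [show (fun l : ι => if l ∈ (∅ : Finset ι) then g l else 1) = 1 from funext fun l => by simp, map_one]
      exact one_mem _
    | insert l T hl ih =>
      have e : (fun i => if i ∈ insert l T then g i else 1) =
          Function.update (1 : ι → GL (Fin k) F) l (g l) * fun i => if i ∈ T then g i else 1 := funext fun i => by
        by_cases hi : i = l
        · subst hi; simp [hl]
        · simp [hi]
      rw [e, map_mul]
      exact mul_mem (h l) ih
  simpa using key Finset.univ

variable {f : (Fin k → F) → (Fin k → F) → F} (hf : Sym f)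
include hf

theorem ptGL_iso1 {g : ι → GL (Fin k) F} (h : ∀ l, g l ∈ isoF f) : ptGL g ∈ isoB ι f :=
  ptGL_iso hf (c := fun _ => 1) (fun i x y => by rw [one_mul]; exact h i x y) (by simp)

/-- A tuple of rank-one matrices. -/
theorem rank_one_tuple (q p : ι → W1) (y : (ι → Fin k) → F) :
    pt (fun l => vecMulVec (q l) (formVec f (p l))) *ᵥ y = Bt f y (pv p) • pv q := by
  refine LinearMap.congr_fun (lin_ext (L := (pt fun l => vecMulVec (q l) (formVec f (p l))).mulVecLin)
    (L' := (BL f (pv p)).smulRight (pv q)) fun s => ?_) y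
  show pt _ *ᵥ pv s = Bt f (pv s) (pv p) • pv q
  rw [pt_mulVec, Bt_pv hf, ← pv_smul]
  congr 1
  funext l
  rw [vecMulVec_mulVec, hf.dot]
  simp only [op_smul_eq_smul]

end Cfsg.Agent.Lib.TensorPowerOrth.Tuples
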