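import Cfsg.Agent.Lib.TensorPowerOrth.Alg

/-!
The Eichler maps of the product form, the group induced on the factors other than one modulo the central
radical elements, and the absence of Eichler maps of the smaller product in it.
-/

set_option autoImplicit false
set_option linter.unusedSectionVars false
set_option linter.style.haveILetI false

namespace Cfsg.Agent.Lib.TensorPowerOrth.Upper

open Matrix
open Cfsg.Agent.Lib.Subspaces.Transvection Cfsg.Agent.Lib.Subspaces.FormVec
  Cfsg.Agent.Lib.TensorPowerMax.Basic Cfsg.Agent.Lib.TensorOrthMax.Side Cfsg.Agent.Lib.TensorOrthMax.Setup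
  Cfsg.Agent.Lib.TensorPowerOrth.Form Cfsg.Agent.Lib.TensorPowerOrth.Frame Cfsg.Agent.Lib.TensorPowerOrth.Roots
  Cfsg.Agent.Lib.TensorPowerOrth.Skew Cfsg.Agent.Lib.TensorPowerOrth.Kron Cfsg.Agent.Lib.TensorPowerOrth.Block
open Cfsg.Agent.Lib.TensorSympMax.Quad (Maps maps_of_le block_disjoint mem_block_ins)

variable {ι : Type} [Fintype ι] [DecidableEq ι] {k : ℕ} {F : Type*} [Field F]

local notation "A1" => Matrix (Fin k) (Fin k) F
local notation "Big" => Matrix (ι → Fin k) (ι → Fin k) F
local notation "GG" => GL (ι → Fin k) F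
local notation "W1" => Fin k → F
local notation "Vec" => (ι → Fin k) → F

/-- The Eichler map of the product form at `P` and `Q`. -/
def phiB (f : (Fin k → F) → (Fin k → F) → F) (P Q y : (ι → Fin k) → F) : (ι → Fin k) → F :=
  y + Bt f y P • Q - Bt f y Q • P - (Bt f Q Q / 2 * Bt f y P) • P

/-- All Eichler maps of the product form are in the group. -/
def Full (f : (Fin k → F) → (Fin k → F) → F) (M : Subgroup (GL (ι → Fin k) F)) : Prop :=
  ∀ P Q : (ι → Fin k) → F, Bt f P P = 0 → Bt f Q P = 0 →
    ∃ g ∈ M, ∀ y, (g : Matrix (ι → Fin k) (ι → Fin k) F) *ᵥ y = phiB f P Q y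

/-- The dichotomy with fewer factors. -/
def Lower (ι : Type) [Fintype ι] (f : (Fin k → F) → (Fin k → F) → F) : Prop :=
  ∀ (κ : Type) [Fintype κ] [DecidableEq κ], Fintype.card κ < Fintype.card ι →
    ∀ M : Subgroup (GL (κ → Fin k) F), Setting f M → M ≤ stab κ k F ∨ Full f M

theorem card_rest_lt (j : ι) : Fintype.card {i // i ≠ j} < Fintype.card ι :=
  Fintype.card_subtype_lt (x := j) (by simp)

variable {f : (Fin k → F) → (Fin k → F) → F}

/-- The matrices acting as `Q` modulo the central radical elements at the block of `w`. -/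
def Up (f : (Fin k → F) → (Fin k → F) → F) (M : Subgroup (GL (ι → Fin k) F)) (j : ι) (w : Fin k → F)
    (hww : (Matrix.vecMulVec w (formVec f w)) * (Matrix.vecMulVec w (formVec f w)) = 0) :
    Subgroup (GL ({i // i ≠ j} → Fin k) F) where
  carrier := {Q | Q ∈ isoB {i // i ≠ j} f ∧ ∃ x ∈ M, ∃ W, (x : Big) =
    kr j Q.val 1 + kr j W (vecMulVec w (formVec f w))}
  one_mem' := ⟨one_mem _, 1, one_mem _, 0, by rw [Units.val_one, Units.val_one, kr_one_one, kr_zero_left, add_zero]⟩
  mul_mem' := fun {Q R} ⟨hQ, x, hx, W, e⟩ ⟨hR, y, hy, V, e'⟩ =>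
    ⟨mul_mem hQ hR, x * y, mul_mem hx hy, Q.val * V + W * R.val, by
      rw [Units.val_mul, Units.val_mul, e, e', add_mul, mul_add, mul_add, kr_mul, kr_mul, kr_mul, kr_mul, mul_one,
        one_mul, mul_one, hww, kr_zero_right, add_zero, kr_add_left]
      abel⟩
  inv_mem' := fun {Q} ⟨hQ, x, hx, W, e⟩ => by
    set Qi : Matrix ({i // i ≠ j} → Fin k) ({i // i ≠ j} → Fin k) F := (Q⁻¹).val
    refine ⟨inv_mem hQ, x⁻¹, inv_mem hx, -(Qi * W * Qi), ?_⟩
    have h : (x : Big) * (kr j Qi 1 + kr j (-(Qi * W * Qi)) (vecMulVec w (formVec f w))) = 1 := by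
      rw [e, add_mul, mul_add, mul_add, kr_mul, kr_mul, kr_mul, kr_mul, mul_one, one_mul, mul_one, hww,
        kr_zero_right, add_zero, add_assoc, ← kr_add_left, mul_neg, ← mul_assoc, ← mul_assoc,
        show Q.val * Qi = 1 from Units.mul_inv Q, one_mul, neg_add_cancel, kr_zero_left, add_zero,
        kr_one_one]
    calc ((x⁻¹ : GG) : Big) = ((x⁻¹ : GG) : Big) * ((x : Big) * (kr j Qi 1 + kr j (-(Qi * W * Qi))
          (vecMulVec w (formVec f w)))) := by rw [h, mul_one]
      _ = _ := by rw [← mul_assoc, Units.inv_mul, one_mul]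

section

variable (hf : Sym f)
include hf

theorem E_sq {w : W1} (hw : f w w = 0) :
    vecMulVec w (formVec f w) * vecMulVec w (formVec f w) = (0 : A1) := by
  rw [vecMulVec_mul_vecMulVec, hf.dot, hw, zero_smul, vecMulVec_zero]

theorem E_mulVec (w y : W1) : vecMulVec w (formVec f w) *ᵥ y = f y w • w := by
  rw [vecMulVec_mulVec, hf.dot]
  simp only [op_smul_eq_smul]

/-- A central radical element of the group is one. -/
theorem central_zero {M : Subgroup GG} (NR : NoRad f M) {j : ι} {w w' : W1} (Fw : Fr f w w') {x : GG} (hx : x ∈ M)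
    {W : Matrix ({i // i ≠ j} → Fin k) ({i // i ≠ j} → Fin k) F}
    (h : (x : Big) = 1 + kr j W (vecMulVec w (formVec f w))) : W = 0 := by
  have hfix : ∀ y, f y w = 0 → ∀ u, (x : Big) *ᵥ ins j y u = ins j y u := fun y hy u => by
    rw [h, add_mulVec, one_mulVec, kr_ins, E_mulVec hf, hy, zero_smul, TensorSympMax.Basic.ins_zero_vec, add_zero]
  have hrad : Radical f j w x :=
    { fix := fun u => hfix w Fw.vv u
      perp := fun y hy => by
        refine perp_induction hf Fw j (p := fun y => (x : Big) *ᵥ y - y ∈ block j w) (fun a b ha hb => ?_)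
          (fun u => ?_) (fun z hz u => ?_) hy
        · simp only [mulVec_add]
          rw [add_sub_add_comm]
          exact Submodule.add_mem _ ha hb
        · rw [hfix w Fw.vv, sub_self]; exact Submodule.zero_mem _
        · rw [hfix z hz.1, sub_self]; exact Submodule.zero_mem _ }
  obtain ⟨z, hz, hxz⟩ := NR x hx j w (Fw.ne hf) Fw.vv hrad
  have hz0 : z = f z w' • w := ext_frame hf Fw (by rw [hz, hf.smulL, Fw.vv, mul_zero])
    (by rw [hf.smulL, Fw.pair, mul_one]) fun y hy => by
      refine Eq.trans ?_ (show (0 : F) = f (f z w' • w) y by rw [hf.smulL, hf.comm y w, hy.1, mul_zero])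
      by_cases hy0 : y = 0
      · rw [hy0, hf.zeroR]
      by_contra hne
      haveI : Nonempty ({i // i ≠ j} → Fin k) := ⟨fun _ => ⟨0, by
        by_contra hk
        exact hy0 (funext fun i => absurd i.2 (by omega))⟩⟩
      have h1 := congrArg (fun g : GG => ctr j (formVec f y) ((g : Big) *ᵥ ins j w' fun _ => 1)) hxz
      simp only [h, add_mulVec, one_mulVec, kr_ins, E_mulVec hf, Fw.pair' hf, one_smul, map_add,
        rt_ins hf j Fw.vv hz, ctr_ins, hf.dot, hf.addL, hf.subL, hf.smulL, hf.comm y w', hy.2, hf.comm y w, hy.1,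
        hf.comm w' z] at h1
      have h2 := congrFun h1 (Classical.arbitrary _)
      simp at h2
      exact hne h2
  rw [hz0, show f z w' • w = 0 + f z w' • w by rw [zero_add], rt_shift hf j Fw.vv (hf.zeroL w),
    rt_zero hf j Fw.vv] at hxz
  have hW : kr j W (vecMulVec w (formVec f w)) = 0 := by
    rw [hxz, Units.val_one] at h
    exact left_eq_add.1 h
  refine kr_inj j W 0 (fun hE => Fw.ne hf ?_) (hW.trans (kr_zero_left j _).symm)
  have := congrArg (fun X : A1 => X *ᵥ w') hE
  rwa [E_mulVec hf, Fw.pair' hf, one_smul, zero_mulVec] at this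

/-- Equal images modulo the central radical elements come from equal elements. -/
theorem up_unique {M : Subgroup GG} (NR : NoRad f M) {j : ι} {w w' : W1} (Fw : Fr f w w')
    {Q : GL ({i // i ≠ j} → Fin k) F} {x y : GG} (hx : x ∈ M) (hy : y ∈ M)
    {W V : Matrix ({i // i ≠ j} → Fin k) ({i // i ≠ j} → Fin k) F}
    (e : (x : Big) = kr j Q.val 1 + kr j W (vecMulVec w (formVec f w)))
    (e' : (y : Big) = kr j Q.val 1 + kr j V (vecMulVec w (formVec f w))) : W = V := by
  set Qi : Matrix ({i // i ≠ j} → Fin k) ({i // i ≠ j} → Fin k) F := (Q⁻¹).val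
  set E := vecMulVec w (formVec f w)
  have hx' : (x : Big) = (1 + kr j ((W - V) * Qi) E) * (y : Big) := by
    rw [e, e', add_mul, one_mul, mul_add, kr_mul, kr_mul, mul_one, E_sq hf Fw.vv, kr_zero_right, add_zero,
      mul_assoc, show Qi * Q.val = 1 from Units.inv_mul Q, mul_one, add_assoc, ← kr_add_left,
      add_sub_cancel]
  have h0 := central_zero hf NR Fw (mul_mem hx (inv_mem hy)) (W := (W - V) * Qi) (by
    rw [Units.val_mul, hx', mul_assoc, Units.mul_inv, mul_one])
  have := congrArg (fun X => X * Q.val) h0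
  simp only [mul_assoc, zero_mul, show Qi * Q.val = 1 from Units.inv_mul Q, mul_one] at this
  exact sub_eq_zero.1 this

/-- Contractions of vectors in a block at another factor. -/
theorem ctr_oneM {j i : ι} (h : i ≠ j) (D : A1) (φ : W1) (y : Vec) :
    ctr j φ (oneM i D *ᵥ y) = oneM (⟨i, h⟩ : {i // i ≠ j}) D *ᵥ ctr j φ y := by
  conv_lhs => rw [ins_sum j y, Matrix.mulVec_sum, map_sum]
  conv_rhs => rw [ins_sum j y, map_sum, Matrix.mulVec_sum]
  refine Finset.sum_congr rfl fun a _ => ?_
  rw [← kr_oneM_ne j h, kr_ins, one_mulVec, ctr_ins, ctr_ins, mulVec_smul]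

end

variable [Fintype F]

/-- No non-trivial Eichler map of the other factors is induced, in the absence of radical elements. -/
theorem not_full {M : Subgroup GG} (S : Setting f M) (NR : NoRad f M) (j : ι) {w w' : W1} (Fw : Fr f w w')
    (hcard : 2 ≤ Fintype.card {i // i ≠ j}) :
    ¬ Full f (Up f M j w (E_sq S.sym Fw.vv)) := by
  classical
  intro hfull
  have hf := S.sym
  have P := S.par
  have hk := S.hk
  haveI : Nonempty {i // i ≠ j} := Fintype.card_pos_iff.1 (by omega)
  set i := Classical.arbitrary {i // i ≠ j}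
  obtain ⟨l, hli⟩ := Fintype.exists_ne_of_one_lt_card (by omega) i
  obtain ⟨v, v', Fm⟩ := exists_frame P
  obtain ⟨y, hy, hyy⟩ := exists_aniso P Fm
  set P0 : ({i // i ≠ j} → Fin k) → F := pv fun _ => v
  set Q0 : ({i // i ≠ j} → Fin k) → F := pv (Function.update (fun _ => v) i y)
  have hPP : Bt f P0 P0 = 0 := by
    rw [Bt_pv hf]; exact Finset.prod_eq_zero (Finset.mem_univ i) Fm.vv
  have hQP : Bt f Q0 P0 = 0 := by
    rw [Bt_pv hf]
    exact Finset.prod_eq_zero (Finset.mem_univ l) (by rw [Function.update_of_ne hli, Fm.vv])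
  have hQQ : Bt f Q0 Q0 = 0 := by
    rw [Bt_pv hf]
    exact Finset.prod_eq_zero (Finset.mem_univ l) (by rw [Function.update_of_ne hli, Fm.vv])
  have hPQ : Bt f P0 Q0 = 0 := (Bt_comm hf Q0 P0).trans hQP
  set E := vecMulVec w (formVec f w)
  set L : Matrix ({i // i ≠ j} → Fin k) ({i // i ≠ j} → Fin k) F :=
    LinearMap.toMatrix' (((BL f P0).smulRight Q0) - (BL f Q0).smulRight P0)
  have hL : ∀ z, L *ᵥ z = Bt f z P0 • Q0 - Bt f z Q0 • P0 := fun z => by
    show LinearMap.toMatrix' _ *ᵥ z = _
    rw [LinearMap.toMatrix'_mulVec]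
    rfl
  have hex : ∀ a : F, ∃ W, ∃ Q : GL ({i // i ≠ j} → Fin k) F, Q.val = 1 + a • L ∧
      ∃ x ∈ M, (x : Big) = kr j (1 + a • L) 1 + kr j W E := by
    intro a
    obtain ⟨Q, ⟨-, x, hx, W, e⟩, hQ⟩ := hfull P0 (a • Q0) hPP (by rw [Bt_smulL, hQP, mul_zero])
    have hQv : Q.val = 1 + a • L := Matrix.mulVec_injective (funext fun z => by
      rw [hQ, add_mulVec, one_mulVec, smul_mulVec, hL, phiB]
      simp only [Bt_smulR, Bt_smulL, hQQ, mul_zero, zero_div, zero_mul]
      module)
    exact ⟨W, Q, hQv, x, hx, hQv ▸ e⟩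
  choose W Q hQ x hx hxe using hex
  have huniq : ∀ a (z : GG), z ∈ M → ∀ V, (z : Big) = kr j (1 + a • L) 1 + kr j V E → V = W a := fun a z hz V e =>
    up_unique hf NR Fw hz (hx a) (Q := Q a) (by rw [hQ]; exact e) (by rw [hQ]; exact hxe a)
  have hLins : ∀ u, L *ᵥ ins i v u = 0 := fun u => by
    have h1 : Bt f (ins i v u) P0 = 0 := by
      rw [Bt_comm hf]
      exact perp_block hf (j := i) Fm.vv (pv_mem_block rfl) u |> fun h => by rwa [Bt_comm hf]
    have h2 : Bt f (ins i v u) Q0 = 0 :=
      perp_ins hf (j := i) (v := v) hy.1 (pv fun m : {m // m ≠ i} => Function.update (fun _ => v) i y m.1) u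
        |> fun h => by rwa [show Q0 = ins i y _ from (by
          conv_lhs => rw [show Q0 = pv (Function.update (fun _ => v) i y) from rfl, ← ins_pv i, Function.update_self])]
    rw [hL, h1, h2, zero_smul, zero_smul, sub_zero]
  -- the coefficient is invariant under the root elements at the block
  have hR : ∀ z, Per f v v' z → ∀ a, W a * oneM i (wd f v z) = oneM i (wd f v z) * W a := by
    intro z hz a
    have hcom : ∀ z', Per f v v' z' → (rt f i v z' : Matrix ({i // i ≠ j} → Fin k) _ F) * W a =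
        W a * (rt f i v z' : Matrix ({i // i ≠ j} → Fin k) _ F) := by
      intro z' hz'
      set R : GL ({i // i ≠ j} → Fin k) F := rt f i v z'
      have hRiso : R ∈ isoB {i // i ≠ j} f := rt_iso hf i Fm.vv hz'.1
      have hRL : R.val * L = L * R.val := by
        refine Matrix.mulVec_injective (funext fun z0 => ?_)
        have hRP : (R⁻¹).val *ᵥ P0 = P0 := by
          rw [rt_inv hf i Fm.vv hz'.1, show P0 = pv fun _ : {i // i ≠ j} => v from rfl,
            ← ins_pv i, rt_ins hf i Fm.vv (per_neg hf hz').1, hf.comm (-z') v, (per_neg hf hz').1, Fm.vv]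
          congr 2; module
        have hPR : R.val *ᵥ P0 = P0 := by
          conv_lhs => rw [← hRP, gl_mulVec_inv]
        have hQR : R.val *ᵥ Q0 = Q0 + f y z' • P0 := by
          rw [show Q0 = pv (Function.update (fun _ => v) i y) from rfl, ← ins_pv i, Function.update_self,
            rt_ins hf i Fm.vv hz'.1, hy.1, show P0 = pv fun _ : {i // i ≠ j} => v from rfl, ← ins_pv i (fun _ => v)]
          have e : (fun m : {m // m ≠ i} => Function.update (fun _ : {i // i ≠ j} => v) i y m.1) = fun _ => v :=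
            funext fun m => Function.update_of_ne m.2 _ _
          rw [e, ← ins_smul, ← TensorSympMax.Basic.ins_add_vec]
          congr 2; module
        rw [← mulVec_mulVec, ← mulVec_mulVec, hL, hL, mulVec_sub, mulVec_smul, mulVec_smul, hPR, hQR,
          iso_move hRiso, iso_move hRiso, hRP]
        have hRQ : (R⁻¹).val *ᵥ Q0 = Q0 - f y z' • P0 := by
          refine gl_mulVec_injective R ?_
          show R.val *ᵥ _ = R.val *ᵥ _
          rw [gl_mulVec_inv, mulVec_sub, mulVec_smul, hQR, hPR, add_sub_cancel_right]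
        rw [hRQ, Bt_subR, Bt_smulR]
        module
      have hlift : liftG j R ∈ M := by
        obtain ⟨z'', hz'', e⟩ := er_half hf Fm.vv hz'.1
        have h1 : R = rt f i v z'' * rt f i v z'' := by rw [rt, oneGL_mul, e]; rfl
        rw [h1, map_mul]
        exact S.sq _ (liftG_SI j hf ⟨oneGL_mem_stab _ _, rt_iso hf i Fm.vv hz''⟩)
      have he : ((liftG j R * x a * (liftG j R)⁻¹ : GG) : Big) = kr j (1 + a • L) 1 +
          kr j (R.val * W a * (R⁻¹).val) E := by
        rw [← map_inv, Units.val_mul, Units.val_mul, coe_liftG, coe_liftG, hxe, mul_add, add_mul, kr_mul, kr_mul,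
          kr_mul, kr_mul, one_mul, one_mul, mul_one, one_mul]
        congr 2
        rw [mul_add, mul_one, Matrix.mul_smul, hRL, add_mul, Matrix.smul_mul, mul_assoc, Units.mul_inv, mul_one]
      have h3 := huniq a _ (mul_mem (mul_mem hlift (hx a)) (inv_mem hlift)) _ he
      calc R.val * W a = R.val * W a * (R⁻¹).val * R.val := by
            rw [mul_assoc _ (R⁻¹).val, Units.inv_mul, mul_one]
        _ = W a * R.val := by rw [h3]
    have h1 := hcom z hz
    have h2 := hcom (-z) (per_neg hf hz)
    rw [coe_rt hf i Fm.vv hz.1, eN_eq hf Fm.vv hz.1, add_mul, mul_add, one_mul, mul_one, add_right_inj] at h1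
    rw [coe_rt hf i Fm.vv (per_neg hf hz).1, eN_eq hf Fm.vv (per_neg hf hz).1,
      show wd f v (-z) = -wd f v z from Matrix.mulVec_injective (funext fun t => by
        simp only [neg_mulVec, wd_mulVec hf, hf.negR]; module), neg_neg, neg_mul_neg, add_mul, mul_add, one_mul,
      mul_one, add_right_inj] at h2
    have hneg : oneM i (-wd f v z) = -(oneM i (wd f v z) : Matrix ({i // i ≠ j} → Fin k) _ F) := by
      rw [← neg_one_smul F (wd f v z), oneM_smul, neg_one_smul]
    rw [oneM_add, hneg, add_mul, mul_add] at h1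
    rw [oneM_add, add_mul, mul_add] at h2
    have h4 : (2 : F) • (W a * oneM i (wd f v z)) = (2 : F) • (oneM i (wd f v z) * W a) := by
      rw [two_smul, two_smul]
      simp only [Matrix.neg_mul, Matrix.mul_neg] at h1
      linear_combination (norm := abel) h1 - h2
    exact smul_right_injective _ hf.two h4
  have hE : ∀ a, W a * oneM i (vecMulVec v (formVec f v)) = oneM i (vecMulVec v (formVec f v)) * W a := by
    intro a
    have h : oneM i (vecMulVec v (formVec f v)) =
        (-(f y y))⁻¹ • (oneM i (wd f v y) * oneM i (wd f v y) : Matrix ({i // i ≠ j} → Fin k) _ F) := by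
      rw [oneM_mul, Alg.wd_sq hf Fm.vv hy.1, oneM_smul, inv_smul_smul₀ (neg_ne_zero.2 hyy)]
    rw [h, Matrix.mul_smul, Matrix.smul_mul, ← mul_assoc, hR y hy, mul_assoc, hR y hy, mul_assoc]
  -- on the block the coefficient vanishes
  have hW0 : ∀ a u, W a *ᵥ ins i v u = 0 := by
    obtain ⟨s, hs, c, d, hc, hsv, -, -, hsy, hcd, -⟩ := exists_killer P Fm hy hyy
    set g : GL (Fin k) F := s * s
    set g0 : GL ({i // i ≠ j} → Fin k) F := oneGL i g
    have hg0 : liftG j g0 ∈ M := by
      rw [show g0 = oneGL i s * oneGL i s from (oneGL_mul _ _ _).symm, map_mul]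
      exact S.sq _ (liftG_SI j hf ⟨oneGL_mem_stab _ _, oneGL_iso hf i hs⟩)
    have hblock : ∀ a u, W a *ᵥ ins i v u ∈ block i v := fun a u => by
      have h1 : oneM i (vecMulVec v (formVec f v)) *ᵥ ins i v' u = ins i v u := by
        rw [oneM_mulVec, ctr_ins, hf.dot, Fm.pair' hf, one_smul]
      rw [← h1, mulVec_mulVec, hE, ← mulVec_mulVec, oneM_mulVec]
      exact LinearMap.mem_range_self _ _
    have hκ : ∀ a u, W (c * d * a) *ᵥ ins i v u = W a *ᵥ ins i v u := by
      intro a u
      have hgL : g0.val * L = (c * d) • (L * g0.val) := by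
        refine Matrix.mulVec_injective (funext fun z0 => ?_)
        have hgiso : g0 ∈ isoB {i // i ≠ j} f := oneGL_iso hf i ((isoF f).mul_mem hs hs)
        have hP : g0.val *ᵥ P0 = c • P0 := by
          rw [show P0 = pv fun _ : {i // i ≠ j} => v from rfl, ← ins_pv i, oneGL_ins, hsv, ins_smul]
        have hQ' : g0.val *ᵥ Q0 = d • Q0 := by
          rw [show Q0 = pv (Function.update (fun _ => v) i y) from rfl, ← ins_pv i, oneGL_ins, Function.update_self,
            hsy, ins_smul]
        rw [smul_mulVec, ← mulVec_mulVec, ← mulVec_mulVec, hL, hL, mulVec_sub, mulVec_smul, mulVec_smul, hP, hQ']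
        have b1 : c * Bt f (g0.val *ᵥ z0) P0 = Bt f z0 P0 := by
          rw [← Bt_smulR, ← hP, hgiso]
        have b2 : d * Bt f (g0.val *ᵥ z0) Q0 = Bt f z0 Q0 := by
          rw [← Bt_smulR, ← hQ', hgiso]
        rw [← b1, ← b2]
        module
      have he : ((liftG j g0 * x a * (liftG j g0)⁻¹ : GG) : Big) = kr j (1 + (c * d * a) • L) 1 +
          kr j (g0.val * W a * (g0⁻¹).val) E := by
        rw [← map_inv, Units.val_mul, Units.val_mul, coe_liftG, coe_liftG, hxe, mul_add, add_mul, kr_mul, kr_mul,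
          kr_mul, kr_mul, one_mul, one_mul, mul_one, one_mul]
        congr 2
        rw [mul_add, mul_one, Matrix.mul_smul, hgL, add_mul, smul_smul, Matrix.smul_mul, mul_assoc, Units.mul_inv,
          mul_one, mul_comm a]
      rw [← huniq _ _ (mul_mem (mul_mem hg0 (hx a)) (inv_mem hg0)) _ he]
      obtain ⟨u', hu'⟩ := hblock a (c⁻¹ • u)
      have hgi : (g0⁻¹).val *ᵥ ins i v u = ins i v (c⁻¹ • u) := by
        refine gl_mulVec_injective g0 ?_
        show g0.val *ᵥ _ = g0.val *ᵥ _
        rw [gl_mulVec_inv, oneGL_ins, hsv, ins_smul, map_smul, smul_inv_smul₀ hc]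
      rw [← mulVec_mulVec, ← mulVec_mulVec, hgi, ← hu', oneGL_ins, hsv, ins_smul, hu', map_smul, mulVec_smul,
        smul_inv_smul₀ hc]
    have hadd : ∀ a b u, W (a + b) *ᵥ ins i v u = W a *ᵥ ins i v u + W b *ᵥ ins i v u := by
      intro a b u
      have he : ((x a * x b : GG) : Big) = kr j (1 + (a + b) • L) 1 +
          kr j (W a * (1 + b • L) + (1 + a • L) * W b) E := by
        rw [Units.val_mul, hxe, hxe, mul_add, add_mul, add_mul, kr_mul, kr_mul, kr_mul, kr_mul, mul_one, mul_one,
          one_mul, E_sq hf Fw.vv, kr_zero_right, add_zero, kr_add_left j (W a * (1 + b • L)) ((1 + a • L) * W b)]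
        have hLL : L * L = 0 := Matrix.mulVec_injective (funext fun z => by
          rw [← mulVec_mulVec, hL, hL, zero_mulVec]
          simp only [Bt_subL, Bt_smulL, hPP, hQQ, hQP, hPQ, mul_zero, sub_zero, zero_smul])
        rw [show (1 + a • L) * (1 + b • L) = 1 + (a + b) • L by
          rw [mul_add, add_mul, add_mul, one_mul, one_mul, mul_one, Matrix.smul_mul, Matrix.mul_smul, hLL, smul_zero,
            smul_zero, add_zero, add_smul]; abel]
        abel
      rw [← huniq _ _ (mul_mem (hx a) (hx b)) _ he]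
      obtain ⟨u', hu'⟩ := hblock b u
      simp only [add_mulVec, ← mulVec_mulVec, one_mulVec, smul_mulVec, hLins, smul_zero, add_zero, mulVec_add,
        mulVec_zero, ← hu']
    intro a u
    have h := hadd ((c * d - 1)⁻¹ * a) a u
    have hne : c * d - 1 ≠ 0 := sub_ne_zero.2 hcd
    rw [show (c * d - 1)⁻¹ * a + a = c * d * ((c * d - 1)⁻¹ * a) by field_simp; ring, hκ] at h
    exact left_eq_add.1 h
  -- the element is radical at the factor `i`
  have hWperp : ∀ z u, Per f v v' z → W 1 *ᵥ ins i z u ∈ block i v := by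
    intro z u hz
    have h1 : oneM i (wd f v z) *ᵥ ins i v' u = ins i z u := by
      rw [TensorPowerMax.Roots.oneM_mulVec_ins, wd_mulVec hf, Fm.pair' hf, hf.comm z v', hz.2]
      congr 2; module
    rw [← h1, mulVec_mulVec, hR z hz, ← mulVec_mulVec]
    have h2 : ctr i (formVec f v) (W 1 *ᵥ ins i v' u) = 0 := by
      refine ins_injective (Fm.ne hf) ?_
      rw [← oneM_mulVec, map_zero, mulVec_mulVec, ← hE, ← mulVec_mulVec, oneM_mulVec, ctr_ins, hf.dot, Fm.pair' hf,
        one_smul, hW0]
    rw [wd, show oneM i (vecMulVec z (formVec f v) - vecMulVec v (formVec f z)) =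
        (oneM i (vecMulVec z (formVec f v)) - oneM i (vecMulVec v (formVec f z)) :
          Matrix ({i // i ≠ j} → Fin k) _ F) from
      eq_sub_of_add_eq (by rw [← oneM_add, sub_add_cancel]), sub_mulVec, oneM_mulVec, oneM_mulVec, h2, map_zero,
      zero_sub]
    exact Submodule.neg_mem _ (LinearMap.mem_range_self _ _)
  set i0 : ι := i.1
  have hi0 : i0 ≠ j := i.2
  have hmove : ∀ (u' : W1) (r : ({i // i ≠ j} → Fin k) → F), r ∈ block i v → ins j u' r ∈ block i0 v := by
    intro u' r hr
    by_cases hu : u' = 0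
    · rw [hu, TensorSympMax.Basic.ins_zero_vec]; exact Submodule.zero_mem _
    · exact (mem_block_ins hi0 hu (Fm.ne hf)).2 hr
  have hxy : ∀ (y : Vec), (x 1 : Big) *ᵥ y - y = ∑ b, (ins j (Pi.single b 1) (L *ᵥ ctr j (Pi.single b 1) y) +
      ins j (E *ᵥ Pi.single b 1) (W 1 *ᵥ ctr j (Pi.single b 1) y)) := by
    intro y
    conv_lhs => rw [ins_sum j y, Matrix.mulVec_sum, ← Finset.sum_sub_distrib]
    refine Finset.sum_congr rfl fun b _ => ?_
    rw [hxe, one_smul, add_mulVec, kr_ins, kr_ins, one_mulVec, add_mulVec, one_mulVec, map_add]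
    abel
  have hrad : Radical f i0 v (x 1) :=
    { fix := fun u => by
        rw [← sub_eq_zero, hxy]
        refine Finset.sum_eq_zero fun b _ => ?_
        obtain ⟨r, hr⟩ : ctr j (Pi.single b 1) (ins i0 v u) ∈ block i v := by
          obtain ⟨ψ, hψ⟩ := exists_dot_eq_one (Fm.ne hf)
          have h1 : oneM i0 (vecMulVec v ψ) *ᵥ ins i0 v u = ins i0 v u := by
            rw [oneM_mulVec, ctr_ins, hψ, one_smul]
          rw [← h1, ctr_oneM hf hi0, oneM_mulVec]
          exact LinearMap.mem_range_self _ _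
        rw [← hr, hLins, hW0, map_zero, map_zero, add_zero]
      perp := fun y hy => by
        rw [hxy]
        refine Submodule.sum_mem _ fun b _ => ?_
        set r := ctr j (Pi.single b 1) y
        have hr : Perp f i v r := by
          rw [perp_iff hf]
          refine ins_injective (Fm.ne hf) ?_
          rw [map_zero, ← oneM_mulVec, ← ctr_oneM hf hi0, oneM_mulVec, (perp_iff hf).1 hy, map_zero, map_zero]
        refine Submodule.add_mem _ (hmove _ _ ?_) (hmove _ _ ?_)
        · have h0 : Bt f r P0 = 0 := by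
            rw [Bt_comm hf, show P0 = ins i v (pv fun _ : {m // m ≠ i} => v) from
              (ins_pv i fun _ : {i // i ≠ j} => v).symm]
            exact hr _
          rw [hL, h0, zero_smul, zero_sub, ← neg_smul]
          exact Submodule.smul_mem _ _ (pv_mem_block rfl)
        · refine perp_induction hf Fm i (p := fun r => W 1 *ᵥ r ∈ block i v) (fun a b ha hb => ?_) (fun u => ?_)
            (fun z hz u => hWperp z u hz) hr
          · rw [mulVec_add]; exact Submodule.add_mem _ ha hb
          · rw [hW0]; exact Submodule.zero_mem _ }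
  obtain ⟨z, hz, hxz⟩ := NR _ (hx 1) i0 v (Fm.ne hf) Fm.vv hrad
  -- the element moves a second factor
  set D := er f v z
  have hD : L = oneM i ((D : A1) - 1) := by
    refine Matrix.mulVec_injective (funext fun r => ins_injective (j := j) (Fw.ne hf) ?_)
    have h1 := congrArg (fun g : GG => (g : Big) *ᵥ ins j w r) hxz
    simp only [E, hxe, one_smul, add_mulVec, kr_ins, one_mulVec, E_mulVec hf, Fw.vv, zero_smul,
      TensorSympMax.Basic.ins_zero_vec, add_zero] at h1
    rw [rt, coe_oneGL, ← kr_oneM_ne j hi0, kr_ins, one_mulVec] at h1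
    have h2 := ins_injective (Fw.ne hf) h1
    congr 1
    rw [eq_sub_of_add_eq' h2]
    rw [show oneM i ((D : A1) - 1) = oneM i (D : A1) - (1 : Matrix ({i // i ≠ j} → Fin k) ({i // i ≠ j} → Fin k) F) from
      eq_sub_of_add_eq (by rw [← oneM_one (F := F) (m := k) i, ← oneM_add, sub_add_cancel]), sub_mulVec, one_mulVec]
  set s : {i // i ≠ j} → W1 := fun _ => v'
  have hLs : L *ᵥ pv s = Q0 := by
    rw [hL, Bt_pv hf, Bt_pv hf, Finset.prod_eq_one fun m _ => Fm.pair' hf, one_smul,
      Finset.prod_eq_zero (Finset.mem_univ i) (by simp only [s, Function.update_self, hf.comm y v', hy.2]),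
      zero_smul, sub_zero]
  have hl1 : L *ᵥ pv s ∈ block l v' := by
    rw [hD, oneM, pt_mulVec]
    exact pv_mem_block (by simp [Function.update_of_ne hli, s])
  have hl2 : L *ᵥ pv s ∈ block l v := by
    rw [hLs]; exact pv_mem_block (Function.update_of_ne hli _ _)
  have hQ0 : Q0 ≠ 0 := pv_ne_zero fun m => by
    by_cases hm : m = i
    · rw [hm, Function.update_self]; exact fun e => hyy (by rw [e, hf.zeroL])
    · rw [Function.update_of_ne hm]; exact Fm.ne hf
  refine hQ0 (hLs ▸ block_disjoint (fun e => ?_) (Fm.ne hf) hl1 hl2)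
  obtain ⟨t, ht⟩ := Submodule.mem_span_singleton.1 e
  have := Fm.pair
  rw [← ht, hf.smulR, Fm.vv, mul_zero] at this
  exact zero_ne_one this

end Cfsg.Agent.Lib.TensorPowerOrth.Upper
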