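import Cfsg.Agent.Lib.TensorPowerOrth.Pairing

/-!
A logarithm with root slices at two or more factors and scalar slices elsewhere vanishes without central
elements.
-/

set_option autoImplicit false
set_option linter.unusedSectionVars false

namespace Cfsg.Agent.Lib.TensorPowerOrth.Vanish

open Matrix
open Cfsg.Agent.Lib.Subspaces.Transvection Cfsg.Agent.Lib.Subspaces.FormVec
  Cfsg.Agent.Lib.TensorPowerMax.Basic Cfsg.Agent.Lib.TensorOrthMax.Side Cfsg.Agent.Lib.TensorOrthMax.Setup
  Cfsg.Agent.Lib.TensorPowerOrth.Form Cfsg.Agent.Lib.TensorPowerOrth.Frame Cfsg.Agent.Lib.TensorPowerOrth.Roots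
  Cfsg.Agent.Lib.TensorPowerOrth.Skew Cfsg.Agent.Lib.TensorPowerOrth.Block Cfsg.Agent.Lib.TensorPowerOrth.Upper
  Cfsg.Agent.Lib.TensorPowerOrth.Slot Cfsg.Agent.Lib.TensorPowerOrth.Slice Cfsg.Agent.Lib.TensorPowerOrth.Rad
  Cfsg.Agent.Lib.TensorPowerOrth.Steps Cfsg.Agent.Lib.TensorPowerOrth.Tuples Cfsg.Agent.Lib.TensorPowerOrth.Pairing

variable {ι : Type} [Fintype ι] [DecidableEq ι] {k : ℕ} {F : Type*} [Field F]

local notation "A1" => Matrix (Fin k) (Fin k) F
local notation "Big" => Matrix (ι → Fin k) (ι → Fin k) F
local notation "W1" => Fin k → F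

variable {f : (Fin k → F) → (Fin k → F) → F} {M : Subgroup (GL (ι → Fin k) F)} {v v' : Fin k → F}
  {S : Finset ι} {L : Matrix (ι → Fin k) (ι → Fin k) F}

/-- Exchanging both arguments at the factors of `T` gives one sign for each factor in `S`. -/
theorem flip_set (hf : Sym f) (hP : Pure f M v S L) (T : Finset ι) (s t : ι → W1) :
    Bt f (L *ᵥ pv s) (pv t) = (-1) ^ (T ∩ S).card *
      Bt f (L *ᵥ pv fun i => if i ∈ T then t i else s i) (pv fun i => if i ∈ T then s i else t i) := by
  induction T using Finset.induction_on generalizing s t with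
  | empty => simp
  | insert l T hl ih =>
    have e : Bt f (L *ᵥ pv s) (pv t) = (if l ∈ S then (-1 : F) else 1) *
        Bt f (L *ᵥ pv (Function.update s l (t l))) (pv (Function.update t l (s l))) := by
      conv_lhs => rw [← ins_pv l s, ← ins_pv l t]
      rw [pv_update, pv_update]
      split_ifs with hlS
      · exact flip_Wsp hf (hP.ins l hlS) _ _ _ _
      · exact flip_one hf (hP.out l hlS) _ _ _ _
    rw [e, ih (Function.update s l (t l)) (Function.update t l (s l)), ← mul_assoc]
    congr 1
    · by_cases hlS : l ∈ S
      · rw [if_pos hlS, Finset.insert_inter_of_mem hlS, Finset.card_insert_of_notMem (by simp [hl]), pow_succ']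
      · rw [if_neg hlS, Finset.insert_inter_of_notMem hlS, one_mul]
    · congr 3 <;> funext i <;> by_cases hi : i = l
      all_goals first
        | (subst hi; simp [hl])
        | simp [hi]

/-- An even number of root slices contradicts skewness. -/
theorem eq_zero_of_even [Finite F] (hf : Sym f) (hP : Pure f M v S L) {b : ι} (hb : b ∈ S) (he : Even S.card) :
    L = 0 := by
  refine ext_pv fun s => ?_
  rw [zero_mulVec]
  refine Bt_ext hf fun t => ?_
  rw [Bt_zeroR, Bt_comm hf]
  have h1 := flip_set hf hP Finset.univ s t
  rw [Finset.univ_inter, he.neg_one_pow, one_mul] at h1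
  simp only [Finset.mem_univ, if_true] at h1
  have h2 := (hP.lg b hb).1.skew (pv s) (pv t)
  rw [← Bt_comm hf (pv s) (L *ᵥ pv t)] at h2
  exact (mul_eq_zero.1 (show (2 : F) * Bt f (L *ᵥ pv s) (pv t) = 0 by linear_combination h1 + h2)).resolve_left hf.two

/-- A logarithm with root slices at two or more factors vanishes without central elements. -/
theorem eq_zero [Fintype F] (S0 : Setting f M) (NC : NoC f M) (Fm : Fr f v v') (hP : Pure f M v S L)
    (h2 : 2 ≤ S.card) : L = 0 := by
  classical
  have hf := S0.sym
  obtain ⟨b, hb⟩ : S.Nonempty := Finset.card_pos.1 (by omega)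
  by_cases h3 : S.card = 2
  · exact eq_zero_of_even hf hP hb (by rw [h3]; exact even_two)
  obtain ⟨e, he, hee⟩ := exists_aniso S0.par Fm
  set s0 := base S v' e
  set Ψ := L *ᵥ pv s0
  -- the pairings with anisotropic vectors vanish
  have haniso : ∀ z : ι → W1, (∀ l, Per f v v' (z l)) → (∀ l, f (z l) (z l) ≠ 0) → (∀ l ∉ S, z l = e) →
      Bt f Ψ (pv z) = 0 := by
    intro z hz hzz hze
    set c : ι → F := fun l => 2 / f (z l) (z l)
    set R : ι → A1 := fun l => 1 - c l • vecMulVec (z l) (formVec f (z l))
    have hR : ∀ l x, R l *ᵥ x = x - (2 * f x (z l) / f (z l) (z l)) • z l := fun l x => by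
      simp only [R, sub_mulVec, one_mulVec, smul_mulVec, E_mulVec hf, smul_smul, c, div_mul_eq_mul_div]
    have hout : ∀ l ∉ S, oneM l (R l) *ᵥ Ψ = -Ψ := fun l hl => by
      have : oneM l (R l) *ᵥ Ψ = ((-1 : F) • L) *ᵥ pv s0 := by
        rw [mulVec_mulVec, ← ins_pv l s0, show s0 l = e from base_out hl]
        refine mulVec_congr l (fun r s => ?_) _
        obtain ⟨t, ht⟩ := Submodule.mem_span_singleton.1 (mem_SlIn.1 (hP.out l hl) r s)
        rw [sl_mul_left, map_smul, ← ht, smul_smul, ← mulVec_mulVec, smul_mulVec, smul_mulVec, one_mulVec,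
          mulVec_smul, hR, hze l hl, mul_div_assoc, div_self hee, mul_one]
        module
      rw [this, neg_one_smul, neg_mulVec]
    have hbase : ∀ T : Finset ι, Bt f Ψ (pt (fun l => if l ∈ T then R l else 1) *ᵥ Ψ) = 0 :=
      zero_of_split (fun T' hT' => refl_orth S0 NC Fm hP (by omega) hz hzz hR hT') hout
    have hQ : ∀ T T' : Finset ι, Disjoint T T' → Bt f Ψ (pt (fun l => if l ∈ T then (1 : A1) - R l
        else if l ∈ T' then R l else 1) *ᵥ Ψ) = 0 := by
      intro T
      induction T using Finset.induction_on with
      | empty => intro T' _; simpa using hbase T'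
      | insert l T hl ih =>
        intro T' hd
        rw [Finset.disjoint_insert_left] at hd
        have e1 : (fun i => if i ∈ insert l T then (1 : A1) - R i else if i ∈ T' then R i else 1) =
            Function.update (fun i => if i ∈ T then (1 : A1) - R i else if i ∈ T' then R i else 1) l (1 - R l) :=
          funext fun i => by
            by_cases hi : i = l
            · subst hi; simp
            · simp [hi]
        have e2 : Function.update (fun i => if i ∈ T then (1 : A1) - R i else if i ∈ T' then R i else 1) l 1 =
            fun i => if i ∈ T then (1 : A1) - R i else if i ∈ T' then R i else 1 := funext fun i => by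
          by_cases hi : i = l
          · subst hi; simp [hl, hd.1]
          · simp [hi]
        have e3 : Function.update (fun i => if i ∈ T then (1 : A1) - R i else if i ∈ T' then R i else 1) l (R l) =
            fun i => if i ∈ T then (1 : A1) - R i else if i ∈ insert l T' then R i else 1 := funext fun i => by
          by_cases hi : i = l
          · subst hi; simp [hl]
          · simp [hi]
        rw [e1, pt_update_sub, e2, e3, sub_mulVec, Bt_subR, ih T' hd.2,
          ih (insert l T') (Finset.disjoint_insert_right.2 ⟨hl, hd.2⟩), sub_zero]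
    have h0 := hQ Finset.univ ∅ (Finset.disjoint_empty_right _)
    simp only [Finset.mem_univ, if_true, R, sub_sub_cancel] at h0
    rw [pt_smul, smul_mulVec, rank_one_tuple hf, Bt_smulR, Bt_smulR, mul_eq_zero, mul_self_eq_zero] at h0
    exact h0.resolve_left (Finset.prod_ne_zero_iff.2 fun l _ => div_ne_zero hf.two (hzz l))
  -- hence all pairings of the test vector
  have hper : ∀ (T : Finset ι) (t : ι → W1), (∀ l, l ∈ S → Per f v v' (t l)) → (∀ l, l ∈ S → l ∉ T → f (t l) (t l) ≠ 0) →
      (∀ l ∉ S, t l = e) → Bt f Ψ (pv t) = 0 := by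
    intro T
    induction T using Finset.induction_on with
    | empty =>
      intro t h1 h2 h3
      refine haniso t (fun l => ?_) (fun l => ?_) h3
      · by_cases hl : l ∈ S
        · exact h1 l hl
        · rw [h3 l hl]; exact he
      · by_cases hl : l ∈ S
        · exact h2 l hl (Finset.notMem_empty l)
        · rw [h3 l hl]; exact hee
    | insert l T hl ih =>
      intro t h1 h2 h3
      by_cases hlS : l ∈ S
      swap
      · exact ih t h1 (fun i hi hiT => h2 i hi (by simp [hiT]; exact fun e' => hlS (e' ▸ hi))) h3
      by_cases ht0 : t l = 0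
      · rw [← Function.update_eq_self l t, ht0, pv_update_zero, Bt_zeroR]
      have := per_induction hf Fm (p := fun y => Bt f Ψ (pv (Function.update t l y)) = 0)
        (fun a b _ _ ha hb => by rw [pv_update_add, Bt_addR, ha, hb, add_zero])
        (fun y hy hyy => ih _ (fun i hi => by
            by_cases hil : i = l
            · subst hil; rw [Function.update_self]; exact hy
            · rw [Function.update_of_ne hil]; exact h1 i hi)
          (fun i hi hiT => by
            by_cases hil : i = l
            · subst hil; rw [Function.update_self]; exact hyy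
            · rw [Function.update_of_ne hil]; exact h2 i hi (by simp [hiT, hil]))
          (fun i hi => by
            rw [Function.update_of_ne (fun e' => hi (by rw [e']; exact hlS))]; exact h3 i hi))
        (h1 l hlS) ht0
      rwa [Function.update_eq_self] at this
  have hall : ∀ (T : Finset ι) (s t : ι → W1), (∀ l ∉ T, l ∈ S → s l = v' ∧ Per f v v' (t l)) →
      (∀ l ∉ T, l ∉ S → s l = e ∧ t l = e) → Bt f (L *ᵥ pv s) (pv t) = 0 := by
    intro T
    induction T using Finset.induction_on with
    | empty =>
      intro s t h1 h2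
      have hs : s = s0 := funext fun l => by
        by_cases hl : l ∈ S
        · rw [(h1 l (Finset.notMem_empty l) hl).1, show s0 l = v' from base_in hl]
        · rw [(h2 l (Finset.notMem_empty l) hl).1, show s0 l = e from base_out hl]
      rw [hs]
      exact hper S t (fun l hl => (h1 l (Finset.notMem_empty l) hl).2) (fun l hl hlS => absurd hl hlS)
        fun l hl => (h2 l (Finset.notMem_empty l) hl).2
    | insert l T hl ih =>
      intro s t h1 h2
      rw [← ins_pv l s, ← ins_pv l t, ctr_Bt hf]
      set u : ({i // i ≠ l} → Fin k) → F := pv fun i => s i.1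
      set u' : ({i // i ≠ l} → Fin k) → F := pv fun i => t i.1
      have hrest : ∀ w w', (l ∈ S → w = v' ∧ Per f v v' w') → (l ∉ S → w = e ∧ w' = e) →
          Bt f (L *ᵥ ins l w u) (ins l w' u') = 0 := fun w w' g1 g2 => by
        have := ih (Function.update s l w) (Function.update t l w')
          (fun i hi hiS => by
            by_cases hil : i = l
            · subst hil; simpa using g1 hiS
            · simpa [hil] using h1 i (by simp [hi, hil]) hiS)
          (fun i hi hiS => by
            by_cases hil : i = l
            · subst hil; simpa using g2 hiS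
            · simpa [hil] using h2 i (by simp [hi, hil]) hiS)
        simpa only [pv_update] using this
      by_cases hlS : l ∈ S
      · set π := t l - f (t l) v' • v - f (t l) v • v'
        set π' := s l - f (s l) v' • v - f (s l) v • v'
        have e1 := hrest v' π (fun _ => ⟨rfl, per_proj hf Fm _⟩) fun h => absurd hlS h
        have e2 := hrest v' π' (fun _ => ⟨rfl, per_proj hf Fm _⟩) fun h => absurd hlS h
        rw [ctr_Bt hf] at e1 e2
        have e3 : ∀ r c, f (sl l r c L *ᵥ s l) (t l) =
            f (s l) v * f (sl l r c L *ᵥ v') π - f (t l) v * f (sl l r c L *ᵥ v') π' := fun r c => by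
          obtain ⟨Y, hY, e⟩ := (mem_Wsp hf).1 (mem_SlIn.1 (hP.ins l hlS) r c)
          rw [e]
          simp only [π, π', wd_mulVec hf, hf.subL, hf.subR, hf.smulL, hf.smulR, Fm.vv, Fm.pair, Fm.pair' hf,
            hf.comm v' Y, hY, hf.comm (s l) v, hf.comm (t l) v, hf.comm (t l) Y, hf.comm (s l) Y]
          ring
        simp only [e3, mul_sub, Finset.sum_sub_distrib, sub_mul, mul_left_comm _ (f (s l) v),
          mul_left_comm _ (f (t l) v), ← Finset.mul_sum, mul_assoc (f (s l) v), mul_assoc (f (t l) v)]
        rw [e1, e2]
        ring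
      · have e1 := hrest e e (fun h => absurd h hlS) fun _ => ⟨rfl, rfl⟩
        rw [ctr_Bt hf] at e1
        have e3 : ∀ r c, f (sl l r c L *ᵥ s l) (t l) = f (s l) (t l) / f e e * f (sl l r c L *ᵥ e) e := fun r c => by
          obtain ⟨d, hd⟩ := Submodule.mem_span_singleton.1 (mem_SlIn.1 (hP.out l hlS) r c)
          simp only [← hd, smul_mulVec, one_mulVec, hf.smulL]
          field_simp
        simp only [e3, mul_left_comm _ (f (s l) (t l) / f e e), ← Finset.mul_sum,
          mul_assoc (f (s l) (t l) / f e e)]
        rw [e1, mul_zero]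
  refine ext_pv fun s => ?_
  rw [zero_mulVec]
  refine Bt_ext hf fun t => ?_
  rw [Bt_zeroR, Bt_comm hf]
  exact hall Finset.univ s t (fun l hl => absurd (Finset.mem_univ l) hl) fun l hl => absurd (Finset.mem_univ l) hl
where
  zero_of_split {R : ι → A1} {Ψ : (ι → Fin k) → F} {S : Finset ι}
      (h : ∀ T ⊆ S, Bt f Ψ (pt (fun l => if l ∈ T then R l else 1) *ᵥ Ψ) = 0)
      (hout : ∀ l ∉ S, oneM l (R l) *ᵥ Ψ = -Ψ) (T : Finset ι) :
      Bt f Ψ (pt (fun l => if l ∈ T then R l else 1) *ᵥ Ψ) = 0 := by
    classical
    suffices H : ∀ U : Finset ι, Disjoint U S → ∀ V ⊆ S,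
        Bt f Ψ (pt (fun l => if l ∈ U ∪ V then R l else 1) *ᵥ Ψ) = 0 by
      have := H (T \ S) Finset.sdiff_disjoint (T ∩ S) Finset.inter_subset_right
      rwa [Finset.sdiff_union_inter] at this
    intro U
    induction U using Finset.induction_on with
    | empty => intro _ V hV; simpa using h V hV
    | insert m U hm ih =>
      intro hd V hV
      rw [Finset.disjoint_insert_left] at hd
      have hmV : m ∉ V := fun e => hd.1 (hV e)
      rw [pt_split' m (fun x => if x ∈ insert m U ∪ V then R x else 1), if_pos (by simp),
        show Function.update (fun x => if x ∈ insert m U ∪ V then R x else 1) m 1 =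
          fun x => if x ∈ U ∪ V then R x else 1 from funext fun x => by
            by_cases hx : x = m
            · subst hx; simp [hm, hmV]
            · simp [hx],
        ← mulVec_mulVec, hout m hd.1, mulVec_neg, Bt_negR, ih hd.2 V hV, neg_zero]

end Cfsg.Agent.Lib.TensorPowerOrth.Vanish
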